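import Mathlib
import Cfsg.Agent.Lib.Chars.Realise
import Cfsg.Agent.Lib.Chars.Integral

/-!
# Integral representations over a discrete valuation ring of a number field

For a finite group and a prime `p` there is a discrete valuation ring `O` inside `ℂ`, of residue
characteristic `p`, containing the roots of unity of the exponent, over which every complex
representation can be written.
-/

set_option autoImplicit false

namespace Cfsg.Agent.Lib.UniqueDegP

open Finset Matrix

universe u

section Stable

variable {G : Type u} [Group G] {O : Type*} [CommRing O] [IsDomain O] [IsPrincipalIdealRing O]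
  (ι : O →+* ℂ) (hι : Function.Injective ι) {n : ℕ}

/-- Coordinatewise inclusion of a vector. -/
def liftVec (v : Fin n → O) : Fin n → ℂ := fun i => ι (v i)

include hι in
/-- A lattice stable under a complex representation carries an integral form of it. -/
theorem exists_form (A : G →* Matrix (Fin n) (Fin n) ℂ) (L : Submodule O (Fin n → O)) (c : O)
    (hc : c ≠ 0) (hcL : ∀ j, Pi.single j c ∈ L)
    (hst : ∀ g, ∀ v ∈ L, ∃ w ∈ L, liftVec ι w = A g *ᵥ liftVec ι v) :
    ∃ (B : Matrix (Fin n) (Fin n) O) (R : G →* Matrix (Fin n) (Fin n) O),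
      (∀ v, v ∈ L ↔ ∃ x, B *ᵥ x = v) ∧ (∀ x, B *ᵥ x = 0 → x = 0) ∧
      (∀ g, A g * B.map ι = B.map ι * (R g).map ι) ∧
      ∀ g, ι (R g).trace = (A g).trace := by
  classical
  obtain ⟨m, b⟩ := Submodule.basisOfPid (Pi.basisFun O (Fin n)) L
  have hli : LinearIndependent O (fun i => (b i : Fin n → O)) :=
    b.linearIndependent.map' L.subtype (Submodule.ker_subtype L)
  have hcli : LinearIndependent O (fun j => (⟨Pi.single j c, hcL j⟩ : L)) := by
    refine LinearIndependent.of_comp L.subtype (Fintype.linearIndependent_iff.mpr fun g hg i => ?_)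
    have h := congrFun hg i
    simpa [Finset.sum_apply, Pi.single_apply, hc] using h
  have hmn : m = n := by
    refine le_antisymm ?_ ?_
    · simpa using hli.fintype_card_le_finrank
    · haveI : Module.Free O L := Module.Free.of_basis b
      haveI : Module.Finite O L := Module.Finite.of_basis b
      simpa [Module.finrank_eq_card_basis b] using hcli.fintype_card_le_finrank
  subst hmn
  let B : Matrix (Fin m) (Fin m) O := Matrix.of fun i j => (b j : Fin m → O) i
  have hB : ∀ x, B *ᵥ x = ∑ j, x j • (b j : Fin m → O) := fun x => by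
    ext i
    simp [B, Matrix.mulVec, dotProduct, Finset.sum_apply, mul_comm]
  have hmem : ∀ v, v ∈ L ↔ ∃ x, B *ᵥ x = v := by
    refine fun v => ⟨fun hv => ⟨fun j => b.repr ⟨v, hv⟩ j, ?_⟩, ?_⟩
    · rw [hB]
      have h := congrArg L.subtype (b.sum_repr ⟨v, hv⟩)
      simpa [-Module.Basis.sum_repr] using h
    · rintro ⟨x, rfl⟩
      rw [hB]
      exact L.sum_mem fun j _ => L.smul_mem _ (b j).2
  have hinj : ∀ x, B *ᵥ x = 0 → x = 0 := fun x hx =>
    funext (Fintype.linearIndependent_iff.mp hli x ((hB x).symm.trans hx))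
  have hdet : IsUnit (B.map ι).det := by
    rw [isUnit_iff_ne_zero]
    intro h
    have h0 : B.det = 0 := hι (by rw [map_zero, RingHom.map_det]; exact h)
    obtain ⟨x, hx0, hx⟩ := Matrix.exists_mulVec_eq_zero_iff.mpr h0
    exact hx0 (hinj x hx)
  have hcol : ∀ g j, ∃ x, liftVec ι (B *ᵥ x) = A g *ᵥ liftVec ι (fun i => B i j) := by
    intro g j
    obtain ⟨w, hw, hw'⟩ := hst g (b j : Fin m → O) (b j).2
    obtain ⟨x, rfl⟩ := (hmem w).mp hw
    exact ⟨x, hw'⟩
  choose x hx using hcol
  let R₀ : G → Matrix (Fin m) (Fin m) O := fun g => Matrix.of fun i j => x g j i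
  have hR : ∀ g, A g * B.map ι = B.map ι * (R₀ g).map ι := fun g => by
    ext i j
    have h := congrFun (hx g j) i
    simp only [liftVec, Matrix.mulVec, dotProduct, map_sum, map_mul] at h
    simp only [Matrix.mul_apply, Matrix.map_apply, R₀, Matrix.of_apply]
    exact h.symm
  have hcancel : ∀ X Y : Matrix (Fin m) (Fin m) O, B.map ι * X.map ι = B.map ι * Y.map ι → X = Y := by
    intro X Y h
    have h' := congrArg (fun Z => (B.map ι)⁻¹ * Z) h
    simp only [← Matrix.mul_assoc, Matrix.nonsing_inv_mul _ hdet, Matrix.one_mul] at h'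
    exact Matrix.map_injective hι h'
  let R : G →* Matrix (Fin m) (Fin m) O :=
    { toFun := R₀
      map_one' := hcancel _ _ (by
        rw [← hR, map_one, Matrix.map_one ι ι.map_zero ι.map_one, Matrix.one_mul, Matrix.mul_one])
      map_mul' := fun g h => hcancel _ _ (by
        rw [← hR, map_mul, Matrix.mul_assoc, hR h, ← Matrix.mul_assoc, hR g, Matrix.mul_assoc,
          Matrix.map_mul]) }
  refine ⟨B, R, hmem, hinj, hR, fun g => ?_⟩
  have h2 : (R g).map ι = (B.map ι)⁻¹ * (A g * B.map ι) := by
    rw [hR g, ← Matrix.mul_assoc, Matrix.nonsing_inv_mul _ hdet, Matrix.one_mul]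
    rfl
  have h3 : ι (R g).trace = ((R g).map ι).trace := AddMonoidHom.map_trace ι (R g)
  rw [h3, h2, Matrix.trace_mul_comm, Matrix.mul_assoc, Matrix.mul_nonsing_inv _ hdet,
    Matrix.mul_one]

include hι in
/-- A complex representation with entries in the fraction field has an integral form. -/
theorem exists_integral [Finite G] (A : G →* Matrix (Fin n) (Fin n) ℂ) (c : O) (hc : c ≠ 0)
    (hA : ∀ g i j, ι c * A g i j ∈ Set.range ι) :
    ∃ R : G →* Matrix (Fin n) (Fin n) O, ∀ g, ι (R g).trace = (A g).trace := by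
  classical
  choose a ha using hA
  let L : Submodule O (Fin n → O) :=
    Submodule.span O (Set.range fun q : G × Fin n => fun i => a q.1 i q.2)
  have hcL : ∀ j, Pi.single j c ∈ L := fun j => Submodule.subset_span ⟨(1, j), by
    refine funext fun i => hι ?_
    show ι (a 1 i j) = ι ((Pi.single j c : Fin n → O) i)
    rw [ha, map_one, Matrix.one_apply, Pi.single_apply]
    split_ifs <;> simp⟩
  obtain ⟨-, R, -, -, -, hR⟩ := exists_form ι hι A L c hc hcL fun g v hv => by
    induction hv using Submodule.span_induction with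
    | mem v hv =>
      obtain ⟨⟨h, j⟩, rfl⟩ := hv
      refine ⟨_, Submodule.subset_span ⟨(g * h, j), rfl⟩, funext fun i => ?_⟩
      simp only [liftVec, Matrix.mulVec, dotProduct, ha, map_mul, Matrix.mul_apply, Finset.mul_sum]
      exact Finset.sum_congr rfl fun k _ => by ring
    | zero => exact ⟨0, L.zero_mem, by ext i; simp [liftVec, Matrix.mulVec, dotProduct]⟩
    | add v v' _ _ h h' =>
      obtain ⟨w, hw, e⟩ := h
      obtain ⟨w', hw', e'⟩ := h'
      refine ⟨w + w', L.add_mem hw hw', ?_⟩
      have e1 : ∀ u u' : Fin n → O, liftVec ι (u + u') = liftVec ι u + liftVec ι u' := fun u u' =>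
        funext fun i => map_add ι _ _
      rw [e1, e1, e, e', Matrix.mulVec_add]
    | smul r v _ h =>
      obtain ⟨w, hw, e⟩ := h
      refine ⟨r • w, L.smul_mem r hw, ?_⟩
      have e1 : ∀ u : Fin n → O, liftVec ι (r • u) = ι r • liftVec ι u := fun u =>
        funext fun i => map_mul ι _ _
      rw [e1, e1, e, Matrix.mulVec_smul]
  exact ⟨R, hR⟩

end Stable

set_option maxHeartbeats 800000 in
/-- The base ring, with its realisations. -/
theorem exists_base (p : ℕ) [hp : Fact p.Prime] (G : Type u) [Group G] [Finite G] :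
    ∃ (O : Type) (_ : CommRing O) (_ : IsDomain O) (_ : IsDiscreteValuationRing O) (ι : O →+* ℂ),
      Function.Injective ι ∧ ¬ IsUnit (p : O) ∧
      (∀ z : ℂ, z ^ Monoid.exponent G = 1 → z ∈ Set.range ι) ∧
      ∀ {n : ℕ} (ρ : Representation ℂ G (Fin n → ℂ)),
        ∃ R : G →* Matrix (Fin n) (Fin n) O, ∀ g, ι (R g).trace = ρ.character g := by
  classical
  haveI : Fintype G := Fintype.ofFinite G
  set N := Monoid.exponent G with hNdef
  have hN0 : N ≠ 0 := Monoid.exponent_ne_zero_of_finite
  haveI : NeZero N := ⟨hN0⟩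
  set ζ : ℂ := Complex.exp (2 * Real.pi * Complex.I / N) with hζdef
  have hζ : IsPrimitiveRoot ζ N := Complex.isPrimitiveRoot_exp N hN0
  have hint : IsIntegral ℚ ζ := IsIntegral.of_pow (Nat.pos_of_ne_zero hN0)
    (by rw [hζ.pow_eq_one]; exact isIntegral_one)
  let K := IntermediateField.adjoin ℚ ({ζ} : Set ℂ)
  haveI : FiniteDimensional ℚ K := IntermediateField.adjoin.finiteDimensional hint
  haveI : NumberField K := ⟨⟩
  let Z := NumberField.RingOfIntegers K
  have hrootsK : ∀ z : ℂ, z ^ N = 1 → ∃ y : K, (y : ℂ) = z := by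
    intro z hz
    obtain ⟨i, -, rfl⟩ := hζ.eq_pow_of_pow_eq_one hz
    exact ⟨(⟨ζ, IntermediateField.mem_adjoin_simple_self ℚ ζ⟩ : K) ^ i, rfl⟩
  have hpZ : Ideal.span {(p : Z)} ≠ ⊤ := by
    rw [Ne, Ideal.span_singleton_eq_top]
    intro h
    obtain ⟨y, hy⟩ := h.exists_right_inv
    have hy' : (p : ℂ) * (((y : K)) : ℂ) = 1 := by
      have := congrArg (fun a : Z => ((a : K) : ℂ)) hy
      simpa using this
    have hyi : IsIntegral ℤ ((y : K) : ℂ) :=
      (NumberField.RingOfIntegers.isIntegral_coe y).map (K.val.restrictScalars ℤ)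
    obtain ⟨m, hm⟩ := Chars.exists_int_eq_of_isIntegral hyi ((p : ℚ)⁻¹) (by
      push_cast
      exact eq_inv_of_mul_eq_one_right hy')
    rw [hm] at hy'
    have h2 : (p : ℤ) * m = 1 := by exact_mod_cast hy'
    exact (Nat.prime_iff_prime_int.mp hp.out).not_isUnit (IsUnit.of_mul_eq_one _ h2)
  obtain ⟨P, hP, hpP⟩ := Ideal.exists_le_maximal _ hpZ
  haveI := hP.isPrime
  have hpmem : (p : Z) ∈ P := hpP (Ideal.mem_span_singleton_self _)
  have hP0 : P ≠ ⊥ := fun h => by
    rw [h, Ideal.mem_bot, Nat.cast_eq_zero] at hpmem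
    exact hp.out.ne_zero hpmem
  let O := Localization.AtPrime P
  haveI : IsDomain O := IsLocalization.isDomain_localization P.primeCompl_le_nonZeroDivisors
  haveI : IsDiscreteValuationRing O :=
    IsLocalization.AtPrime.isDiscreteValuationRing_of_dedekind_domain Z hP0 O
  have hinjO : Function.Injective (algebraMap Z O) :=
    IsLocalization.injective O P.primeCompl_le_nonZeroDivisors
  let f : Z →+* ℂ := K.val.toRingHom.comp (algebraMap Z K)
  have hf : Function.Injective f :=
    K.val.injective.comp (IsFractionRing.injective Z K)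
  let ι : O →+* ℂ := IsLocalization.lift (M := P.primeCompl) (g := f) fun y => by
    refine isUnit_iff_ne_zero.mpr fun h => ?_
    exact y.2 ((map_eq_zero_iff f hf).mp h ▸ P.zero_mem)
  have hιinj : Function.Injective ι := (IsLocalization.lift_injective_iff _).mpr fun x y =>
    ⟨fun h => congrArg f (hinjO h), fun h => congrArg _ (hf h)⟩
  have hιf : ∀ a : Z, ι (algebraMap Z O a) = f a := fun a => IsLocalization.lift_eq _ a
  refine ⟨O, inferInstance, inferInstance, inferInstance, ι, hιinj, fun hu => ?_,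
    fun z hz => ?_, fun {n} ρ => ?_⟩
  · rw [← map_natCast (algebraMap Z O)] at hu
    exact (IsLocalization.AtPrime.isUnit_to_map_iff O P _).mp hu hpmem
  · obtain ⟨y, hy⟩ := hrootsK z hz
    have hyi : IsIntegral ℤ y := IsIntegral.of_pow (Nat.pos_of_ne_zero hN0) (by
      have : y ^ N = 1 := Subtype.ext (by
        rw [SubmonoidClass.coe_pow, hy, hz]
        rfl)
      rw [this]; exact isIntegral_one)
    exact ⟨algebraMap Z O ⟨y, hyi⟩, (hιf _).trans hy⟩
  · obtain ⟨σ, ⟨φ⟩, hσ⟩ := Chars.exists_realisation (ι := K.val.toRingHom)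
      (fun z hz => hrootsK z hz) ρ
    choose a ha using hσ
    obtain ⟨⟨d, hd⟩, hdint⟩ := IsLocalization.exist_integer_multiples (nonZeroDivisors Z)
      (univ : Finset (G × Fin n × Fin n)) (fun q => a q.1 q.2.1 q.2.2) (S := K)
    obtain ⟨R, hR⟩ := exists_integral ι hιinj
      ((LinearMap.toMatrixAlgEquiv' (R := ℂ) (n := Fin n)).toAlgHom.toRingHom.toMonoidHom.comp σ)
      (algebraMap Z O d)
      (by rw [map_ne_zero_iff _ hinjO]; exact nonZeroDivisors.ne_zero hd)
      (fun g i j => by
        obtain ⟨z, hz⟩ := hdint (g, i, j) (mem_univ _)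
        refine ⟨algebraMap Z O z, ?_⟩
        rw [hιf, hιf]
        show K.val.toRingHom (algebraMap Z K z) =
          K.val.toRingHom (algebraMap Z K d) * LinearMap.toMatrix' (σ g) i j
        rw [← ha, ← map_mul]
        exact congrArg _ (hz.trans (Algebra.smul_def _ _)))
    refine ⟨R, fun g => ?_⟩
    rw [hR, Representation.char_iso φ, Representation.character,
      LinearMap.trace_eq_matrix_trace ℂ (Pi.basisFun ℂ (Fin n)),
      LinearMap.toMatrix_eq_toMatrix']
    rfl

end Cfsg.Agent.Lib.UniqueDegP
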