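import Mathlib
import Cfsg.Agent.Lib.UniqueDegP.Realise

/-!
# Lattices with indecomposable reduction

An absolutely irreducible integral representation over a discrete valuation ring is equivalent to
one whose reduction is indecomposable: take a maximal stable lattice not containing a given scaled
standard lattice.
-/

set_option autoImplicit false

namespace Cfsg.Agent.Lib.UniqueDegP

open Finset Matrix IsLocalRing

universe u

variable {G : Type u} [Group G] [Finite G] {O : Type*} [CommRing O] [IsDomain O]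
  [IsDiscreteValuationRing O] (ι : O →+* ℂ) {n : ℕ}

/-- The orthogonality relation of matrix entries, integrally. -/
theorem sum_entries [Fintype G] (hι : Function.Injective ι) (R : G →* Matrix (Fin n) (Fin n) O)
    (hsc : ∀ A : Matrix (Fin n) (Fin n) ℂ, (∀ g, (R g).map ι * A = A * (R g).map ι) →
      ∃ a : ℂ, A = a • 1) (y c : Fin n) :
    ∑ g : G, ((n : O) * R g⁻¹ c y) • R g = (Nat.card G : O) • Matrix.single y c 1 := by
  classical
  ext x b
  apply hι
  let A : Matrix (Fin n) (Fin n) ℂ := Matrix.single b c 1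
  let T : Matrix (Fin n) (Fin n) ℂ := ∑ g : G, (R g).map ι * A * (R g⁻¹).map ι
  obtain ⟨a, ha⟩ := hsc T fun h => by
    simp only [T, Finset.mul_sum, Finset.sum_mul]
    refine Fintype.sum_equiv (Equiv.mulLeft h) _ _ fun g => ?_
    simp only [Equiv.coe_mulLeft, ← Matrix.mul_assoc, ← Matrix.map_mul, ← map_mul]
    rw [_root_.mul_inv_rev, Matrix.mul_assoc _ ((R _).map ι) ((R h).map ι), ← Matrix.map_mul, ← map_mul,
      mul_assoc g⁻¹, inv_mul_cancel, mul_one]
  have htr : T.trace = (Nat.card G : ℂ) * A.trace := by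
    simp only [T, Matrix.trace_sum]
    rw [Nat.card_eq_fintype_card, ← Finset.card_univ, ← nsmul_eq_mul, ← Finset.sum_const]
    refine Finset.sum_congr rfl fun g _ => ?_
    rw [Matrix.trace_mul_comm, ← Matrix.mul_assoc, ← Matrix.map_mul, ← map_mul, inv_mul_cancel,
      map_one, Matrix.map_one ι ι.map_zero ι.map_one, Matrix.one_mul]
  have hxy := congrFun (congrFun ha x) y
  rw [ha, Matrix.trace_smul, Matrix.trace_one, Fintype.card_fin, smul_eq_mul] at htr
  have hT : T x y = ∑ g : G, ι (R g x b) * ι (R g⁻¹ c y) := by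
    simp only [T, A, Matrix.sum_apply, Matrix.mul_apply, Matrix.map_apply, Matrix.single_apply]
    refine Finset.sum_congr rfl fun g _ => ?_
    rw [Finset.sum_eq_single c (fun j _ hj => ?_) (by simp)]
    · rw [Finset.sum_eq_single b (fun i _ hi => by rw [if_neg (fun h => hi h.1.symm), mul_zero])
        (by simp), if_pos ⟨rfl, rfl⟩, mul_one]
    · rw [Finset.sum_eq_zero fun i _ => by rw [if_neg (fun h => hj h.2.symm), mul_zero], zero_mul]
  rw [hT, Matrix.smul_apply, Matrix.one_apply, smul_eq_mul] at hxy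
  simp only [Matrix.sum_apply, Matrix.smul_apply, smul_eq_mul, map_sum, map_mul, map_natCast,
    Matrix.single_apply, apply_ite ι, map_one, map_zero]
  calc ∑ g : G, (n : ℂ) * ι (R g⁻¹ c y) * ι (R g x b)
      = (n : ℂ) * ∑ g : G, ι (R g x b) * ι (R g⁻¹ c y) := by
        rw [Finset.mul_sum]; exact Finset.sum_congr rfl fun g _ => by ring
    _ = _ := ?_
  rw [hxy]
  simp only [A] at htr
  rcases eq_or_ne b c with h | h
  · subst h
    rw [Matrix.trace_single_eq_same] at htr
    rcases eq_or_ne x y with h' | h'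
    · subst h'
      simpa [Nat.card_eq_fintype_card, mul_comm] using htr
    · simp [h', Ne.symm h']
  · rw [Matrix.trace_single_eq_of_ne _ _ _ h, mul_zero] at htr
    simp only [Ne.symm h, and_false, if_false, mul_zero]
    rcases eq_or_ne x y with h' | h'
    · simp only [h', if_true, mul_one]
      rw [mul_comm, htr]
    · simp [h']

/-- The reduction of a matrix. -/
noncomputable abbrev redMat (X : Matrix (Fin n) (Fin n) O) :
    Matrix (Fin n) (Fin n) (ResidueField O) :=
  X.map (residue O)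

/-- The reduction of a vector. -/
noncomputable abbrev redVec (v : Fin n → O) : Fin n → ResidueField O := fun i => residue O (v i)

theorem redMat_mulVec (X : Matrix (Fin n) (Fin n) O) (v : Fin n → O) :
    redVec (X *ᵥ v) = redMat X *ᵥ redVec v := funext fun i => RingHom.map_mulVec _ X v i

theorem redVec_eq_zero_iff {ϖ : O} (hϖ : Irreducible ϖ) {v : Fin n → O} :
    redVec v = 0 ↔ ∃ w, v = ϖ • w := by
  have hm : ∀ a : O, residue O a = 0 ↔ ∃ b, a = ϖ * b := fun a => by
    rw [residue_eq_zero_iff, hϖ.maximalIdeal_eq, Ideal.mem_span_singleton]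
    exact ⟨fun ⟨b, hb⟩ => ⟨b, hb⟩, fun ⟨b, hb⟩ => ⟨b, hb⟩⟩
  refine ⟨fun h => ?_, ?_⟩
  · choose w hw using fun i => (hm (v i)).mp (congrFun h i)
    exact ⟨w, funext hw⟩
  · rintro ⟨w, rfl⟩
    exact funext fun i => (hm _).mpr ⟨w i, rfl⟩

set_option maxHeartbeats 800000 in
/-- An absolutely irreducible representation has a form with indecomposable reduction. -/
theorem exists_indecomposable (hι : Function.Injective ι) (R₀ : G →* Matrix (Fin n) (Fin n) O)
    (hsc : ∀ A : Matrix (Fin n) (Fin n) ℂ, (∀ g, (R₀ g).map ι * A = A * (R₀ g).map ι) →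
      ∃ a : ℂ, A = a • 1) :
    ∃ R : G →* Matrix (Fin n) (Fin n) O, (∀ g, (R g).trace = (R₀ g).trace) ∧
      ∀ e : Matrix (Fin n) (Fin n) (ResidueField O), e * e = e →
        (∀ g, e * redMat (R g) = redMat (R g) * e) → e = 0 ∨ e = 1 := by
  classical
  cases nonempty_fintype G
  rcases Nat.eq_zero_or_pos n with hn | hn
  · subst hn
    exact ⟨R₀, fun g => rfl, fun e _ _ => Or.inl (Subsingleton.elim _ _)⟩
  obtain ⟨ϖ, hϖ⟩ := IsDiscreteValuationRing.exists_irreducible O
  set d : O := (Nat.card G : O) with hddef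
  have hd : d ≠ 0 := fun h => by
    have h' := congrArg ι h
    rw [map_zero, hddef, map_natCast, Nat.cast_eq_zero] at h'
    exact Nat.card_pos.ne' h'
  let Stab : Submodule O (Fin n → O) → Prop := fun L => ∀ g, ∀ v ∈ L, R₀ g *ᵥ v ∈ L
  let F : Set (Submodule O (Fin n → O)) :=
    {L | Stab L ∧ (∀ j, Pi.single j (ϖ * d) ∈ L) ∧ ¬ ∀ j, Pi.single j d ∈ L}
  -- such lattices lie in the multiples of the uniformiser
  have hsmall : ∀ L ∈ F, ∀ v ∈ L, ∃ w, v = ϖ • w := by
    rintro L ⟨hst, -, hnot⟩ v hv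
    rw [← redVec_eq_zero_iff hϖ]
    by_contra hne
    obtain ⟨c, hc⟩ : ∃ c, residue O (v c) ≠ 0 := by
      by_contra! h
      exact hne (funext h)
    obtain ⟨u, hu⟩ := residue_ne_zero_iff_isUnit _ |>.mp hc
    refine hnot fun y => ?_
    have h1 : ∑ g : G, ((n : O) * R₀ g⁻¹ c y) • (R₀ g *ᵥ v) ∈ L :=
      L.sum_mem fun g _ => L.smul_mem _ (hst g v hv)
    have h2 : ∑ g : G, ((n : O) * R₀ g⁻¹ c y) • (R₀ g *ᵥ v) = (v c) • Pi.single y d := by
      simp only [← Matrix.smul_mulVec]
      rw [← Matrix.sum_mulVec, sum_entries ι hι R₀ hsc y c, Matrix.smul_mulVec]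
      ext i
      simp [Matrix.mulVec, dotProduct, Matrix.single_apply, Pi.single_apply, mul_comm,
        eq_comm (a := i), hddef, ite_and, Finset.sum_ite_eq]
    rw [h2, ← hu] at h1
    have h3 := L.smul_mem ((u⁻¹ : Oˣ) : O) h1
    rwa [smul_smul, Units.inv_mul, one_smul] at h3
  have hF : F.Nonempty := by
    refine ⟨LinearMap.range ((ϖ * d) • (LinearMap.id : (Fin n → O) →ₗ[O] (Fin n → O))), ?_,
      fun j => ⟨Pi.single j 1, by ext i; simp [Pi.single_apply]⟩, fun h => ?_⟩
    · rintro g _ ⟨w, rfl⟩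
      exact ⟨R₀ g *ᵥ w, by simp [Matrix.mulVec_smul]⟩
    · obtain ⟨w, hw⟩ := h ⟨0, hn⟩
      have h0 := congrFun hw ⟨0, hn⟩
      simp only [LinearMap.smul_apply, LinearMap.id_apply, Pi.smul_apply, smul_eq_mul,
        Pi.single_eq_same] at h0
      have h1 : ϖ * w ⟨0, hn⟩ = 1 :=
        mul_right_cancel₀ hd (by linear_combination h0)
      exact hϖ.not_isUnit (IsUnit.of_mul_eq_one _ h1)
  obtain ⟨L, hLF, hLmax⟩ :=
    (wellFounded_gt (α := Submodule O (Fin n → O))).has_min F hF
  obtain ⟨hst, hcont, hnot⟩ := hLF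
  let A : G →* Matrix (Fin n) (Fin n) ℂ := (RingHom.mapMatrix ι).toMonoidHom.comp R₀
  obtain ⟨B, R, hB, hBinj, hBR, hRtr⟩ := exists_form ι hι A L (ϖ * d)
    (mul_ne_zero hϖ.ne_zero hd) hcont fun g v hv =>
      ⟨_, hst g v hv, funext fun i => RingHom.map_mulVec ι (R₀ g) v i⟩
  have hBR' : ∀ g, R₀ g * B = B * R g := fun g => Matrix.map_injective hι (by
    show (R₀ g * B).map ι = (B * R g).map ι
    rw [Matrix.map_mul, Matrix.map_mul]; exact hBR g)
  refine ⟨R, fun g => hι ((hRtr g).trans (AddMonoidHom.map_trace ι (R₀ g)).symm), fun e he hc => ?_⟩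
  by_contra hne
  push Not at hne
  -- the two enlargements
  let pre : Matrix (Fin n) (Fin n) (ResidueField O) → Set (Fin n → O) := fun f =>
    {v | ∃ x, B *ᵥ x = ϖ • v ∧ f *ᵥ redVec x = redVec x}
  have hpre : ∀ f : Matrix (Fin n) (Fin n) (ResidueField O),
      ∃ L' : Submodule O (Fin n → O), ∀ v, v ∈ L' ↔ v ∈ pre f := by
    intro f
    refine ⟨{ carrier := pre f, add_mem' := ?_, zero_mem' := ?_, smul_mem' := ?_ }, fun v => Iff.rfl⟩
    · rintro a b ⟨x, hx, hx'⟩ ⟨z, hz, hz'⟩
      refine ⟨x + z, by rw [Matrix.mulVec_add, hx, hz, smul_add], ?_⟩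
      have : redVec (x + z) = redVec x + redVec z := funext fun i => map_add _ _ _
      rw [this, Matrix.mulVec_add, hx', hz']
    · refine ⟨0, by simp, ?_⟩
      have : redVec (0 : Fin n → O) = 0 := funext fun i => map_zero _
      rw [this, Matrix.mulVec_zero]
    · rintro r a ⟨x, hx, hx'⟩
      refine ⟨r • x, by rw [Matrix.mulVec_smul, hx, smul_comm], ?_⟩
      have : redVec (r • x) = residue O r • redVec x := funext fun i => map_mul _ _ _
      rw [this, Matrix.mulVec_smul, hx']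
  choose Lf hLf using hpre
  have key : ∀ f : Matrix (Fin n) (Fin n) (ResidueField O), f * f = f → f ≠ 0 →
      (∀ g, f * redMat (R g) = redMat (R g) * f) → ∀ j, Pi.single j d ∈ Lf f := by
    intro f hf hf0 hfc
    have hle : ∀ v ∈ L, v ∈ Lf f := by
      intro v hv
      obtain ⟨x, rfl⟩ := (hB v).mp hv
      refine (hLf f _).mpr ⟨ϖ • x, Matrix.mulVec_smul _ _ _, ?_⟩
      rw [(redVec_eq_zero_iff hϖ).mpr ⟨x, rfl⟩, Matrix.mulVec_zero]
    have hstf : Stab (Lf f) := by
      intro g v hv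
      obtain ⟨x, hx, hx'⟩ := (hLf f v).mp hv
      refine (hLf f _).mpr ⟨R g *ᵥ x, ?_, ?_⟩
      · rw [Matrix.mulVec_mulVec, ← hBR', ← Matrix.mulVec_mulVec, hx, Matrix.mulVec_smul]
      · rw [redMat_mulVec, Matrix.mulVec_mulVec, hfc, ← Matrix.mulVec_mulVec, hx']
    have hlt : L < Lf f := by
      refine lt_of_le_of_ne hle fun heq => ?_
      obtain ⟨i, j, hij⟩ : ∃ i j, f i j ≠ 0 := by
        by_contra! h
        exact hf0 (Matrix.ext h)
      obtain ⟨x, hx⟩ : ∃ x : Fin n → O, redVec x = fun i => f i j :=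
        ⟨fun i => (residue_surjective (f i j)).choose,
          funext fun i => (residue_surjective (f i j)).choose_spec⟩
      obtain ⟨w, hw⟩ := hsmall L ⟨hst, hcont, hnot⟩ (B *ᵥ x) ((hB _).mpr ⟨x, rfl⟩)
      have hwL : w ∈ L := heq ▸ (hLf f w).mpr ⟨x, hw, by
        rw [hx]
        funext l
        exact congrFun (congrFun hf l) j⟩
      obtain ⟨x', hx'⟩ := (hB w).mp hwL
      have hxx : x = ϖ • x' := sub_eq_zero.mp (hBinj _ (by
        rw [Matrix.mulVec_sub, hw, Matrix.mulVec_smul, hx', sub_self]))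
      have := congrFun hx i
      rw [(redVec_eq_zero_iff hϖ).mpr ⟨x', hxx⟩] at this
      exact hij this.symm
    by_contra hcon
    exact hLmax (Lf f) ⟨hstf, fun j => hle _ (hcont j), hcon⟩ hlt
  have he1 : 1 - e ≠ 0 := sub_ne_zero.mpr (Ne.symm hne.2)
  have k1 := key e he hne.1 hc
  have k2 := key (1 - e) (by rw [mul_sub, mul_one, sub_mul, one_mul, he, sub_self, sub_zero]) he1
    (fun g => by rw [sub_mul, mul_sub, one_mul, mul_one, hc g])
  refine hnot fun j => ?_
  obtain ⟨x, hx, hx'⟩ := (hLf _ _).mp (k1 j)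
  obtain ⟨z, hz, hz'⟩ := (hLf _ _).mp (k2 j)
  have hxz : x = z := sub_eq_zero.mp (hBinj _ (by rw [Matrix.mulVec_sub, hx, hz, sub_self]))
  subst hxz
  rw [Matrix.sub_mulVec, Matrix.one_mulVec, hx', sub_self] at hz'
  obtain ⟨w, rfl⟩ := (redVec_eq_zero_iff hϖ).mp hz'.symm
  rw [Matrix.mulVec_smul] at hx
  exact (hB _).mpr ⟨w, smul_right_injective _ hϖ.ne_zero hx⟩

end Cfsg.Agent.Lib.UniqueDegP
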