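import Mathlib
import Cfsg.Agent.Lib.UniqueDegP.Lattice

/-!
# Fixed points of an element of order `p` on a lattice and on its reduction
-/

set_option autoImplicit false

namespace Cfsg.Agent.Lib.UniqueDegP

open Finset Matrix IsLocalRing

section Field

variable {p : ℕ} [Fact p.Prime] {k : Type*} [Field k] [CharP k p] {W : Type*} [AddCommGroup W]
  [Module k W]

/-- In characteristic `p` the sum of the powers below `p` is a power of `U - 1`. -/
theorem sum_range_pow_eq (U : Module.End k W) : ∑ i ∈ range p, U ^ i = (U - 1) ^ (p - 1) := by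
  have hX : (∑ i ∈ range p, (Polynomial.X : Polynomial k) ^ i) = (Polynomial.X - 1) ^ (p - 1) := by
    refine mul_right_cancel₀ (b := (Polynomial.X - 1 : Polynomial k)) ?_ ?_
    · rw [← Polynomial.C_1]
      exact Polynomial.X_sub_C_ne_zero 1
    rw [geom_sum_mul, ← pow_succ, Nat.sub_add_cancel (Fact.out : p.Prime).one_le,
      sub_pow_char, one_pow]
  have h := congrArg (Polynomial.aeval U) hX
  simpa using h

/-- An element of order `p` is unipotent. -/
theorem sub_one_pow_eq_zero {U : Module.End k W} (hU : U ^ p = 1) : (U - 1) ^ p = 0 := by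
  have h := geom_sum_mul U p
  rw [hU, sub_self, sum_range_pow_eq, ← pow_succ,
    Nat.sub_add_cancel (Fact.out : p.Prime).one_le] at h
  exact h

omit [Fact p.Prime] [CharP k p] in
/-- The translates of independent top elements are independent. -/
theorem linearIndependent_pow {x : Module.End k W} {q a : ℕ} (hx : x ^ (q + 1) = 0) {y : Fin a → W}
    (hy : LinearIndependent k fun i => (x ^ q) (y i)) :
    LinearIndependent k fun t : Fin (q + 1) × Fin a => (x ^ (t.1 : ℕ)) (y t.2) := by
  classical
  rw [Fintype.linearIndependent_iff] at hy ⊢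
  intro c hc
  by_contra! h
  obtain ⟨t₀, ht₀⟩ := h
  obtain ⟨s, hs, hmin⟩ := ((univ : Finset (Fin (q + 1))).filter fun s => ∃ i, c (s, i) ≠ 0)
    |>.exists_min_image (fun s : Fin (q + 1) => (s : ℕ))
      ⟨t₀.1, mem_filter.mpr ⟨mem_univ _, t₀.2, ht₀⟩⟩
  obtain ⟨-, i₀, hi₀⟩ := mem_filter.mp hs
  have h1 := congrArg (x ^ (q - (s : ℕ))) hc
  rw [map_sum, map_zero, Fintype.sum_prod_type, Finset.sum_eq_single s] at h1
  · refine hi₀ (hy (fun i => c (s, i)) ?_ i₀)
    rw [← h1]
    refine sum_congr rfl fun i _ => ?_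
    rw [map_smul, ← Module.End.mul_apply, ← pow_add, Nat.sub_add_cancel (by omega)]
  · intro r _ hrs
    refine sum_eq_zero fun i _ => ?_
    rw [map_smul, ← Module.End.mul_apply, ← pow_add]
    rcases lt_or_gt_of_ne hrs with hlt | hgt
    · rw [not_not.mp fun h => absurd (hmin r (mem_filter.mpr ⟨mem_univ _, i, h⟩)) (by omega),
        zero_smul]
    · rw [show q - (s : ℕ) + (r : ℕ) = q + 1 + ((r : ℕ) - (s : ℕ) - 1) by omega, pow_add, hx,
        zero_mul, LinearMap.zero_apply, smul_zero]
  · exact fun h => absurd (mem_univ s) h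

/-- Independent norms need `p` dimensions each. -/
theorem mul_le_finrank [FiniteDimensional k W] {U : Module.End k W} (hU : U ^ p = 1) {a : ℕ}
    {v : Fin a → W} (hv : LinearIndependent k v)
    (hnorm : ∀ i, ∃ y, v i = (∑ j ∈ range p, U ^ j) y) : p * a ≤ Module.finrank k W := by
  choose y hy using hnorm
  have hp1 : p - 1 + 1 = p := Nat.sub_add_cancel (Fact.out : p.Prime).one_le
  have h := (linearIndependent_pow (x := U - 1) (q := p - 1)
    (by rw [hp1]; exact sub_one_pow_eq_zero hU) (y := y) (by
      convert hv using 1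
      funext i
      rw [hy i, sum_range_pow_eq])).fintype_card_le_finrank
  rwa [Fintype.card_prod, Fintype.card_fin, Fintype.card_fin, hp1] at h

end Field

variable {O : Type*} [CommRing O] [IsDomain O] [IsDiscreteValuationRing O] {n p : ℕ}

/-- The reduced fixed points of an element of order `p`. -/
theorem exists_fixed_basis (ι : O →+* ℂ) (hι : Function.Injective ι) (hp : p ≠ 0)
    (U : Matrix (Fin n) (Fin n) O) (hU : U ^ p = 1) {a : ℕ}
    (htr : ι (∑ i ∈ range p, U ^ i).trace = (p : ℂ) * a) :
    ∃ b : Fin a → (Fin n → O), (∀ i, U *ᵥ b i = b i) ∧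
      LinearIndependent (ResidueField O) (fun i => redVec (b i)) := by
  classical
  obtain ⟨ϖ, hϖ⟩ := IsDiscreteValuationRing.exists_irreducible O
  let L : Submodule O (Fin n → O) := LinearMap.ker (Matrix.toLin' U - 1)
  have hL : ∀ v, v ∈ L ↔ U *ᵥ v = v := fun v => by
    rw [LinearMap.mem_ker, LinearMap.sub_apply, Module.End.one_apply, Matrix.toLin'_apply,
      sub_eq_zero]
  obtain ⟨m, b⟩ := Submodule.basisOfPid (Pi.basisFun O (Fin n)) L
  haveI : Module.Free O L := Module.Free.of_basis b
  haveI : Module.Finite O L := Module.Finite.of_basis b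
  set N : Matrix (Fin n) (Fin n) O := ∑ i ∈ range p, U ^ i
  have hUN : U * N = N := by
    simp only [N, Finset.mul_sum, ← pow_succ']
    refine add_right_cancel (b := U ^ 0) ?_
    rw [← sum_range_succ' (fun i => U ^ i), sum_range_succ, hU, pow_zero]
  let q : (Fin n → O) →ₗ[O] L := (Matrix.toLin' N).codRestrict L fun v => (hL _).mpr (by
    rw [Matrix.toLin'_apply, Matrix.mulVec_mulVec, hUN])
  have hqi : q.comp L.subtype = (p : O) • LinearMap.id := by
    refine LinearMap.ext fun v => Subtype.ext ?_
    show N *ᵥ (v : Fin n → O) = (p : O) • (v : Fin n → O)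
    have hpow : ∀ i : ℕ, U ^ i *ᵥ (v : Fin n → O) = v := fun i => by
      induction i with
      | zero => rw [pow_zero, Matrix.one_mulVec]
      | succ i ih => rw [pow_succ, ← Matrix.mulVec_mulVec, (hL _).mp v.2, ih]
    simp only [N, Matrix.sum_mulVec, hpow, sum_const, card_range, Nat.cast_smul_eq_nsmul]
  have hma : m = a := by
    have h1 : N.trace = (p : O) * m := by
      rw [← Matrix.trace_toLin'_eq, show Matrix.toLin' N = L.subtype.comp q from
        (LinearMap.subtype_comp_codRestrict _ _ _).symm, LinearMap.trace_comp_comm', hqi, map_smul,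
        LinearMap.trace_id, Module.finrank_eq_card_basis b, Fintype.card_fin, smul_eq_mul]
    rw [h1, map_mul, map_natCast, map_natCast] at htr
    exact_mod_cast mul_left_cancel₀ (Nat.cast_ne_zero.mpr hp) htr
  subst hma
  refine ⟨fun i => b i, fun i => (hL _).mp (b i).2, ?_⟩
  rw [Fintype.linearIndependent_iff]
  intro c hc
  choose d hd using fun i => residue_surjective (c i)
  have h0 : redVec (∑ i, d i • (b i : Fin n → O)) = 0 := by
    rw [← hc]
    funext l
    simp [redVec, Finset.sum_apply, hd]
  obtain ⟨w, hw⟩ := (redVec_eq_zero_iff hϖ).mp h0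
  have hwL : w ∈ L := by
    rw [hL]
    refine smul_right_injective (Fin n → O) hϖ.ne_zero ?_
    show ϖ • (U *ᵥ w) = ϖ • w
    rw [← Matrix.mulVec_smul, ← hw]
    exact (hL _).mp (L.sum_mem fun i _ => L.smul_mem _ (b i).2)
  intro i
  have hrepr : d i = ϖ * b.repr ⟨w, hwL⟩ i := by
    have h2 : ∑ i, d i • b i = ϖ • (⟨w, hwL⟩ : L) := Subtype.ext (by simpa using hw)
    have h3 := congrArg (fun z => b.repr z i) h2
    simp only [map_smul, b.repr_sum_self, Finsupp.smul_apply, smul_eq_mul] at h3
    exact h3
  rw [← hd i, hrepr, map_mul, show residue O ϖ = 0 by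
    rw [residue_eq_zero_iff, hϖ.maximalIdeal_eq]; exact Ideal.mem_span_singleton_self _, zero_mul]

end Cfsg.Agent.Lib.UniqueDegP
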