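import Mathlib

/-!
# A cyclic summand generated by an eigenvector

A space with a nilpotent operator `x` and an operator `g` of finite order prime to the
characteristic which normalises the polynomials in `x` has a direct summand, stable under both,
generated by an eigenvector of `g`.
-/

set_option autoImplicit false

namespace Cfsg.Agent.Lib.UniqueDegP

open Finset

variable {k : Type*} [Field k] {W : Type*} [AddCommGroup W] [Module k W]

/-- The eigencomponents of an operator of finite order. -/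
theorem exists_eigen_not_mem {g : Module.End k W} {N : ℕ} (hN : (N : k) ≠ 0)
    (hroot : ∃ ω : k, IsPrimitiveRoot ω N) (hg : g ^ N = 1) (K : Submodule k W) (hK : K ≠ ⊤) :
    ∃ (ζ : k) (y : W), g y = ζ • y ∧ y ∉ K := by
  classical
  have hN0 : N ≠ 0 := fun h => hN (by rw [h, Nat.cast_zero])
  obtain ⟨ω, hω⟩ := hroot
  by_contra hcon
  push Not at hcon
  refine hK (Submodule.eq_top_iff'.2 fun v => ?_)
  let e : ℕ → W := fun j => ∑ i ∈ range N, (ω ^ (i * j)) • (g ^ i) v
  have hωN : ω ^ N = 1 := hω.pow_eq_one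
  have heig : ∀ j ∈ range N, g (e j) = ((ω ^ j)⁻¹) • e j := by
    intro j _
    have hne : ω ^ j ≠ 0 := pow_ne_zero _ (hω.ne_zero hN0)
    rw [eq_inv_smul_iff₀ hne]
    simp only [e, map_sum, map_smul, Finset.smul_sum, smul_smul]
    have h1 : ∀ i, g ((g ^ i) v) = (g ^ (i + 1)) v := fun i => by rw [pow_succ']; rfl
    simp only [h1]
    let F : ℕ → W := fun i => (ω ^ (i * j)) • (g ^ i) v
    have h2 : ∀ i, (ω ^ j * ω ^ (i * j)) • (g ^ (i + 1)) v = F (i + 1) := fun i => by
      show _ = (ω ^ ((i + 1) * j)) • (g ^ (i + 1)) v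
      rw [← pow_add, show j + i * j = (i + 1) * j by ring]
    simp only [h2]
    show _ = ∑ i ∈ range N, F i
    refine add_right_cancel (b := F 0) ?_
    rw [← Finset.sum_range_succ', Finset.sum_range_succ]
    simp only [F, Nat.zero_mul, pow_zero, hg, pow_mul, hωN, one_pow]
  have hmem : ∀ j ∈ range N, e j ∈ K := fun j hj => hcon _ _ (heig j hj)
  have hsum : ∑ j ∈ range N, e j = (N : k) • v := by
    simp only [e]
    rw [Finset.sum_comm, Finset.sum_eq_single 0]
    · simp [Finset.sum_const, ← Nat.cast_smul_eq_nsmul k]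
    · intro i hi hi0
      rw [← Finset.sum_smul]
      simp only [pow_mul]
      rw [show ∑ j ∈ range N, (ω ^ i) ^ j = 0 from ?_, zero_smul]
      have h1 : ω ^ i ≠ 1 := hω.pow_ne_one_of_pos_of_lt hi0 (Finset.mem_range.1 hi)
      rw [geom_sum_eq h1, ← pow_mul, mul_comm i N, pow_mul, hωN, one_pow, sub_self, zero_div]
    · intro h
      exact absurd (Finset.mem_range.2 (Nat.pos_of_ne_zero hN0)) h
  have h := K.smul_mem (N : k)⁻¹ (hsum ▸ K.sum_mem hmem)
  rwa [smul_smul, inv_mul_cancel₀ hN, one_smul] at h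

variable [FiniteDimensional k W]

set_option maxHeartbeats 800000 in
/-- A summand generated by an eigenvector. -/
theorem exists_summand [Nontrivial W] {x g c : Module.End k W} {N : ℕ}
    (hN : (N : k) ≠ 0) (hroot : ∃ ω : k, IsPrimitiveRoot ω N) (hg : g ^ N = 1) (hx : IsNilpotent x)
    (hc : c ∈ Algebra.adjoin k ({x} : Set (Module.End k W))) (hgx : g * x = x * c * g) :
    ∃ (ε : Module.End k W) (ζ : k) (y : W), ε * ε = ε ∧ ε y = y ∧ y ≠ 0 ∧ ε * x = x * ε ∧
      ε * g = g * ε ∧ g y = ζ • y ∧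
      (∀ w, ∃ a ∈ Algebra.adjoin k ({x} : Set (Module.End k W)), ε w = a y) ∧
      ∃ j, x ^ (j + 1) = 0 ∧ (x ^ j) y ≠ 0 := by
  classical
  set A := Algebra.adjoin k ({x} : Set (Module.End k W)) with hA
  have hxA : x ∈ A := Algebra.subset_adjoin (Set.mem_singleton x)
  have hcomm : ∀ a ∈ A, Commute a x := fun a ha => by
    induction ha using Algebra.adjoin_induction with
    | mem a ha => rw [Set.mem_singleton_iff.1 ha]
    | algebraMap r => exact Algebra.commutes r x
    | add a b _ _ h h' => exact h.add_left h'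
    | mul a b _ _ h h' => exact h.mul_left h'
  have hN0 : N ≠ 0 := fun h => hN (by rw [h, Nat.cast_zero])
  set gi := g ^ (N - 1) with hgi
  have hgi1 : g * gi = 1 := by rw [hgi, ← pow_succ', Nat.sub_add_cancel (Nat.pos_of_ne_zero hN0), hg]
  have hgi2 : gi * g = 1 := by rw [hgi, ← pow_succ, Nat.sub_add_cancel (Nat.pos_of_ne_zero hN0), hg]
  -- conjugation by `g` stabilises the polynomials in `x`
  have hconj : ∀ a ∈ A, g * a * gi ∈ A := fun a ha => by
    induction ha using Algebra.adjoin_induction with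
    | mem a ha =>
      rw [Set.mem_singleton_iff.1 ha, hgx, mul_assoc, hgi1, mul_one]
      exact mul_mem hxA hc
    | algebraMap r =>
      rw [← Algebra.commutes r g, mul_assoc, hgi1, mul_one]
      exact A.algebraMap_mem r
    | add a b _ _ h h' => rw [mul_add, add_mul]; exact add_mem h h'
    | mul a b _ _ h h' =>
      have h'' : g * (a * b) * gi = g * a * gi * (g * b * gi) := by
        simp only [mul_assoc]
        rw [← mul_assoc gi g, hgi2, one_mul]
      rw [h'']
      exact mul_mem h h'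
  have hconjn : ∀ i : ℕ, ∀ a ∈ A, g ^ i * a * gi ^ i ∈ A := fun i => by
    induction i with
    | zero => intro a ha; simpa using ha
    | succ i ih =>
      intro a ha
      rw [pow_succ, pow_succ', show g ^ i * g * a * (gi * gi ^ i) = g ^ i * (g * a * gi) * gi ^ i by
        simp only [mul_assoc]]
      exact ih _ (hconj a ha)
  -- the nilpotency index
  set j := Nat.find hx with hjdef
  have hj : x ^ j = 0 := Nat.find_spec hx
  have hj0 : j ≠ 0 := fun h => by
    rw [h, pow_zero] at hj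
    exact one_ne_zero hj
  have hjlt : x ^ (j - 1) ≠ 0 := Nat.find_min hx (Nat.sub_lt (Nat.pos_of_ne_zero hj0) one_pos)
  have hK : LinearMap.ker (x ^ (j - 1)) ≠ ⊤ := fun h => hjlt (LinearMap.ker_eq_top.1 h)
  obtain ⟨ζ, y, hgy, hyK⟩ := exists_eigen_not_mem hN hroot hg _ hK
  have hy0 : y ≠ 0 := fun h => hyK (h ▸ zero_mem _)
  rw [LinearMap.mem_ker] at hyK
  obtain ⟨lam, hlam⟩ : ∃ lam : W →ₗ[k] k, lam ((x ^ (j - 1)) y) = 1 := by
    obtain ⟨f, hf⟩ : ∃ f : W →ₗ[k] k, f ((x ^ (j - 1)) y) ≠ 0 := by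
      by_contra hcon
      push Not at hcon
      exact hyK ((Module.forall_dual_apply_eq_zero_iff k _).1 hcon)
    exact ⟨(f ((x ^ (j - 1)) y))⁻¹ • f, by rw [LinearMap.smul_apply, smul_eq_mul, inv_mul_cancel₀ hf]⟩
  -- the projection commuting with `x`
  let r : Module.End k W := ∑ i ∈ range j, (lam.comp (x ^ i)).smulRight ((x ^ (j - 1 - i)) y)
  have hr : ∀ w, r w = ∑ i ∈ range j, lam ((x ^ i) w) • (x ^ (j - 1 - i)) y := fun w => by
    simp [r, LinearMap.sum_apply]
  have hrx : r * x = x * r := LinearMap.ext fun w => by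
    show r (x w) = x (r w)
    rw [hr, hr, map_sum]
    simp only [map_smul]
    have h1 : ∀ i, (x ^ i) (x w) = (x ^ (i + 1)) w := fun i => by rw [pow_succ]; rfl
    have h2 : ∀ i, x ((x ^ i) y) = (x ^ (i + 1)) y := fun i => by rw [pow_succ']; rfl
    simp only [h1, h2]
    obtain ⟨n, hn⟩ : ∃ n, j = n + 1 := ⟨j - 1, (Nat.sub_add_cancel (Nat.pos_of_ne_zero hj0)).symm⟩
    rw [hn, Finset.sum_range_succ, Finset.sum_range_succ']
    have hz : x ^ (n + 1) = 0 := hn ▸ hj
    simp only [Nat.add_sub_cancel, Nat.sub_zero, hz, LinearMap.zero_apply, map_zero, smul_zero,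
      zero_smul, add_zero]
    refine Finset.sum_congr rfl fun i hi => ?_
    rw [Finset.mem_range] at hi
    congr 3
    omega
  let uA : Module.End k W := ∑ i ∈ range j, lam ((x ^ i) y) • x ^ (j - 1 - i)
  have hry : r y = uA y := by simp [hr, uA, LinearMap.sum_apply]
  have huA : uA ∈ A := A.sum_mem fun i _ => A.smul_mem (A.pow_mem hxA _) _
  obtain ⟨v, hv, huv, hvu⟩ : ∃ v ∈ A, uA * v = 1 ∧ v * uA = 1 := by
    have hnil : IsNilpotent (uA - 1) := by
      obtain ⟨n, hn⟩ : ∃ n, j = n + 1 := ⟨j - 1, (Nat.sub_add_cancel (Nat.pos_of_ne_zero hj0)).symm⟩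
      have hlam' : lam ((x ^ n) y) = 1 := by
        have hlam2 := hlam
        rwa [hn, Nat.add_sub_cancel] at hlam2
      have h1 : uA = ∑ i ∈ range n, lam ((x ^ i) y) • x ^ (n - i) + 1 := by
        simp only [uA, hn, Finset.sum_range_succ, Nat.add_sub_cancel, Nat.sub_self, pow_zero, hlam',
          one_smul]
      rw [h1, add_sub_cancel_right]
      refine Commute.isNilpotent_sum (fun i hi => ?_) fun a b _ _ =>
        ((Commute.pow_pow_self x _ _).smul_left _).smul_right _
      rw [Finset.mem_range] at hi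
      exact (hx.pow_of_pos (by omega)).smul _
    obtain ⟨n, hn⟩ := hnil
    set d := 1 - uA with hd
    have hd0 : d ^ n = 0 := by rw [hd, ← neg_sub, neg_pow, hn, mul_zero]
    have hu' : uA = 1 - d := by rw [hd, sub_sub_cancel]
    refine ⟨∑ i ∈ range n, d ^ i,
      A.sum_mem fun i _ => A.pow_mem (A.sub_mem A.one_mem huA) i, ?_, ?_⟩
    · rw [hu', mul_neg_geom_sum, hd0, sub_zero]
    · rw [hu', geom_sum_mul_neg, hd0, sub_zero]
  have hrA : ∀ a ∈ A, a * r = r * a := fun a ha => by
    induction ha using Algebra.adjoin_induction with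
    | mem a ha => rw [Set.mem_singleton_iff.1 ha, hrx]
    | algebraMap t => exact Algebra.commutes t r
    | add a b _ _ h h' => rw [mul_add, add_mul, h, h']
    | mul a b _ _ h h' => rw [← mul_assoc r, ← h, mul_assoc, h', mul_assoc]
  have hAcomm : ∀ a ∈ A, ∀ b ∈ A, a * b = b * a := fun a ha b hb => by
    induction hb using Algebra.adjoin_induction with
    | mem b hb => rw [Set.mem_singleton_iff.1 hb]; exact (hcomm a ha).eq
    | algebraMap t => exact (Algebra.commutes t a).symm
    | add b b' _ _ h h' => rw [mul_add, add_mul, h, h']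
    | mul b b' _ _ h h' => rw [← mul_assoc, h, mul_assoc, h', mul_assoc]
  set ρ₀ := v * r with hρ₀
  have hρA : ∀ a ∈ A, a * ρ₀ = ρ₀ * a := fun a ha => by
    rw [hρ₀, ← mul_assoc, hAcomm a ha v hv, mul_assoc, hrA a ha, mul_assoc]
  have hρim : ∀ w, ∃ a ∈ A, ρ₀ w = a y := fun w => by
    refine ⟨v * ∑ i ∈ range j, lam ((x ^ i) w) • x ^ (j - 1 - i),
      mul_mem hv (A.sum_mem fun i _ => A.smul_mem (A.pow_mem hxA _) _), ?_⟩
    show v (r w) = v _
    congr 1
    simp [hr, LinearMap.sum_apply]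
  have hρy : ρ₀ y = y := by
    show v (r y) = y
    rw [hry, ← Module.End.mul_apply, hvu]
    rfl
  -- average over the powers of `g`
  have hgy' : ∀ i : ℕ, (g ^ i) y = ζ ^ i • y := fun i => by
    induction i with
    | zero => simp
    | succ i ih =>
      rw [pow_succ', Module.End.mul_apply, ih, map_smul, hgy, smul_smul, ← pow_succ]
  have hinv : ∀ i : ℕ, gi ^ i * g ^ i = 1 := fun i => by
    rw [← (show Commute gi g by rw [Commute, SemiconjBy, hgi2, hgi1]).mul_pow, hgi2, one_pow]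
  have hinv' : ∀ i : ℕ, g ^ i * gi ^ i = 1 := fun i => by
    rw [← (show Commute g gi by rw [Commute, SemiconjBy, hgi2, hgi1]).mul_pow, hgi1, one_pow]
  have hgiy : ∀ i : ℕ, (gi ^ i) y = ζ ^ ((N - 1) * i) • y := fun i => by
    rw [hgi, ← pow_mul, hgy']
  have hconjgi : ∀ i : ℕ, ∀ a ∈ A, gi ^ i * a * g ^ i ∈ A := fun i a ha => by
    have h := hconjn ((N - 1) * i) a ha
    rw [pow_mul, ← hgi] at h
    have h2 : gi ^ ((N - 1) * i) = g ^ i := by
      refine (left_inv_eq_right_inv (a := gi ^ i) ?_ (hinv i))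
      rw [pow_mul, show gi ^ (N - 1) = (g ^ (N - 1)) ^ (N - 1) by rw [hgi], ← pow_mul g, ← pow_mul g,
        hgi, ← pow_mul g, ← pow_add]
      have hd : N ∣ (N - 1) * (N - 1) * i + (N - 1) * i := by
        refine ⟨(N - 1) * i, ?_⟩
        obtain ⟨q, hq⟩ : ∃ q, N = q + 1 := ⟨N - 1, (Nat.sub_add_cancel (Nat.pos_of_ne_zero hN0)).symm⟩
        subst hq
        simp only [Nat.add_sub_cancel]
        ring
      obtain ⟨q, hq⟩ := hd
      rw [hq, pow_mul, hg, one_pow]
    rwa [h2] at h
  set ε : Module.End k W := (N : k)⁻¹ • ∑ i ∈ range N, g ^ i * ρ₀ * gi ^ i with hε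
  have hεg : ε * g = g * ε := by
    rw [hε, smul_mul_assoc, mul_smul_comm, Finset.mul_sum, Finset.sum_mul]
    congr 1
    let F : ℕ → Module.End k W := fun i => g ^ i * ρ₀ * gi ^ i * g
    have h1 : ∀ i, g * (g ^ i * ρ₀ * gi ^ i) = F (i + 1) := fun i => by
      simp only [F, pow_succ', pow_succ gi, mul_assoc, hgi2, mul_one]
    simp only [h1]
    show ∑ i ∈ range N, F i = _
    refine add_right_cancel (b := F 0) ?_
    rw [← Finset.sum_range_succ', Finset.sum_range_succ]
    simp only [F, hg, pow_zero, mul_one, one_mul]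
    rw [show gi ^ N = 1 by rw [hgi, ← pow_mul, mul_comm, pow_mul, hg, one_pow]]
    simp
  have hεA : ∀ a ∈ A, a * ε = ε * a := fun a ha => by
    rw [hε, smul_mul_assoc, mul_smul_comm, Finset.mul_sum, Finset.sum_mul]
    congr 1
    refine Finset.sum_congr rfl fun i _ => ?_
    have h := hρA _ (hconjgi i a ha)
    calc a * (g ^ i * ρ₀ * gi ^ i) = g ^ i * gi ^ i * a * (g ^ i * ρ₀ * gi ^ i) := by
          rw [hinv', one_mul]
      _ = g ^ i * ((gi ^ i * a * g ^ i) * ρ₀) * gi ^ i := by simp only [mul_assoc]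
      _ = g ^ i * (ρ₀ * (gi ^ i * a * g ^ i)) * gi ^ i := by rw [h]
      _ = g ^ i * ρ₀ * gi ^ i * a * (g ^ i * gi ^ i) := by simp only [mul_assoc]
      _ = g ^ i * ρ₀ * gi ^ i * a := by rw [hinv', mul_one]
  have hεy : ε y = y := by
    rw [hε, LinearMap.smul_apply, LinearMap.sum_apply]
    have : ∀ i ∈ range N, (g ^ i * ρ₀ * gi ^ i) y = y := fun i _ => by
      show (g ^ i) (ρ₀ ((gi ^ i) y)) = y
      rw [hgiy, map_smul, hρy, ← hgiy, ← Module.End.mul_apply, hinv']
      rfl
    rw [Finset.sum_congr rfl this, Finset.sum_const, Finset.card_range, ← Nat.cast_smul_eq_nsmul k,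
      smul_smul, inv_mul_cancel₀ hN, one_smul]
  have hεim : ∀ w, ∃ a ∈ A, ε w = a y := by
    intro w
    choose a ha hea using fun i : ℕ => hρim ((gi ^ i) w)
    refine ⟨(N : k)⁻¹ • ∑ i ∈ range N, (ζ ^ i) • (g ^ i * a i * gi ^ i),
      A.smul_mem (A.sum_mem fun i _ => A.smul_mem (hconjn i _ (ha i)) _) _, ?_⟩
    rw [hε, LinearMap.smul_apply, LinearMap.smul_apply, LinearMap.sum_apply, LinearMap.sum_apply]
    congr 1
    refine Finset.sum_congr rfl fun i _ => ?_
    show (g ^ i) (ρ₀ ((gi ^ i) w)) = ζ ^ i • ((g ^ i) ((a i) ((gi ^ i) y)))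
    rw [hea i, ← map_smul, ← map_smul, ← map_smul, ← hgy' i,
      ← Module.End.mul_apply (gi ^ i) (g ^ i) y, hinv i]
    rfl
  refine ⟨ε, ζ, y, LinearMap.ext fun w => ?_, hεy, hy0, (hεA x hxA).symm, hεg, hgy, hεim,
    j - 1, (Nat.sub_add_cancel (Nat.pos_of_ne_zero hj0)).symm ▸ hj, hyK⟩
  obtain ⟨a, ha, hw⟩ := hεim w
  show ε (ε w) = ε w
  rw [hw, ← Module.End.mul_apply ε a, ← hεA a ha, Module.End.mul_apply, hεy]

end Cfsg.Agent.Lib.UniqueDegP
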