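import Mathlib

/-!
# Fixed vectors as norms

If two integral representations admit no nonzero intertwining matrix, a `P`-fixed vector of the
second which is twisted like a split fixed functional of the first is a `P`-norm.
-/

set_option autoImplicit false

namespace Cfsg.Agent.Lib.UniqueDegP

open Finset Matrix

universe u

/-- A sum over free orbits is a norm. -/
theorem exists_norm_of_free {P β M : Type*} [Group P] [Fintype P] [MulAction P β] [AddCommMonoid M]
    (act : P → M →+ M) (h : β → M) (heq : ∀ u b, h (u • b) = act u (h b)) (s : Finset β)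
    (hs : ∀ u : P, ∀ b ∈ s, u • b ∈ s) (hfree : ∀ u : P, ∀ b ∈ s, u • b = b → u = 1) :
    ∃ y, ∑ b ∈ s, h b = ∑ u, act u y := by
  classical
  induction hn : s.card using Nat.strong_induction_on generalizing s with
  | _ m ih =>
    rcases s.eq_empty_or_nonempty with rfl | ⟨b, hb⟩
    · exact ⟨0, by simp⟩
    set o := univ.image fun u : P => u • b with ho
    have hos : o ⊆ s := fun c hc => by
      obtain ⟨u, -, rfl⟩ := mem_image.mp hc
      exact hs u b hb
    have hbo : b ∈ o := mem_image.mpr ⟨1, mem_univ _, one_smul _ _⟩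
    have hinj : Function.Injective fun u : P => u • b := fun u u' huu => by
      have huu' : u • b = u' • b := huu
      exact (inv_mul_eq_one.mp (hfree (u⁻¹ * u') b hb
        (by rw [mul_smul, ← huu', inv_smul_smul])))
    have hs' : ∀ u : P, ∀ c ∈ s \ o, u • c ∈ s \ o := by
      intro u c hc
      rw [mem_sdiff] at hc ⊢
      refine ⟨hs u c hc.1, fun hco => hc.2 ?_⟩
      obtain ⟨v, -, hv⟩ := mem_image.mp hco
      exact mem_image.mpr ⟨u⁻¹ * v, mem_univ _, by rw [mul_smul, hv, inv_smul_smul]⟩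
    obtain ⟨y, hy⟩ := ih _ (hn ▸ card_lt_card (sdiff_ssubset hos ⟨b, hbo⟩)) (s \ o) hs'
      (fun u c hc => hfree u c (mem_sdiff.mp hc).1) rfl
    refine ⟨h b + y, ?_⟩
    rw [← sum_sdiff hos, hy, ho, sum_image fun u _ u' _ huu => hinj huu,
      sum_congr rfl fun u _ => map_add (act u) _ _, sum_add_distrib, add_comm]
    simp only [heq]

variable {G : Type u} [Group G] [Finite G] {O : Type*} [CommRing O] {n m : ℕ}
  (R : G →* Matrix (Fin n) (Fin n) O) (S : G →* Matrix (Fin m) (Fin m) O)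

/-- The lemma of the two representations. -/
theorem exists_norm_eq (P N : Subgroup G) [Fintype P] (hPN : P ≤ N)
    (hfree : ∀ g ∉ N, ∀ u ∈ P, g⁻¹ * u * g ∈ N → u = 1)
    (hhom : ∀ X : Matrix (Fin m) (Fin n) O, (∀ g, S g * X = X * R g) → X = 0)
    (f v : Fin n → O) (w : Fin m → O) (hfv : f ⬝ᵥ v = 1) (hv : ∀ u ∈ P, R u *ᵥ v = v)
    (hcomm : ∀ h ∈ N, S h * vecMulVec w f = vecMulVec w f * R h) :
    ∃ y, w = ∑ u : P, S u *ᵥ y := by
  classical
  haveI : Fintype (G ⧸ N) := Fintype.ofFinite _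
  set X := vecMulVec w f with hX
  let T : G ⧸ N → Matrix (Fin m) (Fin n) O := Quotient.lift (fun g => S g * X * R g⁻¹) (by
    intro a b hab
    have hN : a⁻¹ * b ∈ N := QuotientGroup.leftRel_apply.mp hab
    show S a * X * R a⁻¹ = S b * X * R b⁻¹
    have hb : b = a * (a⁻¹ * b) := by group
    conv_rhs => rw [hb, map_mul, Matrix.mul_assoc (S a) _ X, hcomm _ hN, ← Matrix.mul_assoc,
      Matrix.mul_assoc, ← map_mul, _root_.mul_inv_rev, ← mul_assoc, mul_inv_cancel, one_mul])
  have hT : ∀ g : G, T (QuotientGroup.mk g) = S g * X * R g⁻¹ := fun g => rfl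
  have hequ : ∀ (a : G) (q : G ⧸ N), T (a • q) = S a * T q * R a⁻¹ := by
    intro a q
    induction q using QuotientGroup.induction_on with
    | _ g =>
      rw [MulAction.Quotient.smul_mk, hT, hT, smul_eq_mul, map_mul, _root_.mul_inv_rev, map_mul]
      simp only [Matrix.mul_assoc]
  have hsum : ∑ q, T q = 0 := by
    refine hhom _ fun a => ?_
    rw [Matrix.mul_sum, Matrix.sum_mul]
    refine Fintype.sum_equiv (MulAction.toPerm a) _ _ fun q => ?_
    rw [MulAction.toPerm_apply, hequ, Matrix.mul_assoc, ← map_mul, inv_mul_cancel, map_one,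
      Matrix.mul_one]
  set b₀ : G ⧸ N := QuotientGroup.mk 1
  let act : P → (Fin m → O) →+ (Fin m → O) := fun u => (Matrix.mulVecLin (S u)).toAddMonoidHom
  obtain ⟨y, hy⟩ := exists_norm_of_free (P := P) act (fun q => T q *ᵥ v) (fun u q => by
      show T ((u : G) • q) *ᵥ v = S u *ᵥ (T q *ᵥ v)
      rw [hequ, ← Matrix.mulVec_mulVec, hv _ (P.inv_mem u.2), Matrix.mulVec_mulVec])
    (univ.erase b₀) (fun u q hq => by
      refine mem_erase.mpr ⟨fun h => (mem_erase.mp hq).1 ?_, mem_univ _⟩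
      have h' : (u : G) • q = b₀ := h
      rw [eq_inv_smul_iff.mpr h', MulAction.Quotient.smul_mk, QuotientGroup.eq]
      simpa [smul_eq_mul] using hPN u.2)
    (fun u q hq h => by
      have h' : (u : G) • q = q := h
      obtain ⟨g, rfl⟩ := QuotientGroup.mk_surjective q
      rw [MulAction.Quotient.smul_mk, QuotientGroup.eq, smul_eq_mul, _root_.mul_inv_rev] at h'
      refine Subtype.ext (inv_eq_one.mp (hfree g (fun hg => (mem_erase.mp hq).1 ?_) _
        (P.inv_mem u.2) h'))
      exact QuotientGroup.eq.mpr (by simpa using N.inv_mem hg))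
  refine ⟨-y, ?_⟩
  have h0 := congrArg (fun Z => Z *ᵥ v) hsum
  simp only [Matrix.zero_mulVec, Matrix.sum_mulVec] at h0
  rw [← Finset.add_sum_erase _ _ (mem_univ b₀), hy, hT, map_one, inv_one, map_one, Matrix.one_mul,
    Matrix.mul_one, hX, Matrix.vecMulVec_mulVec, hfv] at h0
  simp only [MulOpposite.op_one, one_smul] at h0
  simp only [Matrix.mulVec_neg, Finset.sum_neg_distrib]
  exact eq_neg_of_add_eq_zero_left h0

omit [Finite G] in
/-- The components of a fixed vector under a cyclic group of order prime to the characteristic. -/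
theorem exists_components (P : Subgroup G) {g₀ : G} {e : ℕ} (he : IsUnit (e : O)) (hg : g₀ ^ e = 1)
    (hnorm : ∀ u ∈ P, g₀⁻¹ * u * g₀ ∈ P) {ζ : O} (hζ : ∀ i : ℕ, ¬ e ∣ i →
      ∑ j ∈ range e, (ζ ^ i) ^ j = 0) (hζe : ζ ^ e = 1) (w : Fin m → O)
    (hw : ∀ u ∈ P, S u *ᵥ w = w) :
    ∃ c : ℕ → (Fin m → O), w = ∑ j ∈ range e, c j ∧
      ∀ j, (∀ u ∈ P, S u *ᵥ c j = c j) ∧ S g₀ *ᵥ c j = ζ ^ j • c j := by
  classical
  obtain ⟨a, ha⟩ := he.exists_left_inv
  rcases Nat.eq_zero_or_pos e with h0 | h0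
  · subst h0
    have h1 : (1 : O) = 0 := by simpa using ha.symm
    exact ⟨fun _ => w, funext fun i => by
      rw [← one_mul (w i), h1, zero_mul]; simp, fun j => ⟨fun u hu => hw u hu, funext fun i => by
      rw [← one_mul ((S g₀ *ᵥ w) i), ← one_mul ((ζ ^ j • w) i), h1, zero_mul, zero_mul]⟩⟩
  have hper : ∀ i j : ℕ, (ζ ^ (e - 1)) ^ (i * j) * ζ ^ (i * j) = 1 := fun i j => by
    rw [← mul_pow, ← pow_succ, Nat.sub_add_cancel h0, hζe, one_pow]
  refine ⟨fun j => a • ∑ i ∈ range e, (ζ ^ (e - 1)) ^ (i * j) • (S (g₀ ^ i) *ᵥ w), ?_,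
    fun j => ⟨fun u hu => ?_, ?_⟩⟩
  · rw [← Finset.smul_sum, Finset.sum_comm, Finset.sum_eq_single 0]
    · simp only [zero_mul, pow_zero, one_smul, map_one, Matrix.one_mulVec, sum_const, card_range]
      rw [← Nat.cast_smul_eq_nsmul O, smul_smul, ha, one_smul]
    · intro i hi hi0
      rw [← Finset.sum_smul]
      have hdi : ¬ e ∣ (e - 1) * i := fun h => by
        have h' : e ∣ i := Nat.Coprime.dvd_of_dvd_mul_left
          ((Nat.coprime_self_sub_right (show 1 ≤ e by omega)).mpr (Nat.coprime_one_right e)) h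
        exact hi0 (Nat.eq_zero_of_dvd_of_lt h' (mem_range.mp hi))
      simp only [← pow_mul, ← mul_assoc]
      rw [show ∑ j ∈ range e, ζ ^ ((e - 1) * i * j) = 0 by
        simpa only [← pow_mul] using hζ _ hdi, zero_smul]
    · exact fun h => absurd (mem_range.mpr h0) h
  · rw [Matrix.mulVec_smul, Matrix.mulVec_sum]
    congr 1
    refine sum_congr rfl fun i _ => ?_
    rw [Matrix.mulVec_smul, Matrix.mulVec_mulVec, ← map_mul]
    congr 1
    have hmem : ∀ i : ℕ, (g₀ ^ i)⁻¹ * u * g₀ ^ i ∈ P := by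
      intro i
      induction i with
      | zero => simpa using hu
      | succ i ih =>
        convert hnorm _ ih using 1
        rw [pow_succ]; group
    rw [show u * g₀ ^ i = g₀ ^ i * ((g₀ ^ i)⁻¹ * u * g₀ ^ i) by group, map_mul,
      ← Matrix.mulVec_mulVec, hw _ (hmem i)]
  · rw [Matrix.mulVec_smul, smul_comm (ζ ^ j) a, Matrix.mulVec_sum, Finset.smul_sum (r := ζ ^ j)]
    congr 1
    let F : ℕ → (Fin m → O) := fun i =>
      ζ ^ j • (ζ ^ (e - 1)) ^ (i * j) • (S (g₀ ^ i) *ᵥ w)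
    have h1 : ∀ i, S g₀ *ᵥ ((ζ ^ (e - 1)) ^ (i * j) • (S (g₀ ^ i) *ᵥ w)) = F (i + 1) := fun i => by
      simp only [F, Matrix.mulVec_smul, Matrix.mulVec_mulVec, ← map_mul, ← pow_succ', smul_smul]
      congr 1
      have h3 : ζ ^ j * (ζ ^ (e - 1)) ^ j = 1 := by
        rw [← mul_pow, ← pow_succ', Nat.sub_add_cancel h0, hζe, one_pow]
      rw [add_mul, one_mul, pow_add, mul_left_comm, h3, mul_one]
    simp only [h1]
    show ∑ i ∈ range e, F (i + 1) = ∑ i ∈ range e, F i
    refine add_right_cancel (b := F 0) ?_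
    rw [← Finset.sum_range_succ', Finset.sum_range_succ]
    simp only [F, hg, zero_mul, pow_zero, map_one, Matrix.one_mulVec, one_smul]
    rw [show (ζ ^ (e - 1)) ^ (e * j) = 1 by
      rw [pow_mul, ← pow_mul ζ, mul_comm (e - 1), pow_mul, hζe, one_pow, one_pow], one_smul]

end Cfsg.Agent.Lib.UniqueDegP
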