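import Mathlib
import Cfsg.Agent.Lib.UniqueDegP.Count
import Cfsg.Agent.Lib.UniqueDegP.Trace
import Cfsg.Agent.Lib.UniqueDegP.Summand

/-!
# An indecomposable module of dimension `p + 1`

Such a module, for a group whose subgroup `P = ⟨u⟩` of order `p` meets its conjugates trivially, has
a free `P`-summand.
-/

set_option autoImplicit false

namespace Cfsg.Agent.Lib.UniqueDegP

open Finset Matrix

universe u

variable {k : Type*} [Field k] {n : ℕ}

/-- An endomorphism commuting with a representation without idempotents has trace zero or is a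
unit. -/
theorem isUnit_of_trace_ne_zero (M : Set (Matrix (Fin n) (Fin n) k))
    (hind : ∀ e : Matrix (Fin n) (Fin n) k, e * e = e → (∀ g ∈ M, Commute e g) → e = 0 ∨ e = 1)
    {φ : Matrix (Fin n) (Fin n) k} (hφ : ∀ g ∈ M, Commute φ g) (htr : φ.trace ≠ 0) :
    IsUnit φ := by
  have hint : IsIntegral k φ := Matrix.isIntegral φ
  obtain ⟨q, hq, hnd⟩ := Polynomial.exists_eq_pow_rootMultiplicity_mul_and_not_dvd _
    (minpoly.ne_zero hint) (0 : k)
  rw [map_zero, sub_zero] at hq hnd
  set r := (minpoly k φ).rootMultiplicity 0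
  obtain ⟨a, b, hab⟩ := (Polynomial.irreducible_X.coprime_iff_not_dvd.mpr hnd).pow_left (m := r + 1)
  set e := Polynomial.aeval φ (b * q) with he
  have hkey : e * Polynomial.aeval φ (a * Polynomial.X ^ (r + 1)) = 0 := by
    rw [he, ← map_mul, show b * q * (a * Polynomial.X ^ (r + 1)) =
      a * b * Polynomial.X * (Polynomial.X ^ r * q) by ring, ← hq, map_mul, minpoly.aeval, mul_zero]
  have hsum : Polynomial.aeval φ (a * Polynomial.X ^ (r + 1)) + e = 1 := by
    rw [he, ← map_add, hab, map_one]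
  have hee : e * e = e := by
    have h := congrArg (e * ·) hsum
    simp only [mul_add, hkey, zero_add, mul_one] at h
    exact h
  have hcomm : ∀ (P : Polynomial k), ∀ g ∈ M, Commute (Polynomial.aeval φ P) g := by
    intro P g hg
    induction P using Polynomial.induction_on with
    | C c =>
      rw [Polynomial.aeval_C]
      exact Algebra.commutes c g
    | add P Q hP hQ => rw [map_add]; exact hP.add_left hQ
    | monomial i c _ =>
      rw [map_mul, map_pow, Polynomial.aeval_C, Polynomial.aeval_X]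
      exact Commute.mul_left (Algebra.commutes c g) ((hφ g hg).pow_left _)
  rcases hind e hee (hcomm _) with h0 | h1
  · rw [h0, add_zero, map_mul, map_pow, Polynomial.aeval_X] at hsum
    exact (isUnit_pow_iff (Nat.succ_ne_zero r)).mp
      (IsUnit.of_mul_eq_one_right _ hsum)
  · refine absurd ?_ htr
    refine (Matrix.isNilpotent_trace_of_isNilpotent ⟨r + 1, ?_⟩).eq_zero
    have h := congrArg (φ ^ (r + 1) * ·) h1
    simp only [mul_one] at h
    rw [← h, he, show φ ^ (r + 1) = Polynomial.aeval φ ((Polynomial.X : Polynomial k) ^ (r + 1)) by rw [map_pow, Polynomial.aeval_X], ← map_mul, show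
      Polynomial.X ^ (r + 1) * (b * q) = b * Polynomial.X * (Polynomial.X ^ r * q) by ring, ← hq,
      map_mul, minpoly.aeval, mul_zero]

variable {G : Type u} [Group G] [Finite G] {p : ℕ} [Fact p.Prime] [CharP k p]

/-- The norm of a `P`-element does not vanish. -/
theorem exists_norm_ne_zero (ρ : G →* Matrix (Fin n) (Fin n) k) (hn : n = p + 1) {u g₀ : G}
    (hu : orderOf u = p) {e r : ℕ} (he : (e : k) ≠ 0) (hroot : ∃ ω : k, IsPrimitiveRoot ω e)
    (hg₀ : g₀ ^ e = 1) (hconj : g₀ * u = u ^ r * g₀) (N : Subgroup G)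
    (huN : u ∈ N) (hN : ∀ h ∈ N, ∃ i j : ℕ, h = u ^ i * g₀ ^ j)
    (hfree : ∀ g ∉ N, ∀ y ∈ Subgroup.zpowers u, g⁻¹ * y * g ∈ N → y = 1)
    (hgen : ∀ K : Subgroup G, K.Normal → u ∈ K → K = ⊤)
    (hind : ∀ e : Matrix (Fin n) (Fin n) k, e * e = e → (∀ g, e * ρ g = ρ g * e) → e = 0 ∨ e = 1) :
    ∃ y, (∑ i ∈ range p, ρ u ^ i) *ᵥ y ≠ 0 := by
  classical
  by_contra! hzero
  have hp : p.Prime := Fact.out
  set Φ := Matrix.toLinAlgEquiv' (R := k) (n := Fin n)
  set U : Module.End k (Fin n → k) := Φ (ρ u)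
  have hUp : U ^ p = 1 := by rw [← map_pow, ← map_pow, ← hu, pow_orderOf_eq_one, map_one, map_one]
  set x := U - 1 with hxdef
  have hxp : x ^ (p - 1) = 0 := by
    rw [hxdef, ← sum_range_pow_eq]
    refine LinearMap.ext fun y => ?_
    have h := hzero y
    have h' : Φ (∑ i ∈ range p, ρ u ^ i) y = 0 := h
    rw [map_sum] at h'
    simpa [U] using h'
  by_cases hx0 : x = 0
  · -- the element acts trivially
    have h1 : ρ u = 1 := Φ.injective (by rw [map_one]; exact sub_eq_zero.mp hx0)
    have hall : ∀ g, ρ g = 1 := fun g =>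
      MonoidHom.mem_ker.mp ((hgen ρ.ker inferInstance (MonoidHom.mem_ker.mpr h1)).symm ▸
        Subgroup.mem_top g)
    let i₀ : Fin n := ⟨0, by omega⟩
    rcases hind (Matrix.single i₀ i₀ 1) (by rw [Matrix.single_mul_single_same, one_mul])
      (fun g => by rw [hall, mul_one, one_mul]) with h | h
    · have := congrFun (congrFun h i₀) i₀
      simp [Matrix.single_apply] at this
    · have := congrFun (congrFun h ⟨1, by have := hp.two_le; omega⟩) ⟨1, by have := hp.two_le; omega⟩
      simp [i₀, Matrix.single_apply] at this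
  haveI : Nontrivial (Fin n → k) :=
    haveI : Nonempty (Fin n) := ⟨⟨0, by omega⟩⟩
    Function.nontrivial
  set A := Algebra.adjoin k ({x} : Set (Module.End k (Fin n → k)))
  have hUA : U ∈ A := by
    rw [show U = x + 1 by rw [hxdef, sub_add_cancel]]
    exact add_mem (Algebra.subset_adjoin rfl) (one_mem _)
  set g := Φ (ρ g₀)
  have hgx : g * x = x * (∑ i ∈ range r, U ^ i) * g := by
    rw [hxdef, mul_geom_sum, mul_sub, sub_mul, mul_one, one_mul]
    congr 1
    simp only [g, U, ← map_pow, ← map_mul, hconj]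
  obtain ⟨ε, ζ, y, hεε, hεy, hy0, hεx, hεg, -, hεim, j, hj1, hj⟩ :=
    exists_summand (x := x) (g := g) (N := e) he hroot
      (by rw [← map_pow, ← map_pow, hg₀, map_one, map_one]) ⟨p - 1, hxp⟩
      (sum_mem fun i _ => pow_mem hUA i) hgx
  -- the rank of the summand
  have hj0 : j ≠ 0 := fun h => hx0 (by rw [h, zero_add, pow_one] at hj1; exact hj1)
  have hjp : j + 1 < p := by
    by_contra! hle
    exact hj (by rw [show j = p - 1 + (j - (p - 1)) by omega, pow_add, hxp, zero_mul,
      LinearMap.zero_apply])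
  have hli := linearIndependent_pow (x := x) (q := j) hj1 (a := 1) (y := fun _ => y)
    (linearIndependent_unique_iff.mpr hj)
  have hrange : LinearMap.range ε =
      Submodule.span k (Set.range fun t : Fin (j + 1) × Fin 1 => (x ^ (t.1 : ℕ)) y) := by
    refine le_antisymm ?_ (Submodule.span_le.mpr ?_)
    · rintro _ ⟨w, rfl⟩
      obtain ⟨a, ha, hw⟩ := hεim w
      rw [hw]
      rw [Algebra.adjoin_singleton_eq_range_aeval] at ha
      obtain ⟨P, rfl⟩ := ha
      rw [AlgHom.toRingHom_eq_coe, RingHom.coe_coe, Polynomial.aeval_eq_sum_range,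
        LinearMap.sum_apply]
      refine Submodule.sum_mem _ fun i _ => ?_
      rw [LinearMap.smul_apply]
      refine Submodule.smul_mem _ _ ?_
      rcases lt_or_ge i (j + 1) with h | h
      · exact Submodule.subset_span ⟨(⟨i, h⟩, 0), rfl⟩
      · rw [show i = j + 1 + (i - (j + 1)) by omega, pow_add, hj1, zero_mul, LinearMap.zero_apply]
        exact Submodule.zero_mem _
    · rintro _ ⟨t, rfl⟩
      have hc : Commute ε (x ^ (t.1 : ℕ)) := Commute.pow_right hεx _
      exact ⟨(x ^ (t.1 : ℕ)) y, by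
        rw [← Module.End.mul_apply, hc.eq, Module.End.mul_apply, hεy]⟩
  have htrε : LinearMap.trace k _ ε = ((j + 1 : ℕ) : k) := by
    rw [LinearMap.IsProj.trace (p := LinearMap.range ε) ⟨fun w => ⟨w, rfl⟩, fun w ⟨z, hz⟩ => by
      rw [← hz, ← Module.End.mul_apply, hεε]⟩, hrange, finrank_span_eq_card hli]
    simp
  have hcast : ∀ m : ℕ, m ≠ 0 → m < p → (m : k) ≠ 0 := fun m hm hmp h => by
    rw [CharP.cast_eq_zero_iff k p] at h
    exact hm (Nat.eq_zero_of_dvd_of_lt h hmp)
  set E := Φ.symm ε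
  have hEtr : E.trace = ((j + 1 : ℕ) : k) := by
    rw [← htrε, ← Matrix.trace_toLin'_eq]
    exact congrArg _ (Φ.apply_symm_apply ε)
  have hEtr' : (1 - E).trace = -(j : k) := by
    rw [Matrix.trace_sub, Matrix.trace_one, hEtr, Fintype.card_fin, hn]
    simp [CharP.cast_eq_zero]
  have hEE : E * E = E := by rw [← map_mul, hεε]
  -- it commutes with the local subgroup
  have hEN : ∀ h ∈ N, E * ρ h = ρ h * E := by
    intro h hh
    obtain ⟨a, b, rfl⟩ := hN h hh
    have e1 : Commute E (ρ u) := by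
      refine Φ.injective ?_
      rw [map_mul, map_mul, Φ.apply_symm_apply]
      have := hεx
      rw [hxdef, mul_sub, sub_mul, mul_one, one_mul, sub_left_inj] at this
      exact this
    have e2 : Commute E (ρ g₀) := by
      refine Φ.injective ?_
      rw [map_mul, map_mul, Φ.apply_symm_apply]
      exact hεg
    rw [map_mul, map_pow, map_pow]
    exact (e1.pow_right a).mul_right (e2.pow_right b)
  haveI : Fintype (Subgroup.zpowers u) := Fintype.ofFinite _
  haveI : Fintype (G ⧸ N) := Fintype.ofFinite _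
  let conjP : Subgroup.zpowers u → Matrix (Fin n) (Fin n) k →+ Matrix (Fin n) (Fin n) k := fun v =>
    { toFun := fun Y => ρ (v : G) * Y * ρ ((v : G))⁻¹
      map_zero' := by simp
      map_add' := fun Y Z => by simp [Matrix.mul_add, Matrix.add_mul] }
  let IsNullP : Matrix (Fin n) (Fin n) k → Prop := fun Z => ∃ Y, Z = ∑ v, conjP v Y
  have hnull : ∀ F : Matrix (Fin n) (Fin n) k, (∀ h ∈ N, F * ρ h = ρ h * F) →
      ∃ φ Z, (∀ g, φ * ρ g = ρ g * φ) ∧ IsNullP Z ∧ φ = F + Z := by
    intro F hF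
    let T : G ⧸ N → Matrix (Fin n) (Fin n) k := Quotient.lift (fun g => ρ g * F * ρ g⁻¹) (by
      intro a b hab
      have hm : a⁻¹ * b ∈ N := QuotientGroup.leftRel_apply.mp hab
      show ρ a * F * ρ a⁻¹ = ρ b * F * ρ b⁻¹
      conv_rhs => rw [show b = a * (a⁻¹ * b) by group, map_mul, Matrix.mul_assoc (ρ a) _ F,
        ← hF _ hm, ← Matrix.mul_assoc, Matrix.mul_assoc, ← map_mul, _root_.mul_inv_rev, ← mul_assoc,
        mul_inv_cancel, one_mul])
    have hT : ∀ g : G, T (QuotientGroup.mk g) = ρ g * F * ρ g⁻¹ := fun g => rfl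
    have hequ : ∀ (a : G) (q : G ⧸ N), T (a • q) = ρ a * T q * ρ a⁻¹ := by
      intro a q
      induction q using QuotientGroup.induction_on with
      | _ g =>
        rw [MulAction.Quotient.smul_mk, hT, hT, smul_eq_mul, map_mul, _root_.mul_inv_rev, map_mul]
        simp only [Matrix.mul_assoc]
    set b₀ : G ⧸ N := QuotientGroup.mk 1
    obtain ⟨Y, hY⟩ := exists_norm_of_free conjP T (fun v q => hequ v q) (univ.erase b₀)
      (fun v q hq => by
        refine mem_erase.mpr ⟨fun h => (mem_erase.mp hq).1 ?_, mem_univ _⟩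
        have h' : (v : G) • q = b₀ := h
        rw [eq_inv_smul_iff.mpr h', MulAction.Quotient.smul_mk, QuotientGroup.eq]
        simpa [smul_eq_mul] using (Subgroup.zpowers_le.mpr huN) v.2)
      (fun v q hq h => by
        have h' : (v : G) • q = q := h
        obtain ⟨g, rfl⟩ := QuotientGroup.mk_surjective q
        rw [MulAction.Quotient.smul_mk, QuotientGroup.eq, smul_eq_mul, _root_.mul_inv_rev] at h'
        refine Subtype.ext (inv_eq_one.mp (hfree g (fun hg => (mem_erase.mp hq).1 ?_) _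
          ((Subgroup.zpowers u).inv_mem v.2) h'))
        exact QuotientGroup.eq.mpr (by simpa using N.inv_mem hg))
    refine ⟨∑ q, T q, ∑ q ∈ univ.erase b₀, T q, fun a => ?_, ⟨Y, hY⟩, ?_⟩
    · rw [Matrix.sum_mul, Matrix.mul_sum]
      refine (Fintype.sum_equiv (MulAction.toPerm a) _ _ fun q => ?_).symm
      rw [MulAction.toPerm_apply, hequ, Matrix.mul_assoc, ← map_mul, inv_mul_cancel, map_one,
        Matrix.mul_one]
    · rw [← Finset.add_sum_erase _ _ (mem_univ b₀), hT, map_one, inv_one, map_one, Matrix.one_mul,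
        Matrix.mul_one]
  have hnull_tr : ∀ Z, IsNullP Z → Z.trace = 0 := by
    rintro Z ⟨Y, rfl⟩
    rw [Matrix.trace_sum]
    have : ∀ v : Subgroup.zpowers u, (conjP v Y).trace = Y.trace := fun v => by
      show (ρ (v : G) * Y * ρ ((v : G))⁻¹).trace = _
      rw [Matrix.trace_mul_comm, ← Matrix.mul_assoc, ← map_mul, inv_mul_cancel, map_one,
        Matrix.one_mul]
    rw [sum_congr rfl fun v _ => this v, sum_const, card_univ, ← Nat.card_eq_fintype_card,
      Nat.card_zpowers, hu, nsmul_eq_mul, CharP.cast_eq_zero, zero_mul]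
  have hunit : ∀ F, (∀ h ∈ N, F * ρ h = ρ h * F) → F.trace ≠ 0 →
      ∃ φ Z, (∀ g, φ * ρ g = ρ g * φ) ∧ IsNullP Z ∧ φ = F + Z ∧ IsUnit φ := by
    intro F hF htr
    obtain ⟨φ, Z, hφ, hZ, rfl⟩ := hnull F hF
    refine ⟨_, Z, hφ, hZ, rfl, isUnit_of_trace_ne_zero (Set.range ρ) (fun f hf hc => ?_) ?_ ?_⟩
    · exact hind f hf fun g => hc _ ⟨g, rfl⟩
    · rintro _ ⟨g, rfl⟩
      exact hφ g
    · rwa [Matrix.trace_add, hnull_tr Z hZ, add_zero]
  obtain ⟨φA, ZA, hA, ⟨YA, hYA⟩, hφA, huA⟩ := hunit E hEN (by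
    rw [hEtr]; exact hcast _ (Nat.succ_ne_zero j) hjp)
  obtain ⟨φB, ZB, hB, ⟨YB, hYB⟩, hφB, huB⟩ := hunit (1 - E)
    (fun h hh => by rw [sub_mul, mul_sub, one_mul, mul_one, hEN h hh]) (by
    rw [hEtr', neg_ne_zero]; exact hcast _ hj0 (by omega))
  obtain ⟨W, hW⟩ := (huA.mul huB).exists_left_inv
  have hWc : ∀ g, W * ρ g = ρ g * W := fun g => by
    have hc : φA * φB * ρ g = ρ g * (φA * φB) := by
      rw [mul_assoc, hB, ← mul_assoc, hA, mul_assoc]
    have h2 := mul_eq_one_comm.mp hW
    calc W * ρ g = W * (ρ g * (φA * φB)) * W := by rw [mul_assoc, mul_assoc, h2, mul_one]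
      _ = W * (φA * φB * ρ g) * W := by rw [hc]
      _ = ρ g * W := by rw [← mul_assoc W, hW, one_mul]
  have hone : IsNullP (1 : Matrix (Fin n) (Fin n) k) := by
    refine ⟨W * (E * YB) + W * (YA * φB), ?_⟩
    have hvE : ∀ v : Subgroup.zpowers u, E * ρ (v : G) = ρ (v : G) * E :=
      fun v => hEN _ ((Subgroup.zpowers_le.mpr huN) v.2)
    have hz : ∀ v : Subgroup.zpowers u, conjP v (W * (E * YB) + W * (YA * φB)) =
        W * (E * conjP v YB) + W * (conjP v YA * φB) := by
      intro v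
      rw [map_add]
      show ρ (v : G) * (W * (E * YB)) * ρ ((v : G))⁻¹ +
          ρ (v : G) * (W * (YA * φB)) * ρ ((v : G))⁻¹ =
        W * (E * (ρ (v : G) * YB * ρ ((v : G))⁻¹)) +
          W * (ρ (v : G) * YA * ρ ((v : G))⁻¹ * φB)
      congr 1
      · rw [← mul_assoc (ρ _) W, ← hWc, mul_assoc W, ← mul_assoc (ρ _) E, ← hvE]
        simp only [mul_assoc]
      · rw [← mul_assoc (ρ _) W, ← hWc]
        simp only [mul_assoc, ← hB]
    rw [sum_congr rfl fun v _ => hz v, sum_add_distrib, ← Finset.mul_sum, ← Finset.mul_sum,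
      ← Finset.mul_sum, ← Finset.sum_mul, ← hYA, ← hYB, ← mul_add, ← hW]
    congr 1
    have h0 : E * (1 - E) = 0 := by rw [mul_sub, mul_one, hEE, sub_self]
    rw [hφA, add_mul]
    congr 1
    rw [hφB, mul_add, h0, zero_add]
  have h1 := hnull_tr 1 hone
  rw [Matrix.trace_one, Fintype.card_fin, hn] at h1
  simp [CharP.cast_eq_zero] at h1

end Cfsg.Agent.Lib.UniqueDegP
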