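import Mathlib
import Cfsg.Agent.Lib.Chars.Basic
import Cfsg.Agent.Lib.UniqueDegP.Indec

/-!
# Split pairs in a character of degree `p + 1`, and the bound they give on the other characters
-/

set_option autoImplicit false

namespace Cfsg.Agent.Lib.UniqueDegP

open Cfsg Cfsg.Agent.Lib Finset Matrix IsLocalRing

universe u

/-- A self-centralising element of order `p` with the local subgroup `⟨u⟩⟨g₀⟩`. -/
structure Loc (G : Type u) [Group G] (p : ℕ) where
  u : G
  g₀ : G
  e : ℕ
  r : ℕ
  N : Subgroup G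
  hu : orderOf u = p
  he : e ∣ p - 1
  hg₀ : g₀ ^ e = 1
  hconj : g₀ * u = u ^ r * g₀
  huN : u ∈ N
  hg₀N : g₀ ∈ N
  hN : ∀ h ∈ N, ∃ i j : ℕ, h = u ^ i * g₀ ^ j
  hnorm : ∀ y ∈ Subgroup.zpowers u, g₀⁻¹ * y * g₀ ∈ Subgroup.zpowers u
  hfree : ∀ g ∉ N, ∀ y ∈ Subgroup.zpowers u, g⁻¹ * y * g ∈ N → y = 1
  hgen : ∀ K : Subgroup G, K.Normal → u ∈ K → K = ⊤

variable {G : Type u} [Group G] [Finite G] {O : Type} [CommRing O] [IsDomain O]
  (ι : O →+* ℂ) {n m p : ℕ}

/-- The complex representation of an integral one. -/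
noncomputable def cRep (R : G →* Matrix (Fin n) (Fin n) O) :
    Representation ℂ G (Fin n → ℂ) :=
  (Matrix.toLinAlgEquiv' (R := ℂ) (n := Fin n)).toMonoidHom.comp
    ((RingHom.mapMatrix ι).toMonoidHom.comp R)

omit [Finite G] [IsDomain O] in
theorem cRep_apply (R : G →* Matrix (Fin n) (Fin n) O) (g : G) :
    cRep ι R g = Matrix.toLin' ((R g).map ι) := rfl

omit [Finite G] [IsDomain O] in
theorem cRep_character (R : G →* Matrix (Fin n) (Fin n) O) (g : G) :
    (cRep ι R).character g = ι (R g).trace := by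
  rw [Representation.character, cRep_apply, Matrix.trace_toLin'_eq]
  exact (AddMonoidHom.map_trace ι (R g)).symm

/-- Intertwining matrices as intertwining maps. -/
def matMap [Fintype G] (R : G →* Matrix (Fin n) (Fin n) O) (S : G →* Matrix (Fin m) (Fin m) O)
    (X : Matrix (Fin m) (Fin n) ℂ) (hX : ∀ g, (S g).map ι * X = X * (R g).map ι) :
    Representation.IntertwiningMap (cRep ι R) (cRep ι S) :=
  ⟨Matrix.toLin' X, fun g => LinearMap.ext fun v => by
    show Matrix.toLin' X (cRep ι R g v) = cRep ι S g (Matrix.toLin' X v)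
    rw [cRep_apply, cRep_apply, Matrix.toLin'_apply, Matrix.toLin'_apply, Matrix.toLin'_apply,
      Matrix.toLin'_apply, Matrix.mulVec_mulVec, Matrix.mulVec_mulVec, hX]⟩

omit [IsDomain O] in
/-- No nonzero matrix intertwines two different irreducible characters. -/
theorem hom_eq_zero (hι : Function.Injective ι) [Fintype G] {χ ψ : IrrCharacter G} (hne : χ ≠ ψ)
    (R : G →* Matrix (Fin n) (Fin n) O) (S : G →* Matrix (Fin m) (Fin m) O)
    (hR : ∀ g, ι (R g).trace = (ψ : G → ℂ) g) (hS : ∀ g, ι (S g).trace = (χ : G → ℂ) g)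
    (X : Matrix (Fin m) (Fin n) O) (hX : ∀ g, S g * X = X * R g) : X = 0 := by
  have h := Chars.classInner_char_eq_finrank (cRep ι S) (cRep ι R)
  rw [show (cRep ι S).character = (χ : G → ℂ) from funext fun g => (cRep_character ι S g).trans (hS g),
    show (cRep ι R).character = (ψ : G → ℂ) from funext fun g => (cRep_character ι R g).trans (hR g),
    Chars.classInner_irr_of_ne hne] at h
  have h0 : Module.finrank ℂ (Representation.IntertwiningMap (cRep ι R) (cRep ι S)) = 0 := by
    exact_mod_cast h.symm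
  haveI := Module.finrank_zero_iff.mp h0
  have h1 := Subsingleton.elim (matMap ι R S (X.map ι) fun g => by
    rw [← Matrix.map_mul, ← Matrix.map_mul, hX]) 0
  have h2 : Matrix.toLin' (X.map ι) = 0 := LinearMap.ext fun v => DFunLike.congr_fun h1 v
  rw [map_eq_zero_iff _ (LinearEquiv.injective _)] at h2
  exact Matrix.map_injective hι (h2.trans (Matrix.map_zero ι ι.map_zero).symm)

omit [IsDomain O] in
/-- The commutant of an irreducible character consists of scalars. -/
theorem exists_scalar [Fintype G] (ψ : IrrCharacter G) (R : G →* Matrix (Fin n) (Fin n) O)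
    (hR : ∀ g, ι (R g).trace = (ψ : G → ℂ) g) (A : Matrix (Fin n) (Fin n) ℂ)
    (hA : ∀ g, (R g).map ι * A = A * (R g).map ι) : ∃ a : ℂ, A = a • 1 := by
  have h := Chars.classInner_char_eq_finrank (cRep ι R) (cRep ι R)
  rw [show (cRep ι R).character = (ψ : G → ℂ) from funext fun g => (cRep_character ι R g).trans (hR g),
    Chars.classInner_irr_self] at h
  have h1 : Module.finrank ℂ (Representation.IntertwiningMap (cRep ι R) (cRep ι R)) = 1 := by
    exact_mod_cast h.symm
  rcases Nat.eq_zero_or_pos n with hn | hn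
  · subst hn; exact ⟨0, Subsingleton.elim _ _⟩
  have hid : matMap ι R R 1 (fun g => by rw [mul_one, one_mul]) ≠ 0 := by
    intro h0
    have h2 : Matrix.toLin' (1 : Matrix (Fin n) (Fin n) ℂ) = 0 :=
      LinearMap.ext fun v => DFunLike.congr_fun h0 v
    have h3 := congrArg (fun F => F (fun _ => 1) ⟨0, hn⟩) h2
    simp at h3
  obtain ⟨a, ha⟩ := exists_smul_eq_of_finrank_eq_one h1 hid (matMap ι R R A hA)
  refine ⟨a, ?_⟩
  have h2 : a • Matrix.toLin' (1 : Matrix (Fin n) (Fin n) ℂ) = Matrix.toLin' A :=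
    LinearMap.ext fun v => DFunLike.congr_fun ha v
  rw [← map_smul] at h2
  exact (LinearEquiv.injective _ h2).symm

variable [IsDiscreteValuationRing O] [hp : Fact p.Prime]

/-- The residue field has characteristic `p`. -/
theorem charP_residueField (hpu : ¬ IsUnit (p : O)) : CharP (ResidueField O) p :=
  (CharP.charP_iff_prime_eq_zero hp.out).mpr (by
    rw [← map_natCast (residue O), residue_eq_zero_iff]
    exact (mem_maximalIdeal _).mpr hpu)

omit [Finite G] in
theorem isUnit_e (hpu : ¬ IsUnit (p : O)) (L : Loc G p) : IsUnit (L.e : O) := by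
  haveI := charP_residueField (p := p) hpu
  rw [← residue_ne_zero_iff_isUnit, map_natCast]
  intro h
  rw [CharP.cast_eq_zero_iff (ResidueField O) p] at h
  have h1 := Nat.le_of_dvd (by have := hp.out.two_le; omega) (h.trans L.he)
  have := hp.out.two_le
  omega

omit [Finite G] [IsDomain O] [IsDiscreteValuationRing O] hp in
theorem mulVec_fix (L : Loc G p) (S : G →* Matrix (Fin m) (Fin m) O) {w : Fin m → O}
    (hw : S L.u *ᵥ w = w) : ∀ y ∈ Subgroup.zpowers L.u, S y *ᵥ w = w := by
  let K : Subgroup G :=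
    { carrier := {y | S y *ᵥ w = w}
      one_mem' := by simp
      mul_mem' := fun {a b} ha hb => by
        show S (a * b) *ᵥ w = w
        rw [map_mul, ← Matrix.mulVec_mulVec, hb, ha]
      inv_mem' := fun {a} ha => by
        show S a⁻¹ *ᵥ w = w
        conv_lhs => rw [← (ha : S a *ᵥ w = w), Matrix.mulVec_mulVec, ← map_mul, inv_mul_cancel,
          map_one, Matrix.one_mulVec] }
  exact fun y hy => (Subgroup.zpowers_le.mpr (show L.u ∈ K from hw)) hy

/-- The contragredient of an integral representation. -/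
def dualMat (R : G →* Matrix (Fin n) (Fin n) O) : G →* Matrix (Fin n) (Fin n) O where
  toFun g := (R g⁻¹)ᵀ
  map_one' := by rw [inv_one, map_one, Matrix.transpose_one]
  map_mul' g h := by rw [_root_.mul_inv_rev, map_mul, Matrix.transpose_mul]

omit [Finite G] [IsDomain O] [IsDiscreteValuationRing O] in
theorem dualMat_apply (R : G →* Matrix (Fin n) (Fin n) O) (g : G) :
    dualMat R g = (R g⁻¹)ᵀ := rfl

omit [Finite G] [IsDomain O] [IsDiscreteValuationRing O] in
theorem vecMul_eq_dualMat (R : G →* Matrix (Fin n) (Fin n) O) (g : G) (f : Fin n → O) :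
    f ᵥ* R g = dualMat R g⁻¹ *ᵥ f := by
  rw [dualMat_apply, inv_inv, Matrix.mulVec_transpose]

omit [Finite G] [IsDomain O] [IsDiscreteValuationRing O] in
theorem dualMat_dot (R : G →* Matrix (Fin n) (Fin n) O) (g : G) (f v : Fin n → O) :
    (dualMat R g *ᵥ f) ⬝ᵥ (R g *ᵥ v) = f ⬝ᵥ v := by
  rw [dualMat_apply, Matrix.mulVec_transpose, Matrix.dotProduct_mulVec, Matrix.vecMul_vecMul,
    ← map_mul, inv_mul_cancel, map_one, Matrix.vecMul_one]

omit [Finite G] in
theorem geom_zero (L : Loc G p) {ζ : O} (hζ : IsPrimitiveRoot ζ L.e) (i : ℕ) (hi : ¬ L.e ∣ i) :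
    ∑ j ∈ range L.e, (ζ ^ i) ^ j = 0 := by
  have h1 : ζ ^ i - 1 ≠ 0 := fun h => hi (hζ.dvd_of_pow_eq_one i (sub_eq_zero.mp h))
  refine (mul_eq_zero.mp ?_).resolve_left h1
  rw [mul_geom_sum, ← pow_mul, mul_comm, pow_mul, hζ.pow_eq_one, one_pow, sub_self]

omit [Finite G] in
theorem primitive_residue (hpu : ¬ IsUnit (p : O)) (L : Loc G p) {ζ : O}
    (hζ : IsPrimitiveRoot ζ L.e) : IsPrimitiveRoot (residue O ζ) L.e := by
  refine ⟨by rw [← map_pow, hζ.pow_eq_one, map_one], fun i hi => ?_⟩
  by_contra hdi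
  have h0 := congrArg (residue O) (geom_zero L hζ i hdi)
  rw [map_sum, map_zero] at h0
  simp only [map_pow, hi, one_pow, sum_const, card_range, nsmul_one] at h0
  have := (isUnit_e hpu L)
  rw [← residue_ne_zero_iff_isUnit, map_natCast] at this
  exact this h0

omit [Finite G] [IsDiscreteValuationRing O] in
theorem e_ne_zero (L : Loc G p) [Fact p.Prime] : L.e ≠ 0 := by
  intro h
  have := L.he
  rw [h, zero_dvd_iff] at this
  have := (Fact.out : p.Prime).two_le
  omega

set_option maxHeartbeats 800000 in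
/-- A character of degree `p + 1` which takes the value `1` on `p`-elements in total has a split
pair. -/
theorem exists_pair (hι : Function.Injective ι) (hpu : ¬ IsUnit (p : O)) (L : Loc G p) {ζ : O}
    (hζ : IsPrimitiveRoot ζ L.e) (ψ : IrrCharacter G) (R₀ : G →* Matrix (Fin n) (Fin n) O)
    (hn : n = p + 1) (hR₀ : ∀ g, ι (R₀ g).trace = (ψ : G → ℂ) g)
    (hsum : ∑ i ∈ range p, (ψ : G → ℂ) (L.u ^ i) = (p : ℂ) * 2) :
    ∃ (R : G →* Matrix (Fin n) (Fin n) O) (j : ℕ) (f v : Fin n → O),
      (∀ g, ι (R g).trace = (ψ : G → ℂ) g) ∧ f ⬝ᵥ v = 1 ∧ R L.u *ᵥ v = v ∧ f ᵥ* R L.u = f ∧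
      f ᵥ* R L.g₀ = ζ ^ j • f ∧ R L.g₀ *ᵥ v = ζ ^ j • v := by
  classical
  cases nonempty_fintype G
  haveI := charP_residueField (p := p) hpu
  obtain ⟨R, hRtr, hind⟩ := exists_indecomposable ι hι R₀ (exists_scalar ι ψ R₀ hR₀)
  have hR : ∀ g, ι (R g).trace = (ψ : G → ℂ) g := fun g => by rw [hRtr, hR₀]
  set k := ResidueField O
  let ρ : G →* Matrix (Fin n) (Fin n) k := (residue O).mapMatrix.toMonoidHom.comp R
  have hρ : ∀ g, ρ g = redMat (R g) := fun g => rfl
  have hup : L.u ^ p = 1 := orderOf_dvd_iff_pow_eq_one.mp (dvd_of_eq L.hu)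
  have hek : (L.e : k) ≠ 0 := by
    have h := isUnit_e hpu L
    rwa [← residue_ne_zero_iff_isUnit, map_natCast] at h
  obtain ⟨y, hy⟩ := exists_norm_ne_zero ρ hn L.hu hek ⟨_, primitive_residue hpu L hζ⟩
    L.hg₀ L.hconj L.N L.huN L.hN L.hfree L.hgen fun f hf hc => hind f hf fun g => hc g
  have htr : ι (∑ i ∈ range p, R L.u ^ i).trace = (p : ℂ) * ((2 : ℕ) : ℂ) := by
    rw [Matrix.trace_sum, map_sum, Nat.cast_two, ← hsum]
    exact sum_congr rfl fun i _ => by rw [← map_pow, hR]
  have htr' : ι (∑ i ∈ range p, (R L.u)ᵀ ^ i).trace = (p : ℂ) * ((2 : ℕ) : ℂ) := by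
    rw [← htr]
    simp only [← Matrix.transpose_pow, ← Matrix.transpose_sum, Matrix.trace_transpose]
  obtain ⟨b, hb, hbli⟩ := exists_fixed_basis ι hι hp.out.ne_zero (R L.u)
    (by rw [← map_pow, hup, map_one]) htr
  obtain ⟨b', hb', hbli'⟩ := exists_fixed_basis ι hι hp.out.ne_zero (R L.u)ᵀ
    (by rw [← Matrix.transpose_pow, ← map_pow, hup, map_one, Matrix.transpose_one]) htr'
  -- some functional is a unit on some fixed vector
  obtain ⟨i₀, i₁, hunit⟩ : ∃ i₀ i₁, IsUnit (b' i₁ ⬝ᵥ b i₀) := by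
    by_contra! hall
    have hdot : ∀ i j, redVec (b' j) ⬝ᵥ redVec (b i) = 0 := fun i j => by
      have h := hall i j
      rw [← residue_ne_zero_iff_isUnit, not_not] at h
      exact (RingHom.map_dotProduct (residue O) _ _).symm.trans h
    set U := Matrix.toLinAlgEquiv' (R := k) (n := Fin n) (ρ L.u) with hUdef
    have hUp : U ^ p = 1 := by rw [hUdef, ← map_pow, ← map_pow, hup, map_one, map_one]
    set x := U - 1 with hxdef
    have hxy : (x ^ (p - 1)) y ≠ 0 := by
      rw [hxdef, ← sum_range_pow_eq]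
      intro h
      refine hy ?_
      simp only [hUdef, ← map_pow, ← map_sum] at h
      simp only [← map_pow]
      exact h
    have hp1 : p - 1 + 1 = p := Nat.sub_add_cancel hp.out.one_le
    have hli := linearIndependent_pow (x := x) (q := p - 1) (a := 1)
      (by rw [hp1]; exact sub_one_pow_eq_zero hUp) (y := fun _ => y)
      (linearIndependent_unique_iff.mpr hxy)
    -- the image has dimension `p - 1` and contains no two independent fixed vectors
    let W : Submodule k (Fin n → k) := Submodule.span k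
      (Set.range fun t : Fin (p - 1 + 1) × Fin 1 => (x ^ (t.1 : ℕ)) y)
    have hW : Module.finrank k W = p := by
      rw [finrank_span_eq_card hli]; simp [hp1]
    let succT : Fin (p - 1) → Fin (p - 1 + 1) × Fin 1 := fun s => (s.succ, 0)
    have hsuccli : LinearIndependent k fun s : Fin (p - 1) => (x ^ ((s : ℕ) + 1)) y := by
      have h := hli.comp succT fun a b hab => Fin.succ_injective _ (congrArg Prod.fst hab)
      simpa [succT, Function.comp_def] using h
    have hker : ∀ i, x (redVec (b i)) = 0 := fun i => by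
      rw [hxdef, LinearMap.sub_apply, Module.End.one_apply, hUdef, sub_eq_zero]
      show redMat (R L.u) *ᵥ redVec (b i) = redVec (b i)
      rw [← redMat_mulVec, hb i]
    let im : Submodule k (Fin n → k) := Submodule.span k
      (Set.range fun s : Fin (p - 1) => (x ^ ((s : ℕ) + 1)) y)
    have him : Module.finrank k im = p - 1 := by
      rw [finrank_span_eq_card hsuccli, Fintype.card_fin]
    have himle : im ≤ LinearMap.range x := Submodule.span_le.mpr fun _ ⟨s, hs⟩ =>
      ⟨(x ^ (s : ℕ)) y, (congrArg (fun f : Module.End k (Fin n → k) => f y) (pow_succ' x (s : ℕ))).symm.trans hs⟩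
    have h2ker : 2 ≤ Module.finrank k (LinearMap.ker x) := by
      have h := (LinearIndependent.of_comp (LinearMap.ker x).subtype
        (v := fun i => (⟨redVec (b i), hker i⟩ : LinearMap.ker x)) hbli).fintype_card_le_finrank
      simpa using h
    have hrk := LinearMap.finrank_range_add_finrank_ker x
    rw [Module.finrank_fin_fun] at hrk
    have hrange : im = LinearMap.range x := Submodule.eq_of_le_of_finrank_le himle (by
      rw [him]; omega)
    -- the functionals cut out the image
    let φ : (Fin n → k) →ₗ[k] (Fin 2 → k) := Matrix.mulVecLin (Matrix.of fun j => redVec (b' j))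
    have hφim : LinearMap.range x ≤ LinearMap.ker φ := by
      rintro _ ⟨z, rfl⟩
      refine LinearMap.mem_ker.mpr (funext fun j => ?_)
      show redVec (b' j) ⬝ᵥ (redMat (R L.u) *ᵥ z - z) = 0
      rw [dotProduct_sub, Matrix.dotProduct_mulVec, ← Matrix.mulVec_transpose,
        show (redMat (R L.u))ᵀ = redMat (R L.u)ᵀ from (Matrix.transpose_map).symm,
        ← redMat_mulVec, hb' j, sub_self]
    have hφrange : Module.finrank k (LinearMap.range φ) = 2 := by
      have h := LinearIndependent.rank_matrix (M := Matrix.of fun j => redVec (b' j)) hbli'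
      simpa [Matrix.rank, φ] using h
    have hφ := LinearMap.finrank_range_add_finrank_ker φ
    rw [Module.finrank_fin_fun] at hφ
    have hkerφ : LinearMap.range x = LinearMap.ker φ :=
      Submodule.eq_of_le_of_finrank_le hφim (by rw [← hrange, him]; omega)
    have himW : im ≤ W := Submodule.span_mono fun _ ⟨s, hs⟩ => ⟨succT s, by simpa [succT] using hs⟩
    have hbW : ∀ i, redVec (b i) ∈ W := fun i => himW (by
      rw [hrange, hkerφ, LinearMap.mem_ker]
      exact funext fun j => hdot i j)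
    -- the kernel on `W` is too big
    have h2kerW : 2 ≤ Module.finrank k (LinearMap.ker (x.comp W.subtype)) := by
      have h := (LinearIndependent.of_comp (W.subtype.comp (LinearMap.ker (x.comp W.subtype)).subtype)
        (v := fun i => (⟨⟨redVec (b i), hbW i⟩, hker i⟩ : LinearMap.ker (x.comp W.subtype)))
        hbli).fintype_card_le_finrank
      simpa using h
    have hrkW := LinearMap.finrank_range_add_finrank_ker (x.comp W.subtype)
    have himW' : im ≤ LinearMap.range (x.comp W.subtype) := Submodule.span_le.mpr fun _ ⟨s, hs⟩ =>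
      ⟨⟨(x ^ (s : ℕ)) y, Submodule.subset_span ⟨(s.castSucc, 0), rfl⟩⟩,
        (congrArg (fun f : Module.End k (Fin n → k) => f y) (pow_succ' x (s : ℕ))).symm.trans hs⟩
    have := Submodule.finrank_mono himW'
    omega
  -- the eigen components
  have hge := geom_zero L hζ
  have hec := isUnit_e hpu L
  have hfixV := mulVec_fix L R (hb i₀)
  obtain ⟨c, hc, hcp⟩ := exists_components R (Subgroup.zpowers L.u) hec L.hg₀ L.hnorm hge
    hζ.pow_eq_one (b i₀) hfixV
  have hF : dualMat R L.u *ᵥ b' i₁ = b' i₁ := by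
    conv_lhs => rw [← hb' i₁]
    rw [dualMat_apply, Matrix.mulVec_mulVec, ← Matrix.transpose_mul, ← map_mul, mul_inv_cancel,
      map_one, Matrix.transpose_one, Matrix.one_mulVec]
  obtain ⟨d, hd, hdp⟩ := exists_components (dualMat R) (Subgroup.zpowers L.u) hec L.hg₀ L.hnorm hge
    hζ.pow_eq_one (b' i₁) (mulVec_fix L (dualMat R) hF)
  obtain ⟨i, j, hij⟩ : ∃ i j, IsUnit (d i ⬝ᵥ c j) := by
    by_contra! hall
    rw [hc, hd, sum_dotProduct] at hunit
    simp only [dotProduct_sum] at hunit
    refine (mem_maximalIdeal _).mp ?_ hunit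
    exact Ideal.sum_mem _ fun i _ => Ideal.sum_mem _ fun j _ => (mem_maximalIdeal _).mpr (hall i j)
  obtain ⟨ε, hε⟩ := hij
  have hzz : ζ ^ i * ζ ^ j = 1 := by
    have h := dualMat_dot R L.g₀ (d i) (c j)
    rw [(hdp i).2, (hcp j).2, smul_dotProduct, dotProduct_smul, smul_eq_mul, smul_eq_mul,
      ← mul_assoc, ← hε] at h
    exact mul_right_cancel₀ ε.ne_zero (h.trans (one_mul _).symm)
  refine ⟨R, j, (((ε⁻¹ : Oˣ) : O)) • d i, c j, hR, ?_, (hcp j).1 _ (Subgroup.mem_zpowers _), ?_, ?_,
    (hcp j).2⟩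
  · rw [smul_dotProduct, ← hε, smul_eq_mul, Units.inv_mul]
  · rw [vecMul_eq_dualMat, Matrix.mulVec_smul,
      (hdp i).1 _ ((Subgroup.zpowers L.u).inv_mem (Subgroup.mem_zpowers _))]
  · rw [vecMul_eq_dualMat, Matrix.mulVec_smul, smul_comm]
    congr 1
    have h := congrArg (fun z => ζ ^ j • (dualMat R L.g₀⁻¹ *ᵥ z)) (hdp i).2
    simp only [Matrix.mulVec_mulVec, ← map_mul, inv_mul_cancel, map_one, Matrix.one_mulVec,
      Matrix.mulVec_smul, smul_smul] at h
    rw [mul_comm (ζ ^ j), hzz, one_smul] at h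
    exact h.symm

/-- Fixed vectors are norms when every twist is covered, so the average fixed multiplicity is
small. -/
theorem sum_le (hι : Function.Injective ι) (hpu : ¬ IsUnit (p : O)) (L : Loc G p) {ζ : O}
    (hζ : IsPrimitiveRoot ζ L.e) (S : G →* Matrix (Fin m) (Fin m) O) {a : ℕ}
    (htr : ι (∑ i ∈ range p, S L.u ^ i).trace = (p : ℂ) * a)
    (hcov : ∀ j, ∃ (n : ℕ) (R : G →* Matrix (Fin n) (Fin n) O) (f v : Fin n → O),
      (∀ X : Matrix (Fin m) (Fin n) O, (∀ g, S g * X = X * R g) → X = 0) ∧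
      f ⬝ᵥ v = 1 ∧ R L.u *ᵥ v = v ∧ f ᵥ* R L.u = f ∧ f ᵥ* R L.g₀ = ζ ^ j • f) :
    p * a ≤ m := by
  classical
  haveI := charP_residueField (p := p) hpu
  haveI : Fintype (Subgroup.zpowers L.u) := Fintype.ofFinite _
  have hup : L.u ^ p = 1 := orderOf_dvd_iff_pow_eq_one.mp (dvd_of_eq L.hu)
  obtain ⟨b, hb, hbli⟩ := exists_fixed_basis ι hι hp.out.ne_zero (S L.u)
    (by rw [← map_pow, hup, map_one]) htr
  have hnormsum : ∀ z : Fin m → O, ∑ y : Subgroup.zpowers L.u, S (y : G) *ᵥ z =
      (∑ i ∈ range p, S L.u ^ i) *ᵥ z := fun z => by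
    rw [Matrix.sum_mulVec, ← Fin.sum_univ_eq_sum_range (fun i => S L.u ^ i *ᵥ z)]
    refine (Fintype.sum_equiv ((finCongr L.hu.symm).trans (finEquivZPowers
      (isOfFinOrder_of_finite L.u))) _ _ fun i => ?_).symm
    simp [finEquivZPowers_apply, map_pow]
  have hkey : ∀ i, ∃ z, b i = (∑ l ∈ range p, S L.u ^ l) *ᵥ z := by
    intro i
    obtain ⟨c, hc, hcp⟩ := exists_components S (Subgroup.zpowers L.u) (isUnit_e hpu L) L.hg₀
      L.hnorm (geom_zero L hζ) hζ.pow_eq_one (b i) (mulVec_fix L S (hb i))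
    have hz : ∀ j, ∃ z, c j = (∑ l ∈ range p, S L.u ^ l) *ᵥ z := by
      intro j
      obtain ⟨n, R, f, v, hhom, hfv, hv, hfu, hfg⟩ := hcov j
      obtain ⟨z, hz⟩ := exists_norm_eq R S (Subgroup.zpowers L.u) L.N
        (Subgroup.zpowers_le.mpr L.huN) L.hfree hhom f v (c j) hfv (mulVec_fix L R hv) (by
        intro h hh
        obtain ⟨a, b, rfl⟩ := L.hN h hh
        have hu : ∀ a : ℕ, S L.u ^ a * vecMulVec (c j) f = vecMulVec (c j) f * R L.u ^ a := by
          intro a
          induction a with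
          | zero => simp
          | succ a ih =>
            rw [pow_succ, pow_succ', Matrix.mul_assoc, Matrix.mul_vecMulVec,
              (hcp j).1 _ (Subgroup.mem_zpowers _), ih, ← Matrix.mul_assoc,
              Matrix.vecMulVec_mul _ _ (R L.u), hfu]
        have hg : ∀ b : ℕ, S L.g₀ ^ b * vecMulVec (c j) f = vecMulVec (c j) f * R L.g₀ ^ b := by
          intro b
          induction b with
          | zero => simp
          | succ b ih =>
            rw [pow_succ, pow_succ', Matrix.mul_assoc, Matrix.mul_vecMulVec, (hcp j).2,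
              ← Matrix.mul_assoc _ (R L.g₀), Matrix.vecMulVec_mul _ _ (R L.g₀), hfg,
              Matrix.smul_vecMulVec, Matrix.vecMulVec_smul, Matrix.mul_smul, Matrix.smul_mul, ih]
        rw [map_mul, map_mul, map_pow, map_pow, map_pow, map_pow, Matrix.mul_assoc, hg,
          ← Matrix.mul_assoc, hu, Matrix.mul_assoc])
      exact ⟨z, hz.trans (hnormsum z)⟩
    choose z hz using hz
    refine ⟨∑ j ∈ range L.e, z j, ?_⟩
    rw [hc, Matrix.mulVec_sum]
    exact sum_congr rfl fun j _ => hz j
  choose z hz using hkey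
  set U : Module.End (ResidueField O) (Fin m → ResidueField O) :=
    Matrix.toLinAlgEquiv' (redMat (S L.u)) with hUdef
  have hUp : U ^ p = 1 := by
    rw [hUdef, ← map_pow, show redMat (S L.u) = (residue O).mapMatrix (S L.u) from rfl, ← map_pow,
      ← map_pow, hup, map_one, map_one, map_one]
  refine le_trans (mul_le_finrank hUp hbli fun i => ⟨redVec (z i), ?_⟩) (by
    rw [Module.finrank_fin_fun])
  have hred : redMat (∑ l ∈ range p, S L.u ^ l) = ∑ l ∈ range p, redMat (S L.u) ^ l := by
    show (residue O).mapMatrix _ = _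
    rw [map_sum]
    exact sum_congr rfl fun l _ => map_pow _ _ _
  rw [hz i, redMat_mulVec, hred, hUdef, sum_congr rfl fun l _ => (map_pow _ _ _).symm, ← map_sum]
  rfl

end Cfsg.Agent.Lib.UniqueDegP
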