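import Mathlib
import Cfsg.Prelude.Def_Characters
import Cfsg.Prelude.Def_Blocks
import Cfsg.Agent.Lib.Perm.PrimeDegree
import Cfsg.Agent.Lib.Chars.Ops
import Cfsg.Agent.Lib.Chars.Completeness
import Cfsg.Agent.Lib.Chars.DefectZero
import Cfsg.Agent.Lib.UniqueDegP.Pair

/-!
# Transitive groups of prime degree with a unique character of that degree

The first consequences: simplicity and the values of the character on a complement.
-/

set_option autoImplicit false

namespace Cfsg.Agent.Lib.UniqueDegP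

open Cfsg Cfsg.Agent.Lib Finset
open scoped ComplexConjugate

universe u v

/-- The hypotheses, in terms of elements. -/
structure Setting (G : Type u) [Group G] (p : ℕ) where
  u : G
  g₀ : G
  e : ℕ
  r : ℕ
  θ : IrrCharacter G
  μ : ℂ
  hu : orderOf u = p
  hsq : ¬ p ^ 2 ∣ Nat.card G
  hg₀ : orderOf g₀ = e
  he : e ∣ p - 1
  he2 : 2 ≤ e
  hep : e ≠ p - 1
  hconj : g₀ * u = u ^ r * g₀
  hC : Subgroup.centralizer ({u} : Set G) = Subgroup.zpowers u
  hg₀N : g₀ ∈ Subgroup.normalizer (Subgroup.zpowers u : Set G)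
  hN : ∀ h ∈ Subgroup.normalizer (Subgroup.zpowers u : Set G), ∃ i j : ℕ, h = u ^ i * g₀ ^ j
  hTI : ∀ g x : G, x ∈ Subgroup.zpowers g₀ → x ≠ 1 → g * x * g⁻¹ ∈ Subgroup.zpowers g₀ →
    g ∈ Subgroup.normalizer (Subgroup.zpowers g₀ : Set G)
  hNE : Nat.card (Subgroup.normalizer (Subgroup.zpowers g₀ : Set G)) = 2 * e
  hsimple : IsSimpleGroup G
  hnc : ∃ a b : G, a * b ≠ b * a
  hθ1 : (θ : G → ℂ) 1 = p
  hθu : ∀ g : G, p ∣ orderOf g → (θ : G → ℂ) g = 0
  hμ : μ ^ e = 1
  hμreal : conj μ = μ
  hθreal : ∀ g : G, conj ((θ : G → ℂ) g) = (θ : G → ℂ) g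
  hθg : ∀ j : ℕ, ¬ e ∣ j → (θ : G → ℂ) (g₀ ^ j) = μ ^ j

variable {G : Type u} [Group G] [Finite G] {p : ℕ} [hp : Fact p.Prime]

/-- The value of a degree `p` character on a complement of a self-centralising `P`. -/
theorem exists_value {u g₀ : G} {e r : ℕ} (hu : u ^ p = 1) (hg₀ : g₀ ^ e = 1)
    (hconj : g₀ * u = u ^ r * g₀)
    (hfpf : ∀ j : ℕ, ¬ e ∣ j → ∀ i : ℕ, IsConj (g₀ ^ j) (u ^ i * g₀ ^ j))
    {d : ℕ} (ρ : Representation ℂ G (Fin d → ℂ)) (hd : ρ.character 1 = p)
    (hvan : ∀ i : ℕ, ¬ p ∣ i → ρ.character (u ^ i) = 0) :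
    ∃ μ : ℂ, μ ^ e = 1 ∧ ∀ j : ℕ, ¬ e ∣ j → ρ.character (g₀ ^ j) = μ ^ j := by
  classical
  have hp0 : (p : ℂ) ≠ 0 := Nat.cast_ne_zero.mpr hp.out.ne_zero
  set S : Module.End ℂ (Fin d → ℂ) := ∑ i ∈ range p, ρ u ^ i
  set T : Module.End ℂ (Fin d → ℂ) := (p : ℂ)⁻¹ • S
  have hUS : ρ u * S = S := by
    simp only [S, Finset.mul_sum, ← pow_succ']
    refine add_right_cancel (b := ρ u ^ 0) ?_
    rw [← sum_range_succ' (fun i => ρ u ^ i), sum_range_succ, ← map_pow, hu, map_one, pow_zero]
  have hUiS : ∀ i : ℕ, ρ u ^ i * S = S := fun i => by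
    induction i with
    | zero => rw [pow_zero, one_mul]
    | succ i ih => rw [pow_succ, mul_assoc, hUS, ih]
  have hTT : T * T = T := by
    have hSS : S * S = (p : ℂ) • S := by
      conv_lhs => arg 1; simp only [S]
      rw [Finset.sum_mul, sum_congr rfl fun i _ => hUiS i, sum_const, card_range,
        Nat.cast_smul_eq_nsmul]
    simp only [T, smul_mul_smul_comm, hSS, smul_smul]
    congr 1
    field_simp
  have htrT : LinearMap.trace ℂ _ T = 1 := by
    simp only [T, S, map_smul, map_sum, smul_eq_mul]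
    rw [sum_eq_single 0]
    · show (p : ℂ)⁻¹ * LinearMap.trace ℂ _ (ρ u ^ 0) = 1
      rw [← map_pow, pow_zero]
      show (p : ℂ)⁻¹ * ρ.character 1 = 1
      rw [hd, inv_mul_cancel₀ hp0]
    · intro i hi hi0
      rw [← map_pow]
      exact hvan i fun h => hi0 (Nat.eq_zero_of_dvd_of_lt h (mem_range.mp hi))
    · exact fun h => absurd (mem_range.mpr hp.out.pos) h
  have hrank : Module.finrank ℂ (LinearMap.range T) = 1 := by
    have h := LinearMap.IsProj.trace (p := LinearMap.range T) (f := T)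
      ⟨fun w => ⟨w, rfl⟩, fun w ⟨z, hz⟩ => by rw [← hz, ← Module.End.mul_apply, hTT]⟩
    rw [htrT] at h
    exact_mod_cast h.symm
  obtain ⟨v, hv0, hspan⟩ := finrank_eq_one_iff'.mp hrank
  have hTv : T (v : Fin d → ℂ) = v := by
    obtain ⟨z, hz⟩ := v.2
    rw [← hz, ← Module.End.mul_apply, hTT]
  -- the complement commutes with the projection
  have hcomm : Commute (ρ g₀) S := by
    have hiter : ∀ i : ℕ, g₀ * u ^ i = u ^ (r * i) * g₀ := fun i => by
      induction i with
      | zero => simp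
      | succ i ih => rw [pow_succ, ← mul_assoc, ih, mul_assoc, hconj, ← mul_assoc, ← pow_add, mul_add,
          mul_one]
    show ρ g₀ * S = S * ρ g₀
    have h1 : ρ g₀ * S = (∑ i ∈ range p, ρ u ^ (r * i)) * ρ g₀ := by
      simp only [S, Finset.mul_sum, Finset.sum_mul, ← map_pow, ← map_mul, hiter]
    have h2 : (∑ i ∈ range p, ρ u ^ (r * i)) * S = (p : ℂ) • S := by
      rw [Finset.sum_mul, sum_congr rfl fun i _ => hUiS _, sum_const, card_range,
        Nat.cast_smul_eq_nsmul]
    have h3 : (p : ℂ) • (ρ g₀ * S) = ρ g₀ * S * S := by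
      rw [mul_assoc, ← mul_smul_comm]
      conv_rhs => arg 2; arg 1; simp only [S]
      rw [Finset.sum_mul, sum_congr rfl fun i _ => hUiS i, sum_const, card_range,
        Nat.cast_smul_eq_nsmul]
    rcases eq_or_ne (r : ZMod p) 0 with hr | hr
    · -- conjugation is injective on the powers
      exfalso
      rw [ZMod.natCast_eq_zero_iff] at hr
      obtain ⟨q, rfl⟩ := hr
      rw [pow_mul, hu, one_pow, one_mul, mul_eq_left] at hconj
      have := hvan 1 (fun h => hp.out.ne_one (Nat.dvd_one.mp h))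
      rw [pow_one, hconj, hd] at this
      exact hp0 this
    · rw [h1]
      congr 1
      let φ : Fin p → Fin p := fun i => ⟨r * i % p, Nat.mod_lt _ hp.out.pos⟩
      have hφ : Function.Bijective φ := by
        refine Finite.injective_iff_bijective.mp fun a b hab => Fin.ext ?_
        have h := congrArg (fun x : Fin p => ((x : ℕ) : ZMod p)) hab
        simp only [φ, ZMod.natCast_mod, Nat.cast_mul] at h
        have h' := mul_left_cancel₀ hr h
        rw [ZMod.natCast_eq_natCast_iff'] at h'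
        rwa [Nat.mod_eq_of_lt a.2, Nat.mod_eq_of_lt b.2] at h'
      simp only [S]
      rw [← Fin.sum_univ_eq_sum_range (fun i => ρ u ^ (r * i)),
        ← Fin.sum_univ_eq_sum_range (fun i => ρ u ^ i)]
      refine Fintype.sum_bijective φ hφ _ _ fun i => ?_
      show ρ u ^ (r * i) = ρ u ^ (r * i % p)
      rw [← map_pow, ← map_pow, ← pow_eq_pow_mod _ hu]
  obtain ⟨c, hc⟩ := hspan ⟨ρ g₀ v, ⟨ρ g₀ v, by
    rw [← Module.End.mul_apply, ← (hcomm.smul_right (p : ℂ)⁻¹).eq, Module.End.mul_apply, hTv]⟩⟩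
  have hc' : ρ g₀ (v : Fin d → ℂ) = c • (v : Fin d → ℂ) := (congrArg Subtype.val hc).symm
  have hpow : ∀ j : ℕ, (ρ g₀ ^ j) (v : Fin d → ℂ) = c ^ j • (v : Fin d → ℂ) := fun j => by
    induction j with
    | zero => simp
    | succ j ih => rw [pow_succ', Module.End.mul_apply, ih, map_smul, hc', smul_smul, ← pow_succ]
  refine ⟨c, ?_, fun j hj => ?_⟩
  · have h := hpow e
    rw [← map_pow, hg₀, map_one, Module.End.one_apply] at h
    have hv : (v : Fin d → ℂ) ≠ 0 := fun h0 => hv0 (Subtype.ext h0)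
    have h' : (1 : ℂ) • (v : Fin d → ℂ) = c ^ e • (v : Fin d → ℂ) := by rw [one_smul]; exact h
    exact (smul_left_injective ℂ hv h').symm
  · have hfac : ρ g₀ ^ j * T = c ^ j • T := by
      refine LinearMap.ext fun z => ?_
      obtain ⟨a, ha⟩ := hspan ⟨T z, ⟨z, rfl⟩⟩
      have ha' : T z = a • (v : Fin d → ℂ) := (congrArg Subtype.val ha).symm
      show (ρ g₀ ^ j) (T z) = c ^ j • T z
      rw [ha', map_smul, hpow, smul_comm]
    have hconst : ∀ i : ℕ, LinearMap.trace ℂ _ (ρ g₀ ^ j * ρ u ^ i) = ρ.character (g₀ ^ j) := by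
      intro i
      rw [LinearMap.trace_mul_comm, ← map_pow, ← map_pow, ← map_mul]
      obtain ⟨t, ht⟩ := isConj_iff.mp (hfpf j hj i)
      show ρ.character (u ^ i * g₀ ^ j) = _
      rw [← ht, ρ.char_conj]
    have h := congrArg (LinearMap.trace ℂ _) hfac
    rw [map_smul, htrT, smul_eq_mul, mul_one] at h
    simp only [T, S, mul_smul_comm, Finset.mul_sum, map_smul, map_sum, hconst, sum_const,
      card_range, smul_eq_mul, nsmul_eq_mul] at h
    rw [← mul_assoc, inv_mul_cancel₀ hp0, one_mul] at h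
    exact h

variable {α : Type v} [MulAction G α] [FaithfulSMul G α] [MulAction.IsPretransitive G α]

set_option maxHeartbeats 1600000 in
/-- The setting of the statement. -/
theorem exists_setting (hα : Nat.card α = p)
    (huniq : ∃! χ : IrrCharacter G, charDegree (χ : G → ℂ) = p) (P : Sylow p G) (E : Subgroup G)
    (hPE : (P : Subgroup G) ⊔ E = Subgroup.normalizer ((P : Subgroup G) : Set G))
    (hPE' : (P : Subgroup G) ⊓ E = ⊥)
    (hNE : Nat.card (Subgroup.normalizer (E : Set G)) = 2 * Nat.card E)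
    (hTI : ∀ g : G, g ∉ Subgroup.normalizer (E : Set G) →
      E ⊓ E.map (MulAut.conj g).toMonoidHom = ⊥) :
    Nonempty (Setting G p) := by
  classical
  cases nonempty_fintype G
  have hpp := hp.out
  haveI : Finite α := Nat.finite_of_card_ne_zero (by rw [hα]; exact hpp.ne_zero)
  haveI : Fintype α := Fintype.ofFinite α
  obtain ⟨a₀⟩ : Nonempty α := (Nat.card_pos_iff.mp (by rw [hα]; exact hpp.pos)).1
  have hdiv : p ∣ Nat.card G := by
    rw [← hα, ← MulAction.index_stabilizer_of_transitive G a₀]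
    exact Subgroup.index_dvd_card _
  have hsq : ¬ p ^ 2 ∣ Nat.card G := by
    intro h
    have h1 := Subgroup.card_dvd_of_injective (MulAction.toPermHom G α)
      (MulAction.toPerm_injective)
    rw [Nat.card_perm, hα] at h1
    have h2 := h.trans h1
    obtain ⟨q, rfl⟩ : ∃ q, p = q + 1 := ⟨p - 1, (Nat.sub_add_cancel hpp.one_le).symm⟩
    rw [Nat.factorial_succ, pow_two, Nat.mul_dvd_mul_iff_left (Nat.succ_pos q),
      hpp.dvd_factorial] at h2
    omega
  -- coordinates
  obtain ⟨τ, crd₀, hτp, hτ⟩ := PrimeDegree.exists_coord (G := G) hα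
  have hτord : orderOf τ = p := orderOf_eq_prime hτp fun h => by
    have := hτ a₀
    rw [h, one_smul] at this
    simp at this
  have hPcard : Nat.card P = p := by
    have h := P.card_eq_multiplicity
    have h1 : (Nat.card G).factorization p = 1 := by
      refine le_antisymm ?_ ?_
      · by_contra! hlt
        exact hsq ((pow_dvd_pow p hlt).trans (Nat.ordProj_dvd _ _))
      · exact Nat.Prime.factorization_pos_of_dvd hpp Nat.card_pos.ne' hdiv
    rw [h, h1, pow_one]
  let Q : Sylow p G := Sylow.ofCard (Subgroup.zpowers τ) ((Nat.card_zpowers τ).trans (hτord.trans (hPcard.symm.trans P.card_eq_multiplicity)))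
  obtain ⟨t, ht⟩ := MulAction.exists_smul_eq G Q P
  have hPt : (P : Subgroup G) = Subgroup.zpowers (t * τ * t⁻¹) := by
    rw [← ht]
    show (Subgroup.zpowers τ).map (MulAut.conj t).toMonoidHom = _
    rw [MonoidHom.map_zpowers]
    rfl
  set u := t * τ * t⁻¹
  let crd : α ≃ ZMod p := (MulAction.toPerm t⁻¹).trans crd₀
  have hcrd : ∀ x, crd (u • x) = crd x + 1 := fun x => by
    show crd₀ (t⁻¹ • (u • x)) = crd₀ (t⁻¹ • x) + 1
    rw [← hτ (t⁻¹ • x), smul_smul, smul_smul, show t⁻¹ * u = τ * t⁻¹ by simp [u, mul_assoc]]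
  have hu : orderOf u = p := by rw [← Nat.card_zpowers, ← hPt, hPcard]
  have hup : u ^ p = 1 := orderOf_dvd_iff_pow_eq_one.mp (dvd_of_eq hu)
  have hcrdn : ∀ (i : ℕ) x, crd (u ^ i • x) = crd x + i := fun i x => by
    induction i with
    | zero => simp
    | succ i ih => rw [pow_succ', mul_smul, hcrd, ih, Nat.cast_succ]; ring
  have hext : ∀ g h : G, (∀ x, crd (g • x) = crd (h • x)) → g = h := fun g h hgh =>
    FaithfulSMul.eq_of_smul_eq_smul (α := α) fun x => crd.injective (hgh x)
  have haff : ∀ (g : G) (m : ℕ), g * u = u ^ m * g →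
      ∀ x, crd (g • x) = crd (g • crd.symm 0) + m * crd x := by
    intro g m hg
    have hstep : ∀ i : ℕ, crd (g • (u ^ i • crd.symm 0)) = crd (g • crd.symm 0) + m * i := by
      intro i
      induction i with
      | zero => simp
      | succ i ih =>
        rw [pow_succ', mul_smul, smul_smul, hg, mul_smul, hcrdn, ih, Nat.cast_succ]
        ring
    intro x
    have hx : u ^ (crd x).val • crd.symm 0 = x := crd.injective (by
      rw [hcrdn, Equiv.apply_symm_apply, zero_add, ZMod.natCast_zmod_val])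
    have h := hstep (crd x).val
    rwa [hx, ZMod.natCast_zmod_val] at h
  have hC : Subgroup.centralizer ({u} : Set G) = Subgroup.zpowers u := by
    refine le_antisymm (fun g hg => ?_)
      (Subgroup.zpowers_le.mpr (Subgroup.mem_centralizer_singleton_iff.mpr rfl))
    rw [Subgroup.mem_centralizer_singleton_iff] at hg
    have h := haff g 1 (by rw [pow_one, hg])
    have : g = u ^ (crd (g • crd.symm 0)).val := hext _ _ fun x => by
      rw [h, hcrdn, ZMod.natCast_zmod_val, Nat.cast_one, one_mul, add_comm]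
    rw [this]
    exact Subgroup.npow_mem_zpowers u _
  -- the complement acts by multiplication
  have hEN : E ≤ Subgroup.normalizer ((P : Subgroup G) : Set G) := hPE ▸ le_sup_right
  have hmult : ∀ g ∈ Subgroup.normalizer ((P : Subgroup G) : Set G), ∃ m : ℕ, g * u = u ^ m * g := by
    intro g hg
    have h : g * u * g⁻¹ ∈ (P : Subgroup G) :=
      (Subgroup.mem_normalizer_iff.mp hg u).mp (hPt ▸ Subgroup.mem_zpowers u)
    rw [hPt, ← mem_powers_iff_mem_zpowers] at h
    obtain ⟨m, hm⟩ := (Submonoid.mem_powers_iff _ _).mp h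
    exact ⟨m, by rw [hm]; group⟩
  choose mlt hmlt using hmult
  let χE : E →* ZMod p :=
    { toFun := fun x => mlt x (hEN x.2)
      map_one' := by
        have h := hmlt 1 (hEN (1 : E).2)
        rw [one_mul, mul_one] at h
        have h1 : u ^ mlt 1 (hEN (1 : E).2) = u ^ 1 := by rw [pow_one, ← h]
        rw [pow_eq_pow_iff_modEq, hu, ← ZMod.natCast_eq_natCast_iff] at h1
        simpa using h1
      map_mul' := fun x y => by
        have hxy := hmlt _ (hEN (x * y).2)
        have hx := hmlt _ (hEN x.2)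
        have hy := hmlt _ (hEN y.2)
        set a := mlt _ (hEN x.2); set b := mlt _ (hEN y.2); set c := mlt _ (hEN (x * y).2)
        have hxb : ∀ b : ℕ, (x : G) * u ^ b = u ^ (a * b) * x := fun b => by
          induction b with
          | zero => simp
          | succ b ih => rw [pow_succ, ← mul_assoc, ih, mul_assoc, hx, ← mul_assoc, ← pow_add,
              mul_add, mul_one]
        have h1 : u ^ c = u ^ (a * b) := by
          rw [Subgroup.coe_mul, mul_assoc, hy, ← mul_assoc, hxb, mul_assoc] at hxy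
          exact mul_right_cancel hxy.symm
        rw [pow_eq_pow_iff_modEq, hu, ← ZMod.natCast_eq_natCast_iff] at h1
        simpa using h1 }
  have hinjE : Function.Injective χE.toHomUnits := by
    rw [injective_iff_map_eq_one]
    intro x hx
    have h1 : (mlt x (hEN x.2) : ZMod p) = ((1 : ℕ) : ZMod p) := by
      rw [Nat.cast_one]; exact congrArg Units.val hx
    rw [ZMod.natCast_eq_natCast_iff, ← hu, ← pow_eq_pow_iff_modEq, pow_one] at h1
    have h2 := hmlt x (hEN x.2)
    rw [h1] at h2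
    have h3 : (x : G) ∈ (P : Subgroup G) ⊓ E := ⟨hPt ▸ hC ▸
      Subgroup.mem_centralizer_singleton_iff.mpr h2, x.2⟩
    rw [hPE', Subgroup.mem_bot] at h3
    exact Subtype.ext h3
  haveI : IsCyclic E := isCyclic_of_injective χE.toHomUnits hinjE
  obtain ⟨g, hg⟩ := IsCyclic.exists_generator (α := E)
  set g₀ : G := (g : G)
  set e := Nat.card E
  have hEz : E = Subgroup.zpowers g₀ := by
    refine le_antisymm (fun x hx => ?_) (Subgroup.zpowers_le.mpr g.2)
    obtain ⟨i, hi⟩ := Subgroup.mem_zpowers_iff.mp (hg ⟨x, hx⟩)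
    exact ⟨i, by simpa using congrArg Subtype.val hi⟩
  have hg₀ : orderOf g₀ = e := by
    rw [show g₀ = ((g : E) : G) from rfl, Subgroup.orderOf_coe,
      orderOf_eq_card_of_forall_mem_zpowers hg]
  have hg₀e : g₀ ^ e = 1 := orderOf_dvd_iff_pow_eq_one.mp (dvd_of_eq hg₀)
  have he : e ∣ p - 1 := by
    have h := Subgroup.card_dvd_of_injective _ hinjE
    rwa [Nat.card_eq_fintype_card (α := (ZMod p)ˣ), ZMod.card_units] at h
  obtain ⟨r, hconj⟩ : ∃ r, g₀ * u = u ^ r * g₀ := ⟨_, hmlt g₀ (hEN g.2)⟩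
  have hNP : Subgroup.normalizer ((P : Subgroup G) : Set G) =
      Subgroup.normalizer (Subgroup.zpowers u : Set G) := by rw [hPt]
  have hN : ∀ h ∈ Subgroup.normalizer (Subgroup.zpowers u : Set G),
      ∃ i j : ℕ, h = u ^ i * g₀ ^ j := by
    intro h hh
    rw [← hNP, ← hPE, ← SetLike.mem_coe,
      Subgroup.coe_mul_of_right_le_normalizer_left _ _ hEN] at hh
    obtain ⟨a, ha, b, hb, rfl⟩ := hh
    rw [SetLike.mem_coe, hPt, ← mem_powers_iff_mem_zpowers] at ha
    rw [SetLike.mem_coe, hEz, ← mem_powers_iff_mem_zpowers] at hb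
    obtain ⟨i, rfl⟩ := (Submonoid.mem_powers_iff _ _).mp ha
    obtain ⟨j, rfl⟩ := (Submonoid.mem_powers_iff _ _).mp hb
    exact ⟨i, j, rfl⟩
  obtain ⟨θ, hθdeg, hθuniq⟩ := huniq
  obtain ⟨d, ρ, hρirr, hρ⟩ := θ.2
  have hθd : (θ : G → ℂ) 1 = (d : ℂ) := by
    rw [← hρ, Representation.char_one, Module.finrank_fin_fun]
  have hdp : d = p := by
    rw [← hθdeg, charDegree, hθd, Complex.natCast_re, Nat.floor_natCast]
  have hθ1 : (θ : G → ℂ) 1 = p := by rw [hθd, hdp]
  have hθu : ∀ g : G, p ∣ orderOf g → (θ : G → ℂ) g = 0 := fun g hg => by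
    haveI := hρirr
    rw [← hρ]
    exact Chars.char_eq_zero_of_defect_zero ρ hpp (n := 1) (by rwa [pow_one]) hsq
      (by rw [Module.finrank_fin_fun, hdp, pow_one]) g hg
  have heq_θ : ∀ χ : IrrCharacter G, (χ : G → ℂ) 1 = p → χ = θ := fun χ hχ =>
    hθuniq χ (by
      show charDegree (χ : G → ℂ) = p
      rw [charDegree, hχ, Complex.natCast_re, Nat.floor_natCast])
  -- `e ≥ 2`
  have he2 : 2 ≤ e := by
    by_contra! hlt
    have he1 : e = 1 := by
      have : 0 < e := Nat.card_pos
      omega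
    have hEb : E = ⊥ := Subgroup.card_eq_one.mp he1
    have h2 : Nat.card G = 2 := by
      rw [← Subgroup.card_top (G := G), ← Subgroup.normalizer_eq_top E (h := by
        rw [hEb]; infer_instance), hNE]
      show 2 * e = 2
      rw [he1]
    have hp2 : p = 2 := (Nat.prime_dvd_prime_iff_eq hpp Nat.prime_two).mp (h2 ▸ hdiv)
    have hs := Chars.sum_degree_sq (G := G)
    have hdeg : ∀ χ : IrrCharacter G, ∃ m : ℕ, (χ : G → ℂ) 1 = m := fun χ =>
      Chars.isCharacter_exists_degree (Chars.irr_isCharacter χ)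
    choose m hm using hdeg
    simp only [hm, h2] at hs
    have hs' : ∑ χ, m χ ^ 2 = 2 := by exact_mod_cast hs
    have hle := Finset.single_le_sum (f := fun χ => m χ ^ 2) (fun χ _ => Nat.zero_le _)
      (mem_univ θ)
    have hmθ : m θ = 2 := by
      have := hθ1
      rw [hm, hp2] at this
      exact_mod_cast this
    simp only [hmθ] at hle
    omega
  -- `P` is not normal
  have hPnn : ¬ (P : Subgroup G).Normal := by
    intro hn
    have htop : Subgroup.normalizer (Subgroup.zpowers u : Set G) = ⊤ := by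
      rw [← hNP]; exact Subgroup.normalizer_eq_top _
    have hle : Subgroup.normalizer (E : Set G) ≤ E := by
      intro y hy
      obtain ⟨i, j, rfl⟩ := hN y (htop ▸ Subgroup.mem_top y)
      have hiu : u ^ i ∈ Subgroup.normalizer (E : Set G) := by
        have h := (Subgroup.normalizer (E : Set G)).mul_mem hy
          (Subgroup.le_normalizer (E.inv_mem (E.pow_mem g.2 j)))
        rwa [mul_inv_cancel_right] at h
      have hc : (u ^ i * g₀ * (u ^ i)⁻¹) * g₀⁻¹ ∈ (P : Subgroup G) ⊓ E := by
        refine ⟨?_, E.mul_mem ((Subgroup.mem_normalizer_iff.mp hiu g₀).mp g.2) (E.inv_mem g.2)⟩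
        rw [show u ^ i * g₀ * (u ^ i)⁻¹ * g₀⁻¹ = u ^ i * (g₀ * (u ^ i)⁻¹ * g₀⁻¹) by group]
        have hui : u ^ i ∈ (P : Subgroup G) := hPt ▸ Subgroup.npow_mem_zpowers u i
        exact mul_mem hui (hn.conj_mem _ (inv_mem hui) g₀)
      rw [hPE', Subgroup.mem_bot, mul_inv_eq_one, mul_inv_eq_iff_eq_mul] at hc
      rcases Nat.eq_zero_or_pos (i % p) with h0 | h0
      · rw [pow_eq_pow_mod i hup, h0, pow_zero, one_mul]
        exact E.pow_mem g.2 j
      exfalso
      have hmem : u ∈ Subgroup.zpowers (u ^ i) := by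
        have hcop : p.Coprime i := (hpp.coprime_iff_not_dvd).mpr fun h => by
          rw [Nat.mod_eq_zero_of_dvd h] at h0; omega
        obtain ⟨b, hb⟩ := Nat.exists_mul_mod_eq_one_of_coprime hcop.symm hpp.one_lt
        refine ⟨(b : ℤ), ?_⟩
        show (u ^ i) ^ (b : ℤ) = u
        rw [zpow_natCast, ← pow_mul, pow_eq_pow_mod _ hup]
        first | rw [hb, pow_one] | rw [hb.2, pow_one]
      have hgc : g₀ ∈ Subgroup.centralizer ({u} : Set G) := by
        rw [Subgroup.mem_centralizer_singleton_iff]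
        obtain ⟨b, hb⟩ := hmem
        have hcm : Commute g₀ (u ^ i) := hc.symm
        have hb' : (u ^ i) ^ b = u := hb
        rw [← hb']
        exact (hcm.zpow_right b).eq
      have h3 : g₀ ∈ (P : Subgroup G) ⊓ E := ⟨by rw [hPt, ← hC]; exact hgc, g.2⟩
      rw [hPE', Subgroup.mem_bot] at h3
      rw [h3, orderOf_one] at hg₀
      omega
    have h := Subgroup.card_le_of_le hle
    rw [hNE] at h
    omega
  -- normal subgroups contain the derived group, which is not trivial
  haveI hprim : MulAction.IsPreprimitive G α :=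
    MulAction.IsPreprimitive.of_prime_card (hα ▸ hpp)
  have hbig : ∀ K : Subgroup G, K.Normal → K ≠ ⊥ → K ⊔ E = ⊤ := by
    intro K hK hK1
    have hfp : MulAction.fixedPoints K α ≠ Set.univ := by
      intro h
      apply hK1
      rw [Subgroup.eq_bot_iff_forall]
      intro k hk
      refine FaithfulSMul.eq_of_smul_eq_smul (α := α) fun x => ?_
      rw [one_smul]
      exact (h ▸ Set.mem_univ x : x ∈ MulAction.fixedPoints K α) ⟨k, hk⟩
    haveI := MulAction.IsQuasiPreprimitive.isPretransitive_of_normal (G := G) hfp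
    have hpK : p ∣ Nat.card K := by
      rw [← hα, ← MulAction.index_stabilizer_of_transitive K a₀]
      exact Subgroup.index_dvd_card _
    obtain ⟨k, hk⟩ := exists_prime_orderOf_dvd_card' (G := K) p hpK
    have hPK : (P : Subgroup G) ≤ K := by
      let Q' : Sylow p G := Sylow.ofCard (Subgroup.zpowers (k : G)) (by
        rw [Nat.card_zpowers, Subgroup.orderOf_coe, hk]
        exact hPcard.symm.trans P.card_eq_multiplicity)
      obtain ⟨s, hs⟩ := MulAction.exists_smul_eq G Q' P
      rw [← hs, Sylow.smul_def, Sylow.pointwise_smul_def, Subgroup.pointwise_smul_def]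
      rintro _ ⟨y, hy, rfl⟩
      exact hK.conj_mem _ ((Subgroup.zpowers_le.mpr k.2) hy) s
    have hfr := Sylow.normalizer_sup_eq_top' (p := p) (N := K) P hPK
    refine top_le_iff.mp (hfr.symm.le.trans (sup_le ?_ le_sup_left))
    exact hPE.symm.le.trans (sup_le (hPK.trans le_sup_left) le_sup_right)
  have hD1 : commutator G ≠ ⊥ := by
    intro h
    refine hPnn ⟨fun x hx y => ?_⟩
    have h1 : y * x * y⁻¹ * x⁻¹ ∈ commutator G :=
      Subgroup.commutator_mem_commutator (Subgroup.mem_top y) (Subgroup.mem_top x)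
    rw [h, Subgroup.mem_bot, mul_inv_eq_one] at h1
    rwa [h1]
  have hDE : commutator G ⊔ E = ⊤ := hbig _ inferInstance hD1
  -- the value of the character on the complement
  have hfpf : ∀ j : ℕ, ¬ e ∣ j → ∀ i : ℕ, IsConj (g₀ ^ j) (u ^ i * g₀ ^ j) := by
    intro j hj i
    obtain ⟨m, hm⟩ : ∃ m, g₀ ^ j * u = u ^ m * g₀ ^ j := ⟨_, hmlt _ (hEN (E.pow_mem g.2 j))⟩
    have hm1 : (1 : ZMod p) - m ≠ 0 := by
      intro h
      have h1 : ((1 : ℕ) : ZMod p) = m := by rw [Nat.cast_one]; exact sub_eq_zero.mp h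
      rw [ZMod.natCast_eq_natCast_iff, ← hu, ← pow_eq_pow_iff_modEq, pow_one] at h1
      rw [← h1] at hm
      have h3 : g₀ ^ j ∈ (P : Subgroup G) ⊓ E :=
        ⟨by rw [hPt, ← hC]; exact Subgroup.mem_centralizer_singleton_iff.mpr hm, E.pow_mem g.2 j⟩
      rw [hPE', Subgroup.mem_bot, ← orderOf_dvd_iff_pow_eq_one, hg₀] at h3
      exact hj h3
    set z : ℕ := ((i : ZMod p) / ((1 : ZMod p) - m)).val
    refine isConj_iff.mpr ⟨u ^ z, ?_⟩
    have hmz : ∀ z : ℕ, g₀ ^ j * u ^ z = u ^ (m * z) * g₀ ^ j := fun z => by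
      induction z with
      | zero => simp
      | succ z ih => rw [pow_succ, ← mul_assoc, ih, mul_assoc, hm, ← mul_assoc, ← pow_add, mul_add,
          mul_one]
    rw [mul_inv_eq_iff_eq_mul, mul_assoc, hmz, ← mul_assoc, ← pow_add]
    congr 1
    rw [pow_eq_pow_iff_modEq, hu, ← ZMod.natCast_eq_natCast_iff]
    push_cast
    have hz : (z : ZMod p) * ((1 : ZMod p) - m) = i := by
      rw [ZMod.natCast_zmod_val, div_mul_cancel₀ _ hm1]
    linear_combination hz
  obtain ⟨μ, hμ, hθg⟩ := exists_value hup hg₀e hconj hfpf ρ (by rw [hρ, hθ1]) fun i hi => by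
    rw [hρ]
    refine hθu _ ?_
    rw [orderOf_pow' u (fun h => hi (by rw [h]; exact dvd_zero p)), hu,
      Nat.Coprime.gcd_eq_one ((hpp.coprime_iff_not_dvd).mpr hi), Nat.div_one]
  rw [hρ] at hθg
  have hμ0 : μ ≠ 0 := fun h => by simp [h, zero_pow (by omega : e ≠ 0)] at hμ
  have he1' : ¬ e ∣ 1 := fun h => by have := Nat.dvd_one.mp h; omega
  have hθreal : ∀ g : G, conj ((θ : G → ℂ) g) = (θ : G → ℂ) g := fun g => by
    have h := heq_θ ⟨_, Chars.isIrrCharacter_star θ.2⟩ (by
      show conj ((θ : G → ℂ) 1) = p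
      rw [hθ1, Complex.conj_natCast])
    exact congrFun (congrArg Subtype.val h) g
  have hμreal : conj μ = μ := by
    have h' := hθreal g₀
    have hg := hθg 1 he1'
    rw [pow_one, pow_one] at hg
    rw [← hg]
    exact h'
  -- perfect, hence simple
  have hperf : commutator G = ⊤ := by
    by_contra hne
    haveI : Nontrivial (Abelianization G) := QuotientGroup.nontrivial_iff.mpr hne
    obtain ⟨q, hq⟩ := exists_ne (1 : Abelianization G)
    obtain ⟨φ, hφ⟩ := CommGroup.exists_apply_ne_one_of_hasEnoughRootsOfUnity (Abelianization G) ℂ hq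
    let ν : G →* ℂˣ := φ.comp Abelianization.of
    have h := heq_θ ⟨_, Chars.isIrrCharacter_hom_mul ν θ.2⟩ (by
      show (ν 1 : ℂ) * (θ : G → ℂ) 1 = p
      rw [map_one, Units.val_one, one_mul, hθ1])
    have h' := congrFun (congrArg Subtype.val h) g₀
    have hg := hθg 1 he1'
    rw [pow_one, pow_one] at hg
    have hν : ν g₀ = 1 := by
      refine Units.ext (mul_right_cancel₀ hμ0 ?_)
      rw [Units.val_one, one_mul, ← hg]
      exact h'
    refine hφ ?_
    obtain ⟨x, rfl⟩ := QuotientGroup.mk_surjective q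
    show ν x = 1
    have hker : (⊤ : Subgroup G) ≤ ν.ker := hDE ▸ sup_le (Abelianization.commutator_subset_ker ν)
      (hEz ▸ Subgroup.zpowers_le.mpr hν)
    exact hker (Subgroup.mem_top x)
  haveI : Nontrivial G := Finite.one_lt_card_iff_nontrivial.mp
    (lt_of_lt_of_le hpp.one_lt (Nat.le_of_dvd Nat.card_pos hdiv))
  have hsimple : IsSimpleGroup G := ⟨fun K hK => by
    by_cases h : K = ⊥
    · exact Or.inl h
    refine Or.inr (top_le_iff.mp (hperf ▸ ?_))
    have hsurj : Function.Surjective ((QuotientGroup.mk' K).comp E.subtype) := by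
      intro q
      obtain ⟨x, rfl⟩ := QuotientGroup.mk_surjective q
      have hx : x ∈ (↑(K ⊔ E) : Set G) := by rw [hbig K hK h]; exact Subgroup.mem_top x
      rw [Subgroup.normal_mul] at hx
      obtain ⟨a, ha, b, hb, rfl⟩ := hx
      refine ⟨⟨b, hb⟩, QuotientGroup.eq.mpr ?_⟩
      show b⁻¹ * (a * b) ∈ K
      rw [← mul_assoc]
      simpa using hK.conj_mem a ha b⁻¹
    rw [_root_.commutator_def, Subgroup.commutator_le]
    intro a _ b _
    rw [← QuotientGroup.eq_one_iff, ← QuotientGroup.mk'_apply, map_commutatorElement,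
      commutatorElement_eq_one_iff_mul_comm]
    obtain ⟨a', ha'⟩ := hsurj (QuotientGroup.mk' K a)
    obtain ⟨b', hb'⟩ := hsurj (QuotientGroup.mk' K b)
    letI : CommGroup E := IsCyclic.commGroup
    rw [← ha', ← hb', ← map_mul, ← map_mul, mul_comm]⟩
  have hnc : ∃ a b : G, a * b ≠ b * a := by
    by_contra! h
    refine hD1 ?_
    rw [eq_bot_iff, _root_.commutator_def, Subgroup.commutator_le]
    intro a _ b _
    rw [Subgroup.mem_bot, commutatorElement_eq_one_iff_mul_comm]
    exact h a b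
  -- the complement is not the whole multiplicative group
  have hep : e ≠ p - 1 := by
    intro hee
    haveI : DecidableEq α := Classical.decEq α
    let sgn : G →* ℤˣ := Equiv.Perm.sign.comp (MulAction.toPermHom G α)
    have hsg : sgn g₀ = 1 := (Abelianization.commutator_subset_ker sgn) (hperf ▸ Subgroup.mem_top g₀)
    set σ : Equiv.Perm α := MulAction.toPermHom G α g₀
    set c : ZMod p := crd (g₀ • crd.symm 0)
    have haffj : ∀ (j : ℕ) (x : α), crd (g₀ ^ j • x) =
        (∑ l ∈ range j, (r : ZMod p) ^ l) * c + (r : ZMod p) ^ j * crd x := by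
      intro j x
      induction j with
      | zero => simp
      | succ j ih =>
        rw [pow_succ', mul_smul, haff g₀ r hconj, ih, geom_sum_succ]
        ring
    have hr0 : (r : ZMod p) ≠ 0 := by
      intro h0
      rw [ZMod.natCast_eq_zero_iff] at h0
      obtain ⟨q, rfl⟩ := h0
      rw [pow_mul, hup, one_pow, one_mul, mul_eq_left] at hconj
      rw [hconj, orderOf_one] at hu
      exact hpp.ne_one hu.symm
    have hrprim : ∀ j, 0 < j → j < e → (r : ZMod p) ^ j ≠ 1 := by
      intro j hj0 hje hj1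
      have hiter : ∀ i : ℕ, g₀ * u ^ i = u ^ (r * i) * g₀ := fun i => by
        induction i with
        | zero => simp
        | succ i ih => rw [pow_succ, ← mul_assoc, ih, mul_assoc, hconj, ← mul_assoc, ← pow_add,
            mul_add, mul_one]
      have hpowj : ∀ j : ℕ, g₀ ^ j * u = u ^ (r ^ j) * g₀ ^ j := fun j => by
        induction j with
        | zero => simp
        | succ j ih =>
          rw [pow_succ' g₀, mul_assoc, ih, ← mul_assoc, hiter, pow_succ' r, mul_assoc]
      have h1 : u ^ (r ^ j) = u ^ 1 := by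
        rw [pow_eq_pow_iff_modEq, hu, ← ZMod.natCast_eq_natCast_iff]
        push_cast
        exact hj1
      have h2 := hpowj j
      rw [h1, pow_one] at h2
      have h3 : g₀ ^ j ∈ (P : Subgroup G) ⊓ E :=
        ⟨by rw [hPt, ← hC]; exact Subgroup.mem_centralizer_singleton_iff.mpr h2, E.pow_mem g.2 j⟩
      rw [hPE', Subgroup.mem_bot, ← orderOf_dvd_iff_pow_eq_one, hg₀] at h3
      have := Nat.le_of_dvd hj0 h3
      omega
    have hr1 : (r : ZMod p) - 1 ≠ 0 := by
      have := hrprim 1 one_pos (by omega)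
      rw [pow_one] at this
      exact sub_ne_zero.mpr this
    set x₀ : α := crd.symm (-c / ((r : ZMod p) - 1))
    have hj' : ∀ (j : ℕ) (x : α), crd (g₀ ^ j • x) - crd x₀ = (r : ZMod p) ^ j * (crd x - crd x₀) := by
      intro j x
      have hg : (∑ l ∈ range j, (r : ZMod p) ^ l) * ((r : ZMod p) - 1) = (r : ZMod p) ^ j - 1 :=
        geom_sum_mul _ j
      rw [haffj, show crd x₀ = -c / ((r : ZMod p) - 1) from crd.apply_symm_apply _]
      field_simp
      linear_combination c * hg
    have hσ : ∀ x, σ x = g₀ • x := fun x => rfl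
    have hfix : ∀ x, σ x = x ↔ x = x₀ := by
      intro x
      have h := hj' 1 x
      rw [pow_one, pow_one] at h
      rw [hσ]
      refine ⟨fun hx => crd.injective ?_, fun hx => crd.injective ?_⟩
      · rw [hx] at h
        have h' : ((r : ZMod p) - 1) * (crd x - crd x₀) = 0 := by linear_combination -h
        exact sub_eq_zero.mp ((mul_eq_zero.mp h').resolve_left hr1)
      · rw [hx, sub_self, mul_zero, ← hx, sub_eq_zero] at h
        exact h
    have hsupp : σ.support = univ.erase x₀ := by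
      ext x
      rw [Equiv.Perm.mem_support, Ne, hfix x, mem_erase]
      simp
    have hcyc : σ.IsCycle := by
      obtain ⟨x₁, hx₁⟩ : ∃ x, x ≠ x₀ := by
        refine Fintype.exists_ne_of_one_lt_card ?_ x₀
        rw [← Nat.card_eq_fintype_card, hα]; exact hpp.one_lt
      refine ⟨x₁, fun h => hx₁ ((hfix x₁).mp h), fun y hy => ?_⟩
      have hy' : crd y - crd x₀ ≠ 0 :=
        sub_ne_zero.mpr (crd.injective.ne fun h => hy ((hfix y).mpr h))
      have hx' : crd x₁ - crd x₀ ≠ 0 := sub_ne_zero.mpr (crd.injective.ne hx₁)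
      have hprim : IsPrimitiveRoot (r : ZMod p) (p - 1) := by
        refine (IsPrimitiveRoot.iff (by have := hpp.two_le; omega)).mpr ⟨?_, fun l hl hl' =>
          hrprim l hl (hee ▸ hl')⟩
        exact ZMod.pow_card_sub_one_eq_one hr0
      haveI : NeZero (p - 1) := ⟨by have := hpp.two_le; omega⟩
      obtain ⟨l, -, hl⟩ := hprim.eq_pow_of_pow_eq_one
        (ξ := (crd y - crd x₀) / (crd x₁ - crd x₀))
        (ZMod.pow_card_sub_one_eq_one (div_ne_zero hy' hx'))
      refine ⟨(l : ℤ), ?_⟩
      rw [zpow_natCast, ← map_pow]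
      refine crd.injective ?_
      show crd (g₀ ^ l • x₁) = crd y
      have h := hj' l x₁
      rw [hl, div_mul_cancel₀ _ hx'] at h
      exact sub_left_inj.mp h
    have hsign := hcyc.sign
    rw [hsupp, card_erase_of_mem (mem_univ _), card_univ, ← Nat.card_eq_fintype_card, hα] at hsign
    have heven : Even (p - 1) := by
      rcases hpp.eq_two_or_odd' with h | h
      · omega
      · obtain ⟨q, rfl⟩ := h
        exact ⟨q, by omega⟩
    rw [heven.neg_one_pow] at hsign
    have : sgn g₀ = -1 := hsign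
    rw [hsg] at this
    exact absurd this (by decide)
  exact ⟨{
    u := u, g₀ := g₀, e := e, r := r, θ := θ, μ := μ, hu := hu, hsq := hsq, hg₀ := hg₀, he := he
    he2 := he2, hep := hep, hconj := hconj, hC := hC
    hg₀N := hNP ▸ hEN g.2
    hN := hN
    hTI := fun s x hx hx1 hsx => by
      by_contra hs
      have h := hTI s⁻¹ (fun h => hs (by rw [hEz] at h; simpa using inv_mem h))
      have : x ∈ E ⊓ E.map (MulAut.conj s⁻¹).toMonoidHom :=
        ⟨hEz ▸ hx, ⟨s * x * s⁻¹, hEz ▸ hsx, by simp [mul_assoc]⟩⟩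
      rw [h, Subgroup.mem_bot] at this
      exact hx1 this
    hNE := by rw [← hEz]; exact hNE
    hsimple := hsimple, hnc := hnc, hθ1 := hθ1, hθu := hθu, hμ := hμ, hμreal := hμreal, hθreal := hθreal
    hθg := hθg }⟩

namespace Setting

variable (S : Setting G p)

omit [Finite G] hp in
theorem one_lt_e : 1 < S.e := S.he2

/-- The local data. -/
noncomputable def loc : Loc G p where
  u := S.u
  g₀ := S.g₀
  e := S.e
  r := S.r
  N := Subgroup.normalizer (Subgroup.zpowers S.u : Set G)
  hu := S.hu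
  he := S.he
  hg₀ := orderOf_dvd_iff_pow_eq_one.mp (dvd_of_eq S.hg₀)
  hconj := S.hconj
  huN := Subgroup.le_normalizer (Subgroup.mem_zpowers _)
  hg₀N := S.hg₀N
  hN := S.hN
  hnorm := fun y hy => by
    have h := (Subgroup.mem_normalizer_iff.mp ((Subgroup.normalizer _).inv_mem S.hg₀N) y).mp hy
    simpa using h
  hfree := fun g hg y hy hgy => by
    by_contra hy1
    refine hg ?_
    obtain ⟨i, j, hij⟩ := S.hN _ hgy
    have hyp : y ^ p = 1 := by
      obtain ⟨a, rfl⟩ := hy
      show (S.u ^ a) ^ p = 1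
      rw [← zpow_natCast, ← zpow_mul, mul_comm, zpow_mul, zpow_natCast,
        orderOf_dvd_iff_pow_eq_one.mp (dvd_of_eq S.hu), one_zpow]
    -- elements of order `p` of the normaliser lie in `P`
    have hmem : g⁻¹ * y * g ∈ Subgroup.zpowers S.u := by
      set N := Subgroup.normalizer (Subgroup.zpowers S.u : Set G)
      set K := (Subgroup.zpowers S.u).subgroupOf N
      haveI : K.Normal := Subgroup.normal_in_normalizer
      let w : N := ⟨g⁻¹ * y * g, hgy⟩
      have hw : w ^ p = 1 := Subtype.ext (by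
        show (g⁻¹ * y * g) ^ p = 1
        have := conj_pow (a := g⁻¹) (b := y) (i := p)
        rw [inv_inv] at this
        rw [this, hyp, mul_one, inv_mul_cancel])
      have hu' : (QuotientGroup.mk (⟨S.u, Subgroup.le_normalizer (Subgroup.mem_zpowers _)⟩ : N) :
          N ⧸ K) = 1 :=
        (QuotientGroup.eq_one_iff _).mpr (Subgroup.mem_subgroupOf.mpr (Subgroup.mem_zpowers _))
      have hq : (QuotientGroup.mk w : N ⧸ K) = (QuotientGroup.mk (⟨S.g₀, S.hg₀N⟩ : N) : N ⧸ K) ^ j := by
        have : w = (⟨S.u, Subgroup.le_normalizer (Subgroup.mem_zpowers _)⟩ : N) ^ i *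
            (⟨S.g₀, S.hg₀N⟩ : N) ^ j := Subtype.ext (by simpa [w] using hij)
        rw [this, QuotientGroup.mk_mul, QuotientGroup.mk_pow, QuotientGroup.mk_pow, hu', one_pow,
          one_mul]
      have hqp : (QuotientGroup.mk w : N ⧸ K) ^ p = 1 := by
        rw [← QuotientGroup.mk_pow, hw]; rfl
      have hqe : (QuotientGroup.mk w : N ⧸ K) ^ S.e = 1 := by
        rw [hq, ← pow_mul, mul_comm, pow_mul, ← QuotientGroup.mk_pow]
        have : (⟨S.g₀, S.hg₀N⟩ : N) ^ S.e = 1 :=
          Subtype.ext (orderOf_dvd_iff_pow_eq_one.mp (dvd_of_eq S.hg₀))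
        rw [this, QuotientGroup.mk_one, one_pow]
      have hcop : Nat.Coprime p S.e := hp.out.coprime_iff_not_dvd.mpr fun h => by
        have h1 := Nat.le_of_dvd (by have := hp.out.two_le; omega) (h.trans S.he)
        have := hp.out.two_le
        omega
      have h1 : (QuotientGroup.mk w : N ⧸ K) = 1 := by
        rw [← pow_one (QuotientGroup.mk w : N ⧸ K), ← hcop.gcd_eq_one]
        exact pow_gcd_eq_one.mpr ⟨hqp, hqe⟩
      exact Subgroup.mem_subgroupOf.mp ((QuotientGroup.eq_one_iff _).mp h1)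
    have hgen : Subgroup.zpowers (g⁻¹ * y * g) = Subgroup.zpowers S.u := by
      refine Subgroup.eq_of_le_of_card_ge (Subgroup.zpowers_le.mpr hmem) ?_
      rw [Nat.card_zpowers, Nat.card_zpowers, S.hu,
        orderOf_eq_prime (p := p) (x := g⁻¹ * y * g) ?_ ?_]
      · have := conj_pow (a := g⁻¹) (b := y) (i := p)
        rw [inv_inv] at this
        rw [this, hyp, mul_one, inv_mul_cancel]
      · intro h
        exact hy1 (by simpa [mul_assoc, inv_mul_eq_one] using h)
    have hyu : Subgroup.zpowers y = Subgroup.zpowers S.u := by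
      refine Subgroup.eq_of_le_of_card_ge (Subgroup.zpowers_le.mpr hy) ?_
      rw [Nat.card_zpowers, Nat.card_zpowers, S.hu, orderOf_eq_prime (p := p) hyp hy1]
    have hmap : (Subgroup.zpowers S.u).map (MulAut.conj g⁻¹).toMonoidHom = Subgroup.zpowers S.u := by
      conv_lhs => rw [← hyu]
      rw [MonoidHom.map_zpowers]
      show Subgroup.zpowers (g⁻¹ * y * g⁻¹⁻¹) = _
      rw [inv_inv, hgen]
    refine inv_mem_iff.mp (Subgroup.mem_normalizer_iff.mpr fun z => ?_)
    conv_rhs => rw [← hmap]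
    exact ⟨fun hz => ⟨z, hz, rfl⟩, fun ⟨z', hz', hzz⟩ => by
      have : z' = z := (MulAut.conj g⁻¹).injective hzz
      rwa [← this]⟩
  hgen := fun K hK hu => by
    haveI := S.hsimple
    rcases hK.eq_bot_or_eq_top with h | h
    · rw [h, Subgroup.mem_bot] at hu
      have := S.hu
      rw [hu, orderOf_one] at this
      exact absurd this.symm hp.out.ne_one
    · exact h

end Setting

end Cfsg.Agent.Lib.UniqueDegP
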