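import Mathlib
import Cfsg.Agent.Lib.UniqueDegP.Basic
import Cfsg.Agent.Lib.UniqueDegP.Realise
import Cfsg.Agent.Lib.Chars.Induced
import Cfsg.Agent.Lib.DefectOne.Sylow
import Cfsg.Agent.Lib.DefectOne.Structure
import Cfsg.Agent.Lib.DefectOne.Principal

/-!
# The complement of odd order: a character of degree at most `e`

The characters `1` and `ψ` of degree `p + 1` cover every twist of the complement, so every other
character has non-positive total on the nontrivial `p`-elements; the exceptional characters then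
have degree at most `e`.
-/

set_option autoImplicit false

namespace Cfsg.Agent.Lib.UniqueDegP

open Cfsg Cfsg.Agent.Lib Finset
open scoped ComplexConjugate

universe u

variable {G : Type u} [Group G] [Finite G] {p : ℕ} [hp : Fact p.Prime]

namespace Setting

variable (S : Setting G p)

omit [Finite G] hp in
theorem pow_e : S.g₀ ^ S.e = 1 := orderOf_dvd_iff_pow_eq_one.mp (dvd_of_eq S.hg₀)

omit [Finite G] hp in
theorem pow_p : S.u ^ p = 1 := orderOf_dvd_iff_pow_eq_one.mp (dvd_of_eq S.hu)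

omit [Finite G] hp in
theorem g₀_pow_eq_one_iff (i : ℕ) : S.g₀ ^ i = 1 ↔ S.e ∣ i := by
  rw [← orderOf_dvd_iff_pow_eq_one, S.hg₀]

omit [Finite G] hp in
theorem conj_pow_pow (l m : ℕ) : S.g₀ ^ l * S.u ^ m = S.u ^ (S.r ^ l * m) * S.g₀ ^ l := by
  induction l generalizing m with
  | zero => simp
  | succ l ih =>
    have h1 : ∀ m, S.g₀ * S.u ^ m = S.u ^ (S.r * m) * S.g₀ := fun m => by
      induction m with
      | zero => simp
      | succ m ih' =>
        rw [pow_succ, ← mul_assoc, ih', mul_assoc, S.hconj, ← mul_assoc, ← pow_add, mul_add, mul_one]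
    rw [pow_succ, mul_assoc, h1, ← mul_assoc, ih, mul_assoc, ← mul_assoc (S.r ^ l), pow_succ]

/-- An involution inverting the complement. -/
theorem exists_inverting (hodd : Odd S.e) :
    ∃ w : G, w ∈ Subgroup.normalizer (Subgroup.zpowers S.g₀ : Set G) ∧
      w ∉ Subgroup.zpowers S.g₀ ∧ w * S.g₀ * w⁻¹ = S.g₀⁻¹ := by
  classical
  set E := Subgroup.zpowers S.g₀
  set H := Subgroup.normalizer (E : Set G) with hH
  have hEc : Nat.card E = S.e := by rw [Nat.card_zpowers, S.hg₀]
  obtain ⟨w₀, hw₀⟩ := exists_prime_orderOf_dvd_card' (G := H) 2 (S.hNE ▸ dvd_mul_right 2 S.e)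
  set w : G := (w₀ : G)
  have hw : orderOf w = 2 := by rw [← hw₀]; exact Subgroup.orderOf_coe w₀
  have hww : w * w = 1 := by rw [← pow_two, ← hw, pow_orderOf_eq_one]
  have hwE : w ∉ E := by
    intro h
    have h2 := Subgroup.orderOf_dvd_natCard E h
    rw [hw, hEc] at h2
    exact (Nat.not_even_iff_odd.mpr hodd) (even_iff_two_dvd.mpr h2)
  have hwn : ∀ x ∈ E, w * x * w⁻¹ ∈ E := fun x hx =>
    (Subgroup.mem_normalizer_iff.mp w₀.2 x).mp hx
  have hEcomm : ∀ x ∈ E, ∀ y ∈ E, x * y = y * x := fun x hx y hy => by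
    obtain ⟨a, rfl⟩ := Subgroup.mem_zpowers_iff.mp hx
    obtain ⟨b, rfl⟩ := Subgroup.mem_zpowers_iff.mp hy
    rw [← zpow_add, add_comm, zpow_add]
  have hsplit : ∀ h ∈ H, h ∈ E ∨ w * h ∈ E := by
    intro h hh
    by_cases hhE : h ∈ E
    · exact Or.inl hhE
    refine Or.inr ?_
    have hi : (E.subgroupOf H).index = 2 := by
      have h1 := (E.subgroupOf H).card_mul_index
      rw [Nat.card_congr (Subgroup.subgroupOfEquivOfLe Subgroup.le_normalizer).toEquiv, hEc,
        S.hNE] at h1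
      have he0 : 0 < S.e := by have := S.he2; omega
      nlinarith
    have h2 := Subgroup.mul_mem_iff_of_index_two hi (a := w₀) (b := (⟨h, hh⟩ : H))
    simp only [Subgroup.mem_subgroupOf, Subgroup.coe_mul] at h2
    exact h2.mpr ⟨fun h => absurd h hwE, fun h => absurd h hhE⟩
  -- `w` fixes no element of the complement
  have hfix : ∀ x ∈ E, w * x * w⁻¹ = x → x = 1 := by
    intro x hx hwx
    by_contra hx1
    obtain ⟨q, hq, hqd⟩ := Nat.exists_prime_and_dvd (orderOf_eq_one_iff.not.mpr hx1)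
    haveI := Fact.mk hq
    set a := S.e.factorization q
    have hqe : q ∣ S.e := by
      rw [← hEc]; exact hqd.trans (Subgroup.orderOf_dvd_natCard E hx)
    set x' := x ^ (orderOf x / q)
    have hx' : orderOf x' = q := orderOf_pow_orderOf_div (orderOf_pos x).ne' hqd
    have hx'E : x' ∈ E := E.pow_mem hx _
    have hwx' : w * x' * w⁻¹ = x' := by rw [← conj_pow, hwx]
    set m := S.e / q ^ a
    have hm : q ^ a * m = S.e := Nat.ordProj_mul_ordCompl_eq_self _ _
    have hmq : ¬ q ∣ m := Nat.not_dvd_ordCompl hq (by have := S.he2; omega)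
    set c := S.g₀ ^ m
    have hc : orderOf c = q ^ a := by
      rw [orderOf_pow_of_dvd ?_ (by rw [S.hg₀]; exact ⟨q ^ a, by rw [mul_comm, hm]⟩), S.hg₀,
        ← hm, Nat.mul_div_cancel _ (Nat.pos_of_ne_zero fun h => hmq (by rw [h]; exact dvd_zero q))]
      exact fun h => hmq (by rw [h]; exact dvd_zero q)
    set Q := Subgroup.zpowers c
    have hQE : Q ≤ E := Subgroup.zpowers_le.mpr (E.pow_mem (Subgroup.mem_zpowers _) _)
    have hQc : Nat.card Q = q ^ a := by rw [Nat.card_zpowers, hc]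
    have hQmem : ∀ y ∈ E, y ^ (q ^ a) = 1 → y ∈ Q := by
      intro y hy hyq
      obtain ⟨i, rfl⟩ := (Submonoid.mem_powers_iff _ _).mp (mem_powers_iff_mem_zpowers.mpr hy)
      rw [← pow_mul, ← orderOf_dvd_iff_pow_eq_one, S.hg₀, ← hm, mul_comm i,
        Nat.mul_dvd_mul_iff_left (pow_pos hq.pos a)] at hyq
      obtain ⟨l, rfl⟩ := hyq
      rw [pow_mul]
      exact Subgroup.npow_mem_zpowers c l
    have hx'Q : x' ∈ Q := hQmem _ hx'E (by
      have ha : 1 ≤ a := hq.factorization_pos_of_dvd (by have := S.he2; omega) hqe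
      rw [← orderOf_dvd_iff_pow_eq_one, hx']
      exact dvd_pow_self q (by omega))
    -- `w` centralises the whole of `Q`
    have hcQ : ∀ y ∈ Q, w * y * w⁻¹ = y := by
      intro y hy
      set d := w * y * w⁻¹ * y⁻¹ with hd
      have hdQ : d ∈ Q := hQmem _ (E.mul_mem (hwn y (hQE hy)) (E.inv_mem (hQE hy))) (by
        have hy' : y ^ (q ^ a) = 1 := by
          rw [← orderOf_dvd_iff_pow_eq_one, ← hQc]; exact Subgroup.orderOf_dvd_natCard Q hy
        have hcomm : Commute (w * y * w⁻¹) y⁻¹ :=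
          hEcomm _ (hwn y (hQE hy)) _ (E.inv_mem (hQE hy))
        rw [hd, hcomm.mul_pow, conj_pow, inv_pow, hy', mul_one, mul_inv_cancel, inv_one, one_mul])
      have hdinv : w * d * w⁻¹ = d⁻¹ := by
        have hwi : w⁻¹ = w := inv_eq_of_mul_eq_one_right hww
        simp only [hd, mul_inv_rev, inv_inv, hwi]
        calc w * (w * y * w * y⁻¹) * w = (w * w) * y * w * y⁻¹ * w := by group
          _ = y * (w * y⁻¹ * w) := by rw [hww]; group
          _ = _ := by simp only [mul_assoc]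
      by_contra hne
      have hd1 : d ≠ 1 := fun h => hne (mul_inv_eq_one.mp h)
      have hdord : orderOf d ∣ q ^ a := hQc ▸ Subgroup.orderOf_dvd_natCard Q hdQ
      obtain ⟨b, -, hb⟩ := (Nat.dvd_prime_pow hq).mp hdord
      have hb1 : 1 ≤ b := by
        by_contra! h0
        have : b = 0 := by omega
        exact hd1 (orderOf_eq_one_iff.mp (by rw [hb, this, pow_zero]))
      set d' := d ^ (q ^ (b - 1))
      have hd' : orderOf d' = q := by
        rw [orderOf_pow_of_dvd (pow_pos hq.pos _).ne' (by rw [hb]; exact pow_dvd_pow q (by omega)),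
          hb, Nat.pow_div (by omega) hq.pos, show b - (b - 1) = 1 by omega, pow_one]
      have hmem : d' ∈ Subgroup.zpowers x' := by
        have hsub : ∀ t ∈ E, t ^ q = 1 → t ∈ Subgroup.zpowers (S.g₀ ^ (S.e / q)) := by
          intro t ht htq
          obtain ⟨i, rfl⟩ := (Submonoid.mem_powers_iff _ _).mp (mem_powers_iff_mem_zpowers.mpr ht)
          rw [← pow_mul, S.g₀_pow_eq_one_iff] at htq
          obtain ⟨l, hl⟩ := Nat.div_dvd_iff_dvd_mul hqe hq.pos |>.mpr (by rwa [mul_comm] at htq)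
          rw [hl, pow_mul]
          exact Subgroup.npow_mem_zpowers _ l
        have hcard : Nat.card (Subgroup.zpowers (S.g₀ ^ (S.e / q))) ≤ q := by
          rw [Nat.card_zpowers]
          refine Nat.le_of_dvd hq.pos (orderOf_dvd_iff_pow_eq_one.mpr ?_)
          rw [← pow_mul, Nat.div_mul_cancel hqe, S.pow_e]
        have h1 : Subgroup.zpowers x' = Subgroup.zpowers (S.g₀ ^ (S.e / q)) :=
          Subgroup.eq_of_le_of_card_ge
            (Subgroup.zpowers_le.mpr (hsub x' hx'E (hx' ▸ pow_orderOf_eq_one x')))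
            (by rw [Nat.card_zpowers x', hx']; exact hcard)
        rw [h1]
        exact hsub d' (hQE (Q.pow_mem hdQ _)) (hd' ▸ pow_orderOf_eq_one d')
      obtain ⟨i, hi⟩ := Subgroup.mem_zpowers_iff.mp hmem
      have h1 : w * d' * w⁻¹ = d' := by rw [← hi, ← conj_zpow, hwx']
      have h2 : w * d' * w⁻¹ = d'⁻¹ := by
        show w * d ^ (q ^ (b - 1)) * w⁻¹ = _
        rw [← conj_pow, hdinv, inv_pow]
      have h3 : d' ^ 2 = 1 := by
        rw [pow_two]
        nth_rewrite 2 [show d' = d'⁻¹ from h1.symm.trans h2]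
        exact mul_inv_cancel _
      have h4 : q ∣ 2 := hd' ▸ orderOf_dvd_iff_pow_eq_one.mpr h3
      have hq2 : q = 2 := (Nat.prime_dvd_prime_iff_eq hq Nat.prime_two).mp h4
      exact (Nat.not_even_iff_odd.mpr hodd) (even_iff_two_dvd.mpr (hq2 ▸ hqe))
    -- Burnside's transfer
    have hNQ : Subgroup.normalizer (Q : Set G) ≤ H := fun y hy => S.hTI y x' hx'E
      (fun h => by rw [h, orderOf_one] at hx'; exact hq.ne_one hx'.symm)
      (hQE ((Subgroup.mem_normalizer_iff.mp hy x').mp hx'Q))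
    have hsyl : Nat.card Q = q ^ (Nat.card G).factorization q := by
      have h1 := Sylow.card_normalizer_modEq_card (p := q) hQc
      have hnd : ¬ q ^ (a + 1) ∣ Nat.card (Subgroup.normalizer (Q : Set G)) := by
        intro h
        have h2 := h.trans (Subgroup.card_dvd_of_le hNQ)
        rw [S.hNE] at h2
        have hq2 : q.Coprime 2 := (Nat.coprime_primes hq Nat.prime_two).mpr fun h =>
          (Nat.not_even_iff_odd.mpr hodd) (even_iff_two_dvd.mpr (h ▸ hqe))
        have h3 := (Nat.Coprime.pow_left (a + 1) hq2).dvd_of_dvd_mul_left h2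
        exact Nat.pow_succ_factorization_not_dvd (by have := S.he2; omega) hq h3
      have hnd' : ¬ q ^ (a + 1) ∣ Nat.card G := fun h => hnd (Nat.modEq_zero_iff_dvd.mp
        (h1.trans (Nat.modEq_zero_iff_dvd.mpr h)))
      rw [hQc]
      congr 1
      refine le_antisymm ?_ ?_
      · exact (hq.pow_dvd_iff_le_factorization Nat.card_pos.ne').mp
          (hQc ▸ Subgroup.card_subgroup_dvd_card Q)
      · by_contra! hlt
        exact hnd' ((hq.pow_dvd_iff_le_factorization Nat.card_pos.ne').mpr hlt)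
    let QS : Sylow q G := Sylow.ofCard Q hsyl
    have hcent : Subgroup.normalizer ((QS : Subgroup G) : Set G) ≤
        Subgroup.centralizer ((QS : Subgroup G) : Set G) := by
      intro y hy
      rw [Subgroup.mem_centralizer_iff]
      intro z hz
      have hzQ : z ∈ Q := hz
      rcases hsplit y (hNQ hy) with h | h
      · exact hEcomm z (hQE hzQ) y h
      · have h1 : z * w = w * z := (mul_inv_eq_iff_eq_mul.mp (hcQ z hzQ)).symm
        have h2 : z * (w * y) = (w * y) * z := hEcomm z (hQE hzQ) _ h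
        rw [← mul_assoc, h1, mul_assoc, mul_assoc] at h2
        exact mul_left_cancel h2
    have hcompl := MonoidHom.ker_transferSylow_isComplement' QS hcent
    haveI := S.hsimple
    rcases (MonoidHom.normal_ker (MonoidHom.transferSylow QS hcent)).eq_bot_or_eq_top with h | h
    · rw [h] at hcompl
      have htop : (QS : Subgroup G) = ⊤ := Subgroup.isComplement'_bot_left.mp hcompl
      obtain ⟨g, g', hgg⟩ := S.hnc
      have hg : g ∈ (QS : Subgroup G) := htop ▸ Subgroup.mem_top g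
      have hg' : g' ∈ (QS : Subgroup G) := htop ▸ Subgroup.mem_top g'
      exact hgg (hEcomm g (hQE hg) g' (hQE hg'))
    · rw [h] at hcompl
      have hbot : (QS : Subgroup G) = ⊥ := Subgroup.isComplement'_top_left.mp hcompl
      have : x' ∈ (QS : Subgroup G) := hx'Q
      rw [hbot, Subgroup.mem_bot] at this
      rw [this, orderOf_one] at hx'
      exact hq.ne_one hx'.symm
  refine ⟨w, w₀.2, hwE, ?_⟩
  have hg : S.g₀ ∈ E := Subgroup.mem_zpowers _
  have h1 := hfix _ (E.mul_mem hg (hwn _ hg)) (by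
    have hwi : w⁻¹ = w := inv_eq_of_mul_eq_one_right hww
    rw [hwi]
    calc w * (S.g₀ * (w * S.g₀ * w)) * w = (w * S.g₀ * w) * (S.g₀ * (w * w)) := by group
      _ = (w * S.g₀ * w) * S.g₀ := by rw [hww, mul_one]
      _ = S.g₀ * (w * S.g₀ * w) := (hEcomm _ hg _ (by simpa [hwi] using hwn _ hg)).symm)
  exact (eq_inv_of_mul_eq_one_left (by
    rw [hEcomm _ (hwn _ hg) _ hg]; exact h1))

variable [Fintype G]

omit [Finite G] hp in
theorem sum_zpowers_g₀ [Fintype (Subgroup.zpowers S.g₀)] (F : G → ℂ) :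
    ∑ y : Subgroup.zpowers S.g₀, F y = ∑ i ∈ range S.e, F (S.g₀ ^ i) := by
  rw [← Fin.sum_univ_eq_sum_range (fun i => F (S.g₀ ^ i))]
  refine (Fintype.sum_equiv ((finCongr S.hg₀.symm).trans (finEquivZPowers
    (isOfFinOrder_of_finite S.g₀))) _ _ fun i => ?_).symm
  simp [finEquivZPowers_apply]

theorem sum_root_pow {e : ℕ} {z : ℂ} (hz : IsPrimitiveRoot z e) (j : ℕ) :
    ∑ i ∈ range e, (z ^ j) ^ i = if e ∣ j then (e : ℂ) else 0 := by
  split_ifs with h
  · obtain ⟨q, rfl⟩ := h
    simp [pow_mul, hz.pow_eq_one]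
  · have h1 : z ^ j ≠ 1 := fun h' => h (hz.dvd_of_pow_eq_one j h')
    rw [geom_sum_eq h1, ← pow_mul, mul_comm, pow_mul, hz.pow_eq_one, one_pow, sub_self, zero_div]

omit hp in
theorem mem_powers_g₀ {y : G} (hy : y ∈ Subgroup.zpowers S.g₀) : ∃ i : ℕ, S.g₀ ^ i = y :=
  (Submonoid.mem_powers_iff _ _).mp (mem_powers_iff_mem_zpowers.mpr hy)

set_option maxHeartbeats 1600000 in
/-- The characters of degree `p + 1`. -/
theorem exists_psi (hodd : Odd S.e) {z : ℂ} (hz : IsPrimitiveRoot z S.e) (j : ℕ)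
    (hj : ¬ S.e ∣ j) :
    ∃ ψ : IrrCharacter G, (ψ : G → ℂ) 1 = (p : ℂ) + 1 ∧
      (∀ i : ℕ, ¬ S.e ∣ i → (ψ : G → ℂ) (S.g₀ ^ i) = z ^ (i * j) + (z ^ (i * j))⁻¹) ∧
      (∀ i : ℕ, ¬ p ∣ i → (ψ : G → ℂ) (S.u ^ i) = 1) ∧
      ∀ g, conj ((ψ : G → ℂ) g) = (ψ : G → ℂ) g := by
  classical
  obtain ⟨w, hwH, hwE, hw⟩ := S.exists_inverting hodd
  set E := Subgroup.zpowers S.g₀ with hE
  haveI : Fintype E := Fintype.ofFinite _
  have he0 : S.e ≠ 0 := by have := S.he2; omega
  have hEc : Nat.card E = S.e := by rw [Nat.card_zpowers, S.hg₀]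
  have hroot : (z ^ j) ^ S.e = 1 := by
    rw [← pow_mul, mul_comm, pow_mul, hz.pow_eq_one, one_pow]
  have hwf : ∀ i : ℕ, w * S.g₀ ^ i * w⁻¹ = (S.g₀ ^ i)⁻¹ := fun i => by
    rw [← conj_pow, hw, inv_pow]
  -- the linear character
  obtain ⟨lam, hlam⟩ : ∃ lam : E →* ℂˣ, ∀ i : ℕ, ∀ h : S.g₀ ^ i ∈ E,
      (lam ⟨S.g₀ ^ i, h⟩ : ℂ) = (z ^ j) ^ i := by
    haveI : IsCyclic E := Subgroup.isCyclic_zpowers _
    have hgen : ∀ x : E, x ∈ Subgroup.zpowers (⟨S.g₀, Subgroup.mem_zpowers _⟩ : E) := fun x => by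
      obtain ⟨a, ha⟩ := Subgroup.mem_zpowers_iff.mp x.2
      exact ⟨a, Subtype.ext (by simpa using ha)⟩
    let zu : ℂˣ := Units.ofPowEqOne _ _ hroot he0
    refine ⟨monoidHomOfForallMemZpowers hgen (g' := zu) (by
      rw [Subgroup.orderOf_mk, S.hg₀, orderOf_dvd_iff_pow_eq_one]
      exact Units.pow_ofPowEqOne hroot he0), fun i h => ?_⟩
    have : (⟨S.g₀ ^ i, h⟩ : E) = (⟨S.g₀, Subgroup.mem_zpowers _⟩ : E) ^ i := Subtype.ext (by simp)
    rw [this, map_pow, monoidHomOfForallMemZpowers_apply_gen, Units.val_pow_eq_pow_val]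
    rfl
  let f₁ : E → ℂ := fun _ => 1
  let fl : E → ℂ := fun x => (lam x : ℂ)
  have hf₁ : IsCharacter E f₁ := by
    have := Chars.isCharacter_hom (1 : E →* ℂˣ)
    simpa [f₁] using this
  have hfl : IsCharacter E fl := Chars.isCharacter_hom lam
  set φ : G → ℂ := indFun E (f₁ - fl) with hφdef
  have hφsub : φ = indFun E f₁ - indFun E fl := Chars.indFun_sub E f₁ fl
  -- values
  have hval : ∀ i : ℕ, φ (S.g₀ ^ i) = 2 - (z ^ j) ^ i - ((z ^ j) ^ i)⁻¹ := by
    intro i
    by_cases hi : S.e ∣ i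
    · obtain ⟨q, rfl⟩ := hi
      rw [pow_mul, S.pow_e, one_pow, hφdef, Chars.indFun_one_eq, pow_mul (z ^ j), hroot, one_pow,
        inv_one]
      have : (lam 1 : ℂ) = 1 := by rw [map_one, Units.val_one]
      simp [f₁, fl, this]
      norm_num
    · have hne : S.g₀ ^ i ≠ 1 := fun h => hi ((S.g₀_pow_eq_one_iff i).mp h)
      have key : ∀ x : G, extendByZero E (f₁ - fl) (x⁻¹ * S.g₀ ^ i * x) =
          (if x ∈ E then 1 - (z ^ j) ^ i else 0) +
          (if w * x ∈ E then 1 - ((z ^ j) ^ i)⁻¹ else 0) := by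
        intro x
        by_cases hm : x⁻¹ * S.g₀ ^ i * x ∈ E
        · have hxH : x ∈ Subgroup.normalizer (E : Set G) := by
            have := S.hTI x⁻¹ (S.g₀ ^ i) (Subgroup.npow_mem_zpowers _ _) hne (by rwa [inv_inv])
            simpa using inv_mem this
          by_cases hxE : x ∈ E
          · obtain ⟨l, rfl⟩ := S.mem_powers_g₀ hxE
            have hwx : w * S.g₀ ^ l ∉ E := fun h => hwE (by
              simpa using E.mul_mem h (E.inv_mem hxE))
            have hsimp : (S.g₀ ^ l)⁻¹ * S.g₀ ^ i * S.g₀ ^ l = S.g₀ ^ i := by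
              rw [mul_assoc, ← pow_add, add_comm, pow_add, inv_mul_cancel_left]
            rw [if_pos hxE, if_neg hwx, add_zero, Chars.extendByZero_of_mem _ hm]
            have : (⟨_, hm⟩ : E) = ⟨S.g₀ ^ i, Subgroup.npow_mem_zpowers _ _⟩ := Subtype.ext hsimp
            rw [this, Pi.sub_apply]
            show 1 - (lam _ : ℂ) = _
            rw [hlam]
          · have hi2 : (E.subgroupOf (Subgroup.normalizer (E : Set G))).index = 2 := by
              have h1 := (E.subgroupOf (Subgroup.normalizer (E : Set G))).card_mul_index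
              rw [Nat.card_congr (Subgroup.subgroupOfEquivOfLe Subgroup.le_normalizer).toEquiv,
                hEc, S.hNE] at h1
              have : 0 < S.e := Nat.pos_of_ne_zero he0
              nlinarith
            have h2 := Subgroup.mul_mem_iff_of_index_two hi2 (a := ⟨w, hwH⟩) (b := ⟨x, hxH⟩)
            simp only [Subgroup.mem_subgroupOf, Subgroup.coe_mul] at h2
            have hwx : w * x ∈ E := h2.mpr ⟨fun h => absurd h hwE, fun h => absurd h hxE⟩
            obtain ⟨l, hl⟩ := S.mem_powers_g₀ hwx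
            have hx : x = w⁻¹ * S.g₀ ^ l := by rw [hl, inv_mul_cancel_left]
            have hsimp : x⁻¹ * S.g₀ ^ i * x = (S.g₀ ^ i)⁻¹ := by
              rw [hx, mul_inv_rev, inv_inv,
                show (S.g₀ ^ l)⁻¹ * w * S.g₀ ^ i * (w⁻¹ * S.g₀ ^ l) =
                  (S.g₀ ^ l)⁻¹ * (w * S.g₀ ^ i * w⁻¹) * S.g₀ ^ l by group, hwf, mul_assoc]
              rw [((Commute.refl S.g₀).pow_pow i l).inv_left.eq, inv_mul_cancel_left]
            rw [if_neg hxE, if_pos hwx, zero_add, Chars.extendByZero_of_mem _ hm]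
            have : (⟨_, hm⟩ : E) = (⟨S.g₀ ^ i, Subgroup.npow_mem_zpowers _ _⟩ : E)⁻¹ :=
              Subtype.ext hsimp
            rw [this, Pi.sub_apply]
            show 1 - (lam _ : ℂ) = _
            rw [map_inv, Units.val_inv_eq_inv_val, hlam]
        · have hxE : x ∉ E := fun h => hm (E.mul_mem (E.mul_mem (E.inv_mem h)
            (Subgroup.npow_mem_zpowers _ _)) h)
          have hwx : w * x ∉ E := by
            intro h
            obtain ⟨l, hl⟩ := S.mem_powers_g₀ h
            have hx : x = w⁻¹ * S.g₀ ^ l := by rw [hl, inv_mul_cancel_left]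
            refine hm ?_
            rw [hx, mul_inv_rev, inv_inv,
              show (S.g₀ ^ l)⁻¹ * w * S.g₀ ^ i * (w⁻¹ * S.g₀ ^ l) =
                (S.g₀ ^ l)⁻¹ * (w * S.g₀ ^ i * w⁻¹) * S.g₀ ^ l by group, hwf]
            exact E.mul_mem (E.mul_mem (E.inv_mem (Subgroup.npow_mem_zpowers _ _))
              (E.inv_mem (Subgroup.npow_mem_zpowers _ _))) (Subgroup.npow_mem_zpowers _ _)
          rw [if_neg hxE, if_neg hwx, add_zero, Chars.extendByZero_of_not_mem _ hm]
      have hcount : ∀ c : ℂ, ∑ x : G, (if w * x ∈ E then c else 0) = (Nat.card E : ℂ) * c := by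
        intro c
        rw [Fintype.sum_equiv (Equiv.mulLeft w) (fun x => if w * x ∈ E then c else 0)
          (fun x => if x ∈ E then c else 0) fun x => rfl, ← Finset.sum_filter, sum_const,
          nsmul_eq_mul, ← Fintype.card_subtype, Fintype.card_eq_nat_card]
      show (Nat.card E : ℂ)⁻¹ * _ = _
      rw [sum_congr rfl fun x _ => key x, sum_add_distrib, hcount, ← Finset.sum_filter, sum_const,
        nsmul_eq_mul, ← Fintype.card_subtype, Fintype.card_eq_nat_card, ← mul_add,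
        inv_mul_cancel_left₀ (Nat.cast_ne_zero.mpr Nat.card_pos.ne')]
      ring
  have hzero : ∀ g : G, (∀ x : G, x⁻¹ * g * x ∉ E) → φ g = 0 := fun g hg => by
    show (Nat.card E : ℂ)⁻¹ * _ = 0
    rw [sum_eq_zero fun x _ => Chars.extendByZero_of_not_mem _ (hg x), mul_zero]
  have hclass : IsClassFunction G φ := Chars.isClassFunction_indFun _ _
  -- inner products
  have hinner : ∀ χ : G → ℂ, IsClassFunction G χ → classInner φ χ =
      (S.e : ℂ)⁻¹ * ∑ i ∈ range S.e, (1 - (z ^ j) ^ i) * conj (χ (S.g₀ ^ i)) := by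
    intro χ hχ
    rw [hφdef, Chars.classInner_indFun_left _ _ _ hχ]
    show (Nat.card E : ℂ)⁻¹ * _ = _
    rw [hEc]
    congr 1
    let F : G → ℂ := fun y => if hy : y ∈ E then (1 - (lam ⟨y, hy⟩ : ℂ)) * conj (χ y) else 0
    have h1 : ∑ x : E, (f₁ - fl) x * conj (χ x) = ∑ x : E, F x := sum_congr rfl fun x _ => by
      simp only [F, dif_pos x.2, Subtype.coe_eta]
      rfl
    rw [h1, S.sum_zpowers_g₀ F]
    refine sum_congr rfl fun i _ => ?_
    simp only [F, hlam, dite_eq_ite]
    exact if_pos (Subgroup.npow_mem_zpowers S.g₀ i)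
  have hsj := sum_root_pow hz j
  rw [if_neg hj] at hsj
  have heC : (S.e : ℂ) ≠ 0 := Nat.cast_ne_zero.mpr he0
  have hμ1 : S.μ = 1 := by
    obtain ⟨r, hr⟩ := Complex.conj_eq_iff_real.mp S.hμreal
    have h1 := S.hμ
    rw [hr] at h1 ⊢
    have h2 : r ^ S.e = 1 := by exact_mod_cast h1
    have h3 : r = 1 := by
      exact (Odd.strictMono_pow (R := ℝ) hodd).injective (show r ^ S.e = (1 : ℝ) ^ S.e by rw [h2, one_pow])
    rw [h3]; simp
  have hone : classInner φ (Chars.trivialIrr G : G → ℂ) = 1 := by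
    rw [hinner _ (Chars.irr_isClassFunction _)]
    simp [Chars.trivialIrr, Chars.linIrr, sum_sub_distrib, hsj, inv_mul_cancel₀ heC]
  have hθ : classInner φ (S.θ : G → ℂ) = 1 := by
    rw [hinner _ (Chars.irr_isClassFunction _)]
    have : ∀ i ∈ range S.e, (1 - (z ^ j) ^ i) * conj ((S.θ : G → ℂ) (S.g₀ ^ i)) =
        1 - (z ^ j) ^ i := by
      intro i hi
      by_cases h0 : S.e ∣ i
      · have : i = 0 := Nat.eq_zero_of_dvd_of_lt h0 (mem_range.mp hi)
        simp [this]
      · rw [S.hθg i h0, hμ1, one_pow, map_one, mul_one]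
    rw [sum_congr rfl this, sum_sub_distrib, hsj]
    simp [inv_mul_cancel₀ heC]
  have hconjz : ∀ i : ℕ, conj ((z ^ j) ^ i) = ((z ^ j) ^ i)⁻¹ := fun i => by
    refine (Complex.inv_eq_conj ?_).symm
    exact Complex.norm_eq_one_of_pow_eq_one
      (by rw [← pow_mul, ← pow_mul, show j * (i * S.e) = S.e * (j * i) by ring, pow_mul,
        hz.pow_eq_one, one_pow]) he0
  have hnorm : classInner φ φ = 3 := by
    rw [hinner _ hclass]
    have hzne : ∀ i : ℕ, (z ^ j) ^ i ≠ 0 := fun i =>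
      pow_ne_zero _ (pow_ne_zero _ (hz.ne_zero he0))
    have hinv : ∀ i : ℕ, ((z ^ j) ^ i)⁻¹ = (z ^ (j * (S.e - 1))) ^ i := fun i => by
      refine (eq_inv_of_mul_eq_one_left ?_).symm
      rw [← mul_pow, ← pow_add, show j * (S.e - 1) + j = S.e * j by
        obtain ⟨q, hq⟩ : ∃ q, S.e = q + 1 := ⟨S.e - 1, by omega⟩
        rw [hq, Nat.add_sub_cancel]; ring, pow_mul, hz.pow_eq_one, one_pow, one_pow]
    have : ∀ i ∈ range S.e, (1 - (z ^ j) ^ i) * conj (φ (S.g₀ ^ i)) =
        3 - 3 * (z ^ j) ^ i - (z ^ (j * (S.e - 1))) ^ i + (z ^ (2 * j)) ^ i := by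
      intro i _
      rw [hval, map_sub, map_sub, map_inv₀, hconjz, inv_inv, map_ofNat, ← hinv i,
        show (z ^ (2 * j)) ^ i = (z ^ j) ^ i * (z ^ j) ^ i by rw [two_mul, pow_add, mul_pow]]
      field_simp [hzne i]
      ring
    rw [sum_congr rfl this]
    simp only [sum_add_distrib, sum_sub_distrib, ← Finset.mul_sum, sum_const, card_range,
      nsmul_eq_mul]
    rw [hsj, sum_root_pow hz, sum_root_pow hz, if_neg, if_neg]
    · field_simp
      ring
    · intro h
      exact hj ((Nat.Coprime.dvd_of_dvd_mul_left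
        (Nat.coprime_two_right.mpr hodd) h))
    · intro h
      exact hj (Nat.Coprime.dvd_of_dvd_mul_right
        ((Nat.coprime_self_sub_right (show 1 ≤ S.e by omega)).mpr (Nat.coprime_one_right _)) h)
  -- decomposition
  have hm : ∀ χ : IrrCharacter G, ∃ m : ℤ, classInner φ (χ : G → ℂ) = m := fun χ => by
    obtain ⟨a, ha⟩ := Chars.isCharacter_classInner_nat (Chars.isCharacter_indFun _ hf₁)
      (Chars.irr_isCharacter χ)
    obtain ⟨b, hb⟩ := Chars.isCharacter_classInner_nat (Chars.isCharacter_indFun _ hfl)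
      (Chars.irr_isCharacter χ)
    refine ⟨(a : ℤ) - b, ?_⟩
    rw [hφsub, Chars.classInner_sub_left, ha, hb]
    push_cast
    rfl
  choose m hm using hm
  have hdec : φ = ∑ χ : IrrCharacter G, (m χ : ℂ) • (χ : G → ℂ) := by
    conv_lhs => rw [hφsub, Chars.isCharacter_eq_sum_classInner (Chars.isCharacter_indFun _ hf₁),
      Chars.isCharacter_eq_sum_classInner (Chars.isCharacter_indFun _ hfl)]
    rw [← sum_sub_distrib]
    refine sum_congr rfl fun χ _ => ?_
    rw [← sub_smul, ← hm χ, hφsub, Chars.classInner_sub_left]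
  have hsq : ∑ χ : IrrCharacter G, m χ * m χ = 3 := by
    have h := hnorm
    rw [hdec, Chars.classInner_sum_smul_sum_smul] at h
    simp only [map_intCast] at h
    exact_mod_cast h
  have hne : Chars.trivialIrr G ≠ S.θ := fun h => by
    have h1 : ((Chars.trivialIrr G : IrrCharacter G) : G → ℂ) 1 = 1 := by
      simp [Chars.trivialIrr, Chars.linIrr]
    rw [h, S.hθ1] at h1
    exact hp.out.ne_one (by exact_mod_cast h1)
  have hm1 : m (Chars.trivialIrr G) = 1 := by
    have h := (hm (Chars.trivialIrr G)).symm.trans hone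
    exact_mod_cast h
  have hmθ : m S.θ = 1 := by
    have h := (hm S.θ).symm.trans hθ
    exact_mod_cast h
  set T := (univ.erase (Chars.trivialIrr G)).erase S.θ with hT
  have hθmem : S.θ ∈ univ.erase (Chars.trivialIrr G) := mem_erase.mpr ⟨hne.symm, mem_univ _⟩
  have hrest : ∑ χ ∈ T, m χ * m χ = 1 := by
    rw [← add_sum_erase _ _ (mem_univ (Chars.trivialIrr G)), ← add_sum_erase _ _ hθmem, hm1, hmθ]
      at hsq
    linarith
  obtain ⟨ψ, hψT, hψ0⟩ := exists_ne_zero_of_sum_ne_zero (hrest ▸ one_ne_zero)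
  have hψsq : m ψ * m ψ = 1 ∧ ∀ χ ∈ T, χ ≠ ψ → m χ = 0 := by
    rw [← add_sum_erase _ _ hψT] at hrest
    have hnn : 0 ≤ ∑ χ ∈ T.erase ψ, m χ * m χ := sum_nonneg fun χ _ => mul_self_nonneg _
    have h1 : 1 ≤ m ψ * m ψ := by
      have := mul_self_nonneg (m ψ)
      omega
    refine ⟨by omega, fun χ hχ hne' => ?_⟩
    have h0 : ∑ χ ∈ T.erase ψ, m χ * m χ = 0 := by omega
    exact mul_self_eq_zero.mp ((sum_eq_zero_iff_of_nonneg fun χ _ => mul_self_nonneg _).mp h0 χ
      (mem_erase.mpr ⟨hne', hχ⟩))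
  have hform : ∀ g, φ g = 1 + (S.θ : G → ℂ) g + (m ψ : ℂ) * (ψ : G → ℂ) g := by
    intro g
    rw [hdec, Finset.sum_apply, ← add_sum_erase _ _ (mem_univ (Chars.trivialIrr G)),
      ← add_sum_erase _ _ hθmem, ← hT, ← add_sum_erase _ _ hψT,
      sum_eq_zero (s := T.erase ψ) fun χ hχ => by
        rw [hψsq.2 χ (mem_of_mem_erase hχ) (mem_erase.mp hχ).1]; simp]
    simp only [Pi.smul_apply, smul_eq_mul, hm1, hmθ]
    simp [Chars.trivialIrr]
    ring
  obtain ⟨d, hd0, hd⟩ := Chars.isIrrCharacter_exists_degree_pos ψ.2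
  have hψm : m ψ = -1 := by
    rcases mul_self_eq_one_iff.mp hψsq.1 with h | h
    · exfalso
      have h1 := hform 1
      rw [hφdef, Chars.indFun_one_eq, S.hθ1, hd, h] at h1
      have h0 : (f₁ - fl) (1 : E) = 0 := by simp [f₁, fl]
      rw [h0, mul_zero] at h1
      have h2 : ((1 + p + d : ℕ) : ℂ) = 0 := by push_cast; linear_combination -h1
      have := Nat.cast_eq_zero.mp h2
      omega
    · exact h
  have hψ : ∀ g, (ψ : G → ℂ) g = 1 + (S.θ : G → ℂ) g - φ g := fun g => by
    rw [hform g, hψm]; push_cast; ring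
  refine ⟨ψ, ?_, fun i hi => ?_, fun i hi => ?_, fun g => ?_⟩
  · have h0 : (f₁ - fl) (1 : E) = 0 := by simp [f₁, fl]
    rw [hψ, hφdef, Chars.indFun_one_eq, h0, S.hθ1]
    ring
  · rw [hψ, hval, S.hθg i hi, hμ1, one_pow, ← pow_mul, mul_comm j i]
    ring
  · have hord : p ∣ orderOf (S.u ^ i) := by
      rw [orderOf_pow' S.u (fun h => hi (by rw [h]; exact dvd_zero p)), S.hu,
        Nat.Coprime.gcd_eq_one ((hp.out.coprime_iff_not_dvd).mpr hi), Nat.div_one]
    rw [hψ, S.hθu _ hord, hzero]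
    · ring
    · intro x hx
      have h1 := Subgroup.orderOf_dvd_natCard E hx
      rw [hEc, show x⁻¹ * S.u ^ i * x = (MulAut.conj x⁻¹).toMonoidHom (S.u ^ i) by simp,
        orderOf_injective _ (MulAut.conj x⁻¹).injective] at h1
      have h2 := Nat.le_of_dvd (by have := hp.out.two_le; omega) ((hord.trans h1).trans S.he)
      have := hp.out.two_le
      omega
  · have hφreal : conj (φ g) = φ g := by
      by_cases hg : ∀ x : G, x⁻¹ * g * x ∉ E
      · rw [hzero g hg, map_zero]
      · push Not at hg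
        obtain ⟨x, hx⟩ := hg
        obtain ⟨i, hi⟩ := S.mem_powers_g₀ hx
        rw [← hclass g x⁻¹, inv_inv, ← hi, hval, map_sub, map_sub, map_inv₀, hconjz, inv_inv,
          map_ofNat]
        ring
    rw [hψ, map_sub, map_add, map_one, hφreal, S.hθreal]

end Setting

end Cfsg.Agent.Lib.UniqueDegP
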