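import Mathlib
import Cfsg.Agent.Lib.UniqueDegP.Odd
import Cfsg.Agent.Lib.DefectOne.LocalExists

/-!
# A character of degree at most `e` when the complement has odd order
-/

set_option autoImplicit false

namespace Cfsg.Agent.Lib.UniqueDegP

open Cfsg Cfsg.Agent.Lib Finset Matrix
open scoped ComplexConjugate
open Cfsg.Agent.Lib.SmallGroups.PrimeChar (xp fusion mem_fusion xp_one xp_injective ne_zero_of_mem_fusion)

universe u

variable {G : Type u} [Group G] [Finite G] {p : ℕ} [hp : Fact p.Prime]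

namespace Setting

variable (S : Setting G p)

omit [Finite G] in
theorem e_lt : S.e < p := by
  have h := Nat.le_of_dvd (by have := hp.out.two_le; omega) S.he
  have := hp.out.two_le
  omega

omit [Finite G] in
theorem r_pow_cast_ne_zero (l : ℕ) : ((S.r ^ l : ℕ) : ZMod p) ≠ 0 := by
  intro h
  rw [ZMod.natCast_eq_zero_iff] at h
  obtain ⟨q, hq⟩ := h
  have h1 := S.conj_pow_pow l 1
  rw [mul_one, hq, pow_mul, S.pow_p, one_pow, one_mul, pow_one, mul_eq_left] at h1
  have := S.hu
  rw [h1, orderOf_one] at this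
  exact hp.out.ne_one this.symm

omit [Finite G] in
theorem r_pow_ne_one {l : ℕ} (hl : ¬ S.e ∣ l) : ((S.r ^ l : ℕ) : ZMod p) ≠ 1 := by
  intro h
  have h0 : S.u ^ (S.r ^ l) = S.u ^ 1 := by
    rw [pow_eq_pow_iff_modEq, S.hu, ← ZMod.natCast_eq_natCast_iff, Nat.cast_one]
    exact h
  have h1 := S.conj_pow_pow l 1
  rw [mul_one, h0, pow_one] at h1
  have h2 : S.g₀ ^ l ∈ Subgroup.zpowers S.u := by
    rw [← S.hC, Subgroup.mem_centralizer_singleton_iff]; exact h1
  have h3 : orderOf (S.g₀ ^ l) ∣ p := by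
    have := Subgroup.orderOf_dvd_natCard _ h2
    rwa [Nat.card_zpowers, S.hu] at this
  rcases hp.out.eq_one_or_self_of_dvd _ h3 with h4 | h4
  · exact hl ((S.g₀_pow_eq_one_iff l).mp (orderOf_eq_one_iff.mp h4))
  · have h5 : orderOf (S.g₀ ^ l) ∣ S.e := S.hg₀ ▸ orderOf_pow_dvd l
    rw [h4] at h5
    have := Nat.le_of_dvd (by have := S.he2; omega) h5
    have := S.e_lt
    omega

omit [Finite G] in
theorem isConj_g₀_pow {l : ℕ} (hl : ¬ S.e ∣ l) (i : ℕ) :
    IsConj (S.g₀ ^ l) (S.u ^ i * S.g₀ ^ l) := by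
  have hm : (1 : ZMod p) - ((S.r ^ l : ℕ) : ZMod p) ≠ 0 :=
    sub_ne_zero.mpr (S.r_pow_ne_one hl).symm
  set z : ℕ := ((i : ZMod p) / ((1 : ZMod p) - ((S.r ^ l : ℕ) : ZMod p))).val
  refine isConj_iff.mpr ⟨S.u ^ z, ?_⟩
  rw [mul_inv_eq_iff_eq_mul, mul_assoc, S.conj_pow_pow, ← mul_assoc, ← pow_add]
  congr 1
  rw [pow_eq_pow_iff_modEq, S.hu, ← ZMod.natCast_eq_natCast_iff, Nat.cast_add, Nat.cast_mul]
  have hz : (z : ZMod p) * ((1 : ZMod p) - ((S.r ^ l : ℕ) : ZMod p)) = i := by
    rw [ZMod.natCast_zmod_val, div_mul_cancel₀ _ hm]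
  linear_combination hz

variable [Fintype G] {O : Type} [CommRing O] (ι : O →+* ℂ)

omit [Finite G] in
/-- A fixed eigenvector of a character of degree `p + 1` is twisted by one of its two roots. -/
theorem twist_mem {z : ℂ} (hz : IsPrimitiveRoot z S.e) {ζ : O} (hζ : ι ζ = z) {j c : ℕ}
    (hι : Function.Injective ι) {n : ℕ} (R : G →* Matrix (Fin n) (Fin n) O) {ψ : G → ℂ}
    (hψ : IsClassFunction G ψ) (hR : ∀ g, ι (R g).trace = ψ g) (hψ1 : ψ 1 = (p : ℂ) + 1)
    (hψu : ∀ i : ℕ, ¬ p ∣ i → ψ (S.u ^ i) = 1)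
    (hψg : ∀ i : ℕ, ¬ S.e ∣ i → ψ (S.g₀ ^ i) = z ^ (i * j) + (z ^ (i * j))⁻¹)
    {v : Fin n → O} (hv0 : v ≠ 0) (hvu : R S.u *ᵥ v = v) (hvg : R S.g₀ *ᵥ v = ζ ^ c • v) :
    z ^ c = z ^ j ∨ z ^ c = (z ^ j)⁻¹ := by
  classical
  by_contra! hne
  have he0 : S.e ≠ 0 := by have := S.he2; omega
  have hp0 : (p : ℂ) ≠ 0 := Nat.cast_ne_zero.mpr hp.out.ne_zero
  have heC : (S.e : ℂ) ≠ 0 := Nat.cast_ne_zero.mpr he0
  let ρ : G →* Matrix (Fin n) (Fin n) ℂ := (RingHom.mapMatrix ι).toMonoidHom.comp R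
  have hρ : ∀ g, (ρ g).trace = ψ g := fun g => by
    rw [← hR]; exact (AddMonoidHom.map_trace ι (R g)).symm
  set w : Fin n → ℂ := fun i => ι (v i)
  have hwu : ρ S.u *ᵥ w = w := funext fun i =>
    (RingHom.map_mulVec ι (R S.u) v i).symm.trans (by rw [hvu])
  have hwg : ρ S.g₀ *ᵥ w = z ^ c • w := funext fun i =>
    (RingHom.map_mulVec ι (R S.g₀) v i).symm.trans (by
      rw [hvg, Pi.smul_apply, smul_eq_mul, map_mul, map_pow, hζ]; rfl)
  set y : ℂ := (z ^ c)⁻¹
  have hzc : z ^ c ≠ 0 := pow_ne_zero _ (hz.ne_zero he0)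
  set T : Matrix (Fin n) (Fin n) ℂ := (p : ℂ)⁻¹ • ∑ i ∈ range p, ρ S.u ^ i
  set A : Matrix (Fin n) (Fin n) ℂ :=
    (S.e : ℂ)⁻¹ • ∑ l ∈ range S.e, (y • ρ S.g₀) ^ l with hA
  have hUS : ρ S.u * (∑ i ∈ range p, ρ S.u ^ i) = ∑ i ∈ range p, ρ S.u ^ i := by
    simp only [Finset.mul_sum, ← pow_succ']
    refine add_right_cancel (b := ρ S.u ^ 0) ?_
    rw [← sum_range_succ' (fun i => ρ S.u ^ i), sum_range_succ, ← map_pow, S.pow_p, map_one,
      pow_zero]
  have hUiS : ∀ i : ℕ, ρ S.u ^ i * (∑ i ∈ range p, ρ S.u ^ i) = ∑ i ∈ range p, ρ S.u ^ i := fun i => by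
    induction i with
    | zero => rw [pow_zero, one_mul]
    | succ i ih => rw [pow_succ, mul_assoc, hUS, ih]
  have hTT : T * T = T := by
    have hSS : (∑ i ∈ range p, ρ S.u ^ i) * (∑ i ∈ range p, ρ S.u ^ i) =
        (p : ℂ) • ∑ i ∈ range p, ρ S.u ^ i := by
      rw [Finset.sum_mul, sum_congr rfl fun i _ => hUiS i, sum_const, card_range,
        Nat.cast_smul_eq_nsmul]
    simp only [T, smul_mul_smul_comm, hSS, smul_smul]
    congr 1
    field_simp
  have hcomm : Commute (ρ S.g₀) T := by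
    refine Commute.smul_right ?_ _
    have hr := S.r_pow_cast_ne_zero 1
    rw [pow_one] at hr
    let φ : Fin p → Fin p := fun i => ⟨S.r * i % p, Nat.mod_lt _ hp.out.pos⟩
    have hφ : Function.Bijective φ := by
      refine Finite.injective_iff_bijective.mp fun a b hab => Fin.ext ?_
      have h := congrArg (fun x : Fin p => ((x : ℕ) : ZMod p)) hab
      simp only [φ, ZMod.natCast_mod, Nat.cast_mul] at h
      have h' := mul_left_cancel₀ hr h
      rw [ZMod.natCast_eq_natCast_iff'] at h'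
      rwa [Nat.mod_eq_of_lt a.2, Nat.mod_eq_of_lt b.2] at h'
    show ρ S.g₀ * _ = _ * ρ S.g₀
    rw [Finset.mul_sum, Finset.sum_mul,
      ← Fin.sum_univ_eq_sum_range (fun i => ρ S.g₀ * ρ S.u ^ i),
      ← Fin.sum_univ_eq_sum_range (fun i => ρ S.u ^ i * ρ S.g₀)]
    refine Fintype.sum_bijective φ hφ _ _ fun i => ?_
    show ρ S.g₀ * ρ S.u ^ (i : ℕ) = ρ S.u ^ (S.r * (i : ℕ) % p) * ρ S.g₀
    have h := S.conj_pow_pow 1 i
    rw [pow_one, pow_one] at h
    rw [← map_pow, ← map_pow, ← map_mul, ← map_mul, h, ← pow_eq_pow_mod _ S.pow_p]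
  set M : Matrix (Fin n) (Fin n) ℂ := y • ρ S.g₀
  have hMe : M ^ S.e = 1 := by
    rw [smul_pow, ← map_pow, S.pow_e, map_one, inv_pow, ← pow_mul, mul_comm, pow_mul, hz.pow_eq_one,
      one_pow, inv_one, one_smul]
  have hMA : M * ∑ l ∈ range S.e, M ^ l = ∑ l ∈ range S.e, M ^ l := by
    simp only [Finset.mul_sum, ← pow_succ']
    refine add_right_cancel (b := M ^ 0) ?_
    rw [← sum_range_succ' (fun i => M ^ i), sum_range_succ, hMe, pow_zero]
  have hAA : A * A = A := by
    have hMiA : ∀ l : ℕ, M ^ l * ∑ l ∈ range S.e, M ^ l = ∑ l ∈ range S.e, M ^ l := fun l => by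
      induction l with
      | zero => rw [pow_zero, one_mul]
      | succ l ih => rw [pow_succ, mul_assoc, hMA, ih]
    simp only [hA, smul_mul_smul_comm, Finset.sum_mul, hMiA, sum_const, card_range,
      ← Nat.cast_smul_eq_nsmul ℂ, smul_smul]
    congr 1
    field_simp
  have hATc : Commute A T := by
    refine Commute.smul_left (Commute.sum_left _ _ _ fun l _ => ?_) _
    exact ((hcomm.smul_left y).pow_left l)
  have hP : (A * T) * (A * T) = A * T := by
    rw [mul_assoc, ← mul_assoc T, ← hATc.eq, mul_assoc A T, hTT, ← mul_assoc, hAA]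
  have htr : (A * T).trace = 0 := by
    have hterm : ∀ l ∈ range S.e, (∑ i ∈ range p, (M ^ l * ρ S.u ^ i).trace) =
        (p : ℂ) * ((z ^ j * y) ^ l + ((z ^ j)⁻¹ * y) ^ l) := by
      intro l hl
      have hMl : ∀ i : ℕ, (M ^ l * ρ S.u ^ i).trace = y ^ l * ψ (S.u ^ i * S.g₀ ^ l) := fun i => by
        rw [smul_pow, Matrix.smul_mul, Matrix.trace_smul, smul_eq_mul, Matrix.trace_mul_comm,
          ← map_pow, ← map_pow, ← map_mul, hρ]
      simp only [hMl]
      by_cases hl0 : S.e ∣ l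
      · have hl' : l = 0 := Nat.eq_zero_of_dvd_of_lt hl0 (mem_range.mp hl)
        subst hl'
        simp only [pow_zero, one_mul, mul_one]
        rw [← Finset.add_sum_erase _ _ (mem_range.mpr hp.out.pos), pow_zero, hψ1,
          sum_congr rfl fun i hi => hψu i fun h => (mem_erase.mp hi).1
            (Nat.eq_zero_of_dvd_of_lt h (mem_range.mp (mem_erase.mp hi).2)),
          sum_const, card_erase_of_mem (mem_range.mpr hp.out.pos), card_range, nsmul_eq_mul,
          Nat.cast_sub hp.out.one_le]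
        push_cast
        ring
      · have hc : ∀ i : ℕ, ψ (S.u ^ i * S.g₀ ^ l) = z ^ (l * j) + (z ^ (l * j))⁻¹ := fun i => by
          obtain ⟨t, ht⟩ := isConj_iff.mp (S.isConj_g₀_pow hl0 i)
          rw [← ht, hψ, hψg l hl0]
        simp only [hc, sum_const, card_range, nsmul_eq_mul]
        rw [mul_pow, mul_pow, inv_pow, ← pow_mul z j l, mul_comm j l]
        ring
    have hgeo : ∀ x : ℂ, x ^ S.e = 1 → x ≠ 1 → ∑ l ∈ range S.e, x ^ l = 0 := fun x hx hx1 => by
      rw [geom_sum_eq hx1, hx, sub_self, zero_div]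
    have hye : y ^ S.e = 1 := by
      rw [inv_pow, ← pow_mul, mul_comm, pow_mul, hz.pow_eq_one, one_pow, inv_one]
    have hje : (z ^ j) ^ S.e = 1 := by rw [← pow_mul, mul_comm, pow_mul, hz.pow_eq_one, one_pow]
    calc (A * T).trace
        = (S.e : ℂ)⁻¹ * ((p : ℂ)⁻¹ * ∑ l ∈ range S.e, ∑ i ∈ range p, (M ^ l * ρ S.u ^ i).trace) := by
          simp only [hA, T, smul_mul_smul_comm, Matrix.trace_smul, Finset.sum_mul, Finset.mul_sum,
            Matrix.trace_sum, smul_eq_mul, mul_assoc]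
          exact Finset.sum_comm
      _ = (S.e : ℂ)⁻¹ * ((p : ℂ)⁻¹ * ((p : ℂ) * (∑ l ∈ range S.e, (z ^ j * y) ^ l +
            ∑ l ∈ range S.e, ((z ^ j)⁻¹ * y) ^ l))) := by
          rw [sum_congr rfl hterm, ← Finset.mul_sum, sum_add_distrib]
      _ = 0 := by
          rw [hgeo _ (by rw [mul_pow, hje, hye, one_mul])
              (fun h => hne.1 (mul_inv_eq_one₀ hzc |>.mp h).symm),
            hgeo _ (by rw [mul_pow, inv_pow, hje, hye, inv_one, one_mul])
              (fun h => hne.2 (mul_inv_eq_one₀ hzc |>.mp h).symm)]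
          simp
  -- an idempotent of trace zero is zero
  have hzero : A * T = 0 := by
    set L := Matrix.toLin' (A * T)
    have hL : L * L = L := by
      rw [Module.End.mul_eq_comp, ← Matrix.toLin'_mul, hP]
    have h := LinearMap.IsProj.trace (p := LinearMap.range L) (f := L)
      ⟨fun w => ⟨w, rfl⟩, fun w ⟨x, hx⟩ => by rw [← hx, ← Module.End.mul_apply, hL]⟩
    rw [Matrix.trace_toLin'_eq, htr] at h
    have h' : Module.finrank ℂ (LinearMap.range L) = 0 := by exact_mod_cast h.symm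
    rw [Submodule.finrank_eq_zero, LinearMap.range_eq_bot] at h'
    exact (LinearEquiv.map_eq_zero_iff _).mp h'
  have hTw : T *ᵥ w = w := by
    have hui : ∀ i : ℕ, ρ S.u ^ i *ᵥ w = w := fun i => by
      induction i with
      | zero => rw [pow_zero, Matrix.one_mulVec]
      | succ i ih => rw [pow_succ, ← Matrix.mulVec_mulVec, hwu, ih]
    rw [Matrix.smul_mulVec, Matrix.sum_mulVec, sum_congr rfl fun i _ => hui i, sum_const,
      card_range, ← Nat.cast_smul_eq_nsmul ℂ, smul_smul, inv_mul_cancel₀ hp0, one_smul]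
  have hAw : A *ᵥ w = w := by
    have hMl : ∀ l : ℕ, M ^ l *ᵥ w = w := fun l => by
      induction l with
      | zero => rw [pow_zero, Matrix.one_mulVec]
      | succ l ih =>
        rw [pow_succ, ← Matrix.mulVec_mulVec, Matrix.smul_mulVec, hwg, smul_smul,
          inv_mul_cancel₀ hzc, one_smul, ih]
    rw [hA, Matrix.smul_mulVec, Matrix.sum_mulVec, sum_congr rfl fun l _ => hMl l, sum_const,
      card_range, ← Nat.cast_smul_eq_nsmul ℂ, smul_smul, inv_mul_cancel₀ heC, one_smul]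
  have hw0 : w = 0 := by
    rw [← hAw]
    conv_lhs => rw [← hTw]
    rw [Matrix.mulVec_mulVec, hzero, Matrix.zero_mulVec]
  exact hv0 (funext fun i => hι ((congrFun hw0 i).trans (map_zero ι).symm))

set_option maxHeartbeats 1600000 in
/-- Some nontrivial character has degree at most `e`. -/
theorem exists_small (hodd : Odd S.e) :
    ∃ χ : IrrCharacter G, χ ≠ Chars.trivialIrr G ∧ charDegree (χ : G → ℂ) ≤ S.e := by
  classical
  have hpp := hp.out
  have he0 : S.e ≠ 0 := by have := S.he2; omega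
  obtain ⟨O, _, _, _, ι, hι, hpu, hroots, hreal⟩ := exists_base p G
  set z : ℂ := Complex.exp (2 * Real.pi * Complex.I / S.e)
  have hz : IsPrimitiveRoot z S.e := Complex.isPrimitiveRoot_exp S.e he0
  obtain ⟨ζ, hζz⟩ := hroots z (by
    obtain ⟨q, hq⟩ := (S.hg₀ ▸ Monoid.order_dvd_exponent S.g₀ : S.e ∣ Monoid.exponent G)
    rw [hq, pow_mul, hz.pow_eq_one, one_pow])
  have hζ : IsPrimitiveRoot ζ S.loc.e :=
    IsPrimitiveRoot.of_map_of_injective (hζz ▸ hz : IsPrimitiveRoot (ι ζ) S.e) hι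
  set J := Icc 1 ((S.e - 1) / 2)
  have hJ : ∀ j ∈ J, ¬ S.e ∣ j := fun j hj h => by
    rw [mem_Icc] at hj
    have := Nat.le_of_dvd (by omega) h
    omega
  have hΨ : ∀ j : ℕ, ∃ ψ : IrrCharacter G, j ∈ J → (ψ : G → ℂ) 1 = (p : ℂ) + 1 ∧
      (∀ i : ℕ, ¬ S.e ∣ i → (ψ : G → ℂ) (S.g₀ ^ i) = z ^ (i * j) + (z ^ (i * j))⁻¹) ∧
      (∀ i : ℕ, ¬ p ∣ i → (ψ : G → ℂ) (S.u ^ i) = 1) ∧
      ∀ g, conj ((ψ : G → ℂ) g) = (ψ : G → ℂ) g := by
    intro j
    by_cases hj : j ∈ J
    · obtain ⟨ψ, h⟩ := S.exists_psi hodd hz j (hJ j hj)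
      exact ⟨ψ, fun _ => h⟩
    · exact ⟨Chars.trivialIrr G, fun h => absurd h hj⟩
  choose Ψ hΨ using hΨ
  set Z := insert (Chars.trivialIrr G) (J.image Ψ)
  -- sums over the powers of `u`
  have hnat : ∀ χ : IrrCharacter G, ∃ a : ℕ,
      ∑ i ∈ range p, (χ : G → ℂ) (S.u ^ i) = (p : ℂ) * a := by
    intro χ
    haveI : Fintype (Subgroup.zpowers S.u) := Fintype.ofFinite _
    obtain ⟨a, ha⟩ := Chars.isCharacter_classInner_nat
      (Chars.isCharacter_restrict (Subgroup.zpowers S.u) (Chars.irr_isCharacter χ))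
      (Chars.irr_isCharacter (Chars.trivialIrr (Subgroup.zpowers S.u)))
    refine ⟨a, ?_⟩
    rw [← ha, classInner, Nat.card_zpowers, S.hu,
      mul_inv_cancel_left₀ (Nat.cast_ne_zero.mpr hpp.ne_zero : (p : ℂ) ≠ 0)]
    simp only [Chars.trivialIrr_apply, map_one, mul_one]
    rw [← Fin.sum_univ_eq_sum_range (fun i => (χ : G → ℂ) (S.u ^ i))]
    refine Fintype.sum_equiv ((finCongr S.hu.symm).trans (finEquivZPowers
      (isOfFinOrder_of_finite S.u))) _ _ fun i => ?_
    simp [finEquivZPowers_apply]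
  -- the other characters have few fixed points on `P`
  have hother : ∀ (χ : IrrCharacter G), χ ∉ Z → ∀ d a : ℕ, (χ : G → ℂ) 1 = d →
      ∑ i ∈ range p, (χ : G → ℂ) (S.u ^ i) = (p : ℂ) * a → p * a ≤ d := by
    intro χ hχ d a hd hsum
    obtain ⟨m, ρ, -, hρ⟩ := χ.2
    obtain ⟨R, hR⟩ := hreal ρ
    have hmd : m = d := by
      have h := congrFun hρ 1
      rw [Representation.char_one, Module.finrank_fin_fun, hd] at h
      exact_mod_cast h
    subst hmd
    have hRχ : ∀ g, ι (R g).trace = (χ : G → ℂ) g := fun g => by rw [hR, hρ]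
    refine sum_le ι hι hpu S.loc hζ R (a := a) ?_ fun k => ?_
    · rw [← hsum, Matrix.trace_sum, map_sum]
      exact sum_congr rfl fun i _ => by rw [← map_pow, hRχ]; rfl
    -- the covering of the twist `k`
    have hred : ∀ k : ℕ, ζ ^ k = ζ ^ (k % S.e) := fun k =>
      pow_eq_pow_mod k (show ζ ^ S.e = 1 from hζ.pow_eq_one)
    rcases Nat.eq_zero_or_pos (k % S.e) with h0 | h0
    · refine ⟨1, 1, 1, 1, ?_, by simp, by simp, by simp, by
        rw [hred, h0]; simp⟩
      intro X hX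
      refine hom_eq_zero ι hι (ψ := Chars.trivialIrr G) (fun h => hχ (by rw [h]; exact mem_insert_self _ _)) 1 R
        (fun g => by simp) hRχ X hX
    · set l := k % S.e
      have hl : l < S.e := Nat.mod_lt _ (Nat.pos_of_ne_zero he0)
      set j := if l ≤ (S.e - 1) / 2 then l else S.e - l
      have hj : j ∈ J := by
        rw [mem_Icc]
        obtain ⟨q, hq⟩ := hodd
        simp only [j]
        split_ifs <;> omega
      obtain ⟨hψ1, hψg, hψu, hψr⟩ := hΨ j hj
      set ψ := Ψ j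
      have hne : χ ≠ ψ := fun h => hχ (mem_insert_of_mem (h ▸ mem_image_of_mem _ hj))
      obtain ⟨n, ρ', -, hρ'⟩ := ψ.2
      obtain ⟨R₀, hR₀⟩ := hreal ρ'
      have hn : n = p + 1 := by
        have h := congrFun hρ' 1
        rw [Representation.char_one, Module.finrank_fin_fun, hψ1] at h
        exact_mod_cast h
      have hsum' : ∑ i ∈ range p, (ψ : G → ℂ) (S.loc.u ^ i) = (p : ℂ) * 2 := by
        show ∑ i ∈ range p, (ψ : G → ℂ) (S.u ^ i) = _
        rw [← Finset.add_sum_erase _ _ (mem_range.mpr hpp.pos), pow_zero, hψ1,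
          sum_congr rfl fun i hi => hψu i fun h => (mem_erase.mp hi).1
            (Nat.eq_zero_of_dvd_of_lt h (mem_range.mp (mem_erase.mp hi).2)),
          sum_const, card_erase_of_mem (mem_range.mpr hpp.pos), card_range, nsmul_eq_mul,
          Nat.cast_sub hpp.one_le]
        push_cast
        ring
      obtain ⟨R', c, f, v, hR', hfv, hvu, hfu, hfg, hvg⟩ :=
        exists_pair ι hι hpu S.loc hζ ψ R₀ hn (fun g => by rw [hR₀, hρ']) hsum'
      have hv0 : v ≠ 0 := fun h => by
        rw [h, dotProduct_zero] at hfv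
        exact zero_ne_one hfv
      have hc := S.twist_mem ι hz hζz hι R' (Chars.irr_isClassFunction ψ) hR' hψ1 hψu hψg hv0 hvu hvg
      have hzl : z ^ j = z ^ l ∨ z ^ j = (z ^ l)⁻¹ := by
        simp only [j]
        split_ifs
        · exact Or.inl rfl
        · exact Or.inr (eq_inv_of_mul_eq_one_left (by
            rw [← pow_add, Nat.sub_add_cancel hl.le, hz.pow_eq_one]))
      have hcl : z ^ c = z ^ l ∨ z ^ c = (z ^ l)⁻¹ := by
        rcases hc with h | h <;> rcases hzl with h' | h'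
        · exact Or.inl (h.trans h')
        · exact Or.inr (h.trans h')
        · exact Or.inr (by rw [h, h'])
        · exact Or.inl (by rw [h, h', inv_inv])
      rcases hcl with h | h
      · refine ⟨n, R', f, v, fun X hX => hom_eq_zero ι hι hne R' R hR' hRχ X hX, hfv, hvu, hfu, ?_⟩
        rw [hred k]
        show f ᵥ* R' S.loc.g₀ = ζ ^ l • f
        rw [hfg, show ζ ^ c = ζ ^ l from hι (by rw [map_pow, map_pow, hζz, h])]
      · -- the contragredient
        refine ⟨n, dualMat R', v, f, fun X hX => hom_eq_zero ι hι hne (dualMat R') R (fun g => ?_)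
          hRχ X hX, by rw [dotProduct_comm]; exact hfv, ?_, ?_, ?_⟩
        · rw [dualMat_apply, Matrix.trace_transpose, hR', Chars.irr_inv, hψr]
        · have h' : f ᵥ* R' S.loc.u⁻¹ = f := by
            conv_lhs => rw [← hfu]
            rw [Matrix.vecMul_vecMul, ← map_mul, mul_inv_cancel, map_one, Matrix.vecMul_one]
          rw [dualMat_apply, Matrix.mulVec_transpose]
          exact h'
        · have h' : R' S.loc.u⁻¹ *ᵥ v = v := by
            conv_lhs => rw [← hvu]
            rw [Matrix.mulVec_mulVec, ← map_mul, inv_mul_cancel, map_one, Matrix.one_mulVec]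
          rw [dualMat_apply, Matrix.vecMul_transpose]
          exact h'
        · rw [hred k, dualMat_apply, Matrix.vecMul_transpose]
          show R' S.loc.g₀⁻¹ *ᵥ v = ζ ^ l • v
          have hcl' : ζ ^ l * ζ ^ c = 1 := hι (by
            rw [map_mul, map_pow, map_pow, hζz, h, mul_inv_cancel₀ (pow_ne_zero _ (hz.ne_zero he0)),
              map_one])
          have h' : R' S.loc.g₀⁻¹ *ᵥ (ζ ^ c • v) = v := by
            rw [← hvg, Matrix.mulVec_mulVec, ← map_mul, inv_mul_cancel, map_one, Matrix.one_mulVec]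
          conv_rhs => rw [← h', ← Matrix.mulVec_smul, smul_smul, hcl', one_smul]
  -- the principal structure
  obtain ⟨L, hLx⟩ := DefectOne.exists_localData (p := p) S.hu S.hsq
  have hV : ∀ v ∈ L.V, v = 1 := by
    intro v hv
    have h1 : v ∈ Subgroup.zpowers S.u := by
      rw [← S.hC, Subgroup.mem_centralizer_singleton_iff, ← hLx]
      exact (L.commute v hv).symm.eq
    have h2 := Subgroup.orderOf_dvd_natCard _ h1
    rw [Nat.card_zpowers, S.hu] at h2
    rcases hpp.eq_one_or_self_of_dvd _ h2 with h | h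
    · exact orderOf_eq_one_iff.mp h
    · exact absurd ((dvd_of_eq h.symm).trans (Subgroup.orderOf_dvd_natCard _ hv)) L.coprime
  have hVb : L.V = ⊥ := (Subgroup.eq_bot_iff_forall _).mpr hV
  have hprof : ∀ (χ : IrrCharacter G) (j : ZMod p),
      DefectOne.profile L χ j = (χ : G → ℂ) (S.u ^ j.val) := by
    intro χ j
    show (Nat.card L.V : ℂ)⁻¹ * ∑ᶠ v : L.V, (χ : G → ℂ) (xp p L.x j * v) = _
    rw [finsum_eq_single _ (1 : L.V) fun v hv => absurd (Subtype.ext (hV v v.2)) hv,
      Subgroup.card_eq_one.mpr hVb, Nat.cast_one, inv_one, one_mul, hLx]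
    simp [xp]
  have hidx : ¬ p ∣ (Subgroup.centralizer ({L.x} : Set G)).index := by
    rw [hLx]
    intro h
    apply S.hsq
    rw [← Subgroup.card_mul_index (Subgroup.centralizer ({S.u} : Set G)), pow_two]
    exact mul_dvd_mul (by rw [S.hC, Nat.card_zpowers, S.hu]) h
  have hfus : (fusion p L.x).card = S.e := by
    rw [hLx, ← Finset.card_range S.e]
    refine (Finset.card_bij (fun l _ => ((S.r ^ l : ℕ) : ZMod p)) ?_ ?_ ?_).symm
    · intro l _
      rw [mem_fusion, xp]
      refine isConj_iff.mpr ⟨S.g₀ ^ l, ?_⟩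
      rw [mul_inv_eq_iff_eq_mul, ZMod.val_natCast, ← pow_eq_pow_mod _ S.pow_p]
      simpa using S.conj_pow_pow l 1
    · intro a ha b hb hab
      by_contra hne
      rw [mem_range] at ha hb
      wlog hlt : a < b generalizing a b
      · exact this b hb a ha hab.symm (Ne.symm hne) (by omega)
      refine S.r_pow_ne_one (l := b - a) (fun h => ?_) ?_
      · have := Nat.le_of_dvd (by omega) h
        omega
      · rw [show b = a + (b - a) by omega, pow_add, Nat.cast_mul] at hab
        exact mul_left_cancel₀ (S.r_pow_cast_ne_zero a) (by rw [mul_one]; exact hab.symm)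
    · intro x hx
      rw [mem_fusion, xp, isConj_iff] at hx
      obtain ⟨g, hg⟩ := hx
      have hgN : g ∈ Subgroup.normalizer (Subgroup.zpowers S.u : Set G) := by
        have hmap : (Subgroup.zpowers S.u).map (MulAut.conj g).toMonoidHom = Subgroup.zpowers S.u := by
          rw [MonoidHom.map_zpowers]
          refine Subgroup.eq_of_le_of_card_ge (Subgroup.zpowers_le.mpr ?_) ?_
          · show g * S.u * g⁻¹ ∈ _
            rw [hg]; exact Subgroup.npow_mem_zpowers _ _
          · rw [Nat.card_zpowers, Nat.card_zpowers, orderOf_injective _ (MulAut.conj g).injective]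
        refine Subgroup.mem_normalizer_iff.mpr fun y => ?_
        conv_rhs => rw [← hmap]
        exact ⟨fun hy => ⟨y, hy, rfl⟩, fun ⟨y', hy', hyy⟩ => by
          rwa [← (MulAut.conj g).injective hyy]⟩
      obtain ⟨i, l, rfl⟩ := S.hN g hgN
      refine ⟨l % S.e, mem_range.mpr (Nat.mod_lt _ (Nat.pos_of_ne_zero he0)), ?_⟩
      have h1 : S.u ^ i * S.g₀ ^ l * S.u * (S.u ^ i * S.g₀ ^ l)⁻¹ = S.u ^ (S.r ^ (l % S.e)) := by
        have hl : S.g₀ ^ l = S.g₀ ^ (l % S.e) := pow_eq_pow_mod _ S.pow_e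
        have hcp := S.conj_pow_pow (l % S.e) 1
        rw [pow_one, mul_one] at hcp
        rw [hl, _root_.mul_inv_rev, mul_assoc (S.u ^ i) _ S.u, hcp]
        group
      rw [h1, pow_eq_pow_iff_modEq, S.hu, ← ZMod.natCast_eq_natCast_iff] at hg
      rw [hg, ZMod.natCast_zmod_val]
  obtain ⟨A, B, δ, ε, a, -, hA, hB, hε, hprA, hprB, -, hrel⟩ :=
    DefectOne.exists_structure L hidx (t := (p - 1) / S.e)
      (by rw [hfus]; exact Nat.mul_div_cancel' S.he)
  obtain ⟨X, hX⟩ : B.Nonempty := by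
    rw [← card_pos, hB]
    exact Nat.div_pos (Nat.le_of_dvd (by have := hpp.two_le; omega) S.he) (Nat.pos_of_ne_zero he0)
  have hvalsum : ∀ χ : IrrCharacter G, ∑ i ∈ range p, (χ : G → ℂ) (S.u ^ i) =
      (χ : G → ℂ) 1 + ∑ j ∈ (univ : Finset (ZMod p)).erase 0, DefectOne.profile L χ j := by
    intro χ
    have h1 : ∑ i ∈ range p, (χ : G → ℂ) (S.u ^ i) = ∑ j : ZMod p, (χ : G → ℂ) (S.u ^ j.val) := by
      refine Finset.sum_nbij' (fun i => (i : ZMod p)) ZMod.val (fun _ _ => mem_univ _)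
        (fun j _ => mem_range.mpr j.val_lt) (fun i hi => ZMod.val_cast_of_lt (mem_range.mp hi))
        (fun j _ => ZMod.natCast_zmod_val j) fun i hi => by
          rw [ZMod.val_cast_of_lt (mem_range.mp hi)]
    rw [h1, ← Finset.add_sum_erase _ _ (mem_univ 0), ZMod.val_zero, pow_zero]
    simp only [hprof]
  have hcard0 : ((univ : Finset (ZMod p)).erase 0).card = p - 1 := by
    rw [card_erase_of_mem (mem_univ _), card_univ, ZMod.card]
  have hdeg : ∀ χ : IrrCharacter G, ∃ d : ℕ, 0 < d ∧ (χ : G → ℂ) 1 = d := fun χ =>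
    Chars.isIrrCharacter_exists_degree_pos χ.2
  choose d hd0 hd using hdeg
  -- the sign of the exceptional characters
  have hXsum : ∑ i ∈ range p, (X : G → ℂ) (S.u ^ i) = (d X : ℂ) - (ε : ℂ) * S.e := by
    rw [hvalsum, hd, sum_congr rfl fun j hj => (hprB X hX).2 j (ne_of_mem_erase hj),
      ← Finset.mul_sum, Finset.sum_comm,
      sum_congr rfl fun u hu => by
        rw [sum_erase_eq_sub (mem_univ _), sum_congr rfl fun j _ => by rw [mul_comm _ j],
          AddChar.sum_mulShift (a X * u) (ZMod.isPrimitive_stdAddChar p),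
          if_neg (mul_ne_zero (hprB X hX).1 (ne_zero_of_mem_fusion L.order_x hu)),
          Nat.cast_zero, mul_zero, AddChar.map_zero_eq_one, zero_sub],
      sum_const, hfus, nsmul_eq_mul]
    ring
  have hZval : ∀ χ ∈ Z, ∀ i : ℕ, ¬ p ∣ i → (χ : G → ℂ) (S.u ^ i) = 1 := by
    intro χ hχ i hi
    rcases mem_insert.mp hχ with rfl | hχ
    · simp
    · obtain ⟨j, hj, rfl⟩ := mem_image.mp hχ
      exact (hΨ j hj).2.2.1 i hi
  have hXZ : X ∉ Z := by
    intro h
    have h1 : ∑ i ∈ range p, (X : G → ℂ) (S.u ^ i) = (d X : ℂ) + ((p : ℂ) - 1) := by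
      rw [← Finset.add_sum_erase _ _ (mem_range.mpr hpp.pos), pow_zero, hd,
        sum_congr rfl fun i hi => hZval X h i fun h' => (mem_erase.mp hi).1
          (Nat.eq_zero_of_dvd_of_lt h' (mem_range.mp (mem_erase.mp hi).2)),
        sum_const, card_erase_of_mem (mem_range.mpr hpp.pos), card_range, nsmul_eq_mul,
        Nat.cast_sub hpp.one_le]
      simp
    rw [hXsum] at h1
    apply S.hep
    rcases hε with h | h <;> subst h
    · exfalso
      have h2 : ((S.e + p : ℕ) : ℂ) = ((1 : ℕ) : ℂ) := by push_cast at h1 ⊢; linear_combination -h1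
      have := Nat.cast_injective h2
      have := hpp.two_le
      omega
    · have h2 : ((S.e + 1 : ℕ) : ℂ) = (p : ℂ) := by push_cast at h1 ⊢; linear_combination h1
      have := Nat.cast_injective h2
      omega
  have hε1 : ε = 1 := by
    rcases hε with h | h
    · exact h
    exfalso
    subst h
    obtain ⟨b, hb⟩ := hnat X
    have hle := hother X hXZ _ b (hd X) hb
    rw [hXsum] at hb
    have h2 : ((d X + S.e : ℕ) : ℂ) = ((p * b : ℕ) : ℂ) := by push_cast at hb ⊢; linear_combination hb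
    have := Nat.cast_injective h2
    omega
  -- the degree relation
  refine ⟨X, fun h => hXZ (h ▸ mem_insert_self _ _), ?_⟩
  have hrel1 := hrel X hX 1 (by rw [orderOf_one]; exact fun h => hpp.ne_one (Nat.dvd_one.mp h))
  rw [hε1, hd] at hrel1
  simp only [hd, Int.cast_one, one_mul] at hrel1
  have hsum : (d X : ℤ) = ∑ χ ∈ A, δ χ * (d χ : ℤ) := by exact_mod_cast hrel1
  have hbound : ∀ χ ∈ A, δ χ * (d χ : ℤ) ≤ -((p : ℤ) - 1) +
      ((if χ = Chars.trivialIrr G then (p : ℤ) else 0) +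
        (if χ ∈ (J.image Ψ).erase (Chars.trivialIrr G) then 2 * (p : ℤ) else 0)) := by
    intro χ hχ
    obtain ⟨hδ, hχv⟩ := hprA χ hχ
    obtain ⟨b, hb⟩ := hnat χ
    have hsumχ : ∑ i ∈ range p, (χ : G → ℂ) (S.u ^ i) = (d χ : ℂ) + ((p : ℂ) - 1) * (δ χ : ℂ) := by
      rw [hvalsum, hd, sum_congr rfl fun j hj => hχv j (ne_of_mem_erase hj), sum_const, hcard0,
        nsmul_eq_mul, Nat.cast_sub hpp.one_le, Nat.cast_one]
    by_cases hZ : χ ∈ Z
    · have hδ1 : δ χ = 1 := by
        have h := (hχv 1 one_ne_zero)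
        rw [hprof, hZval χ hZ _ (fun h' => by
          haveI : Fact (1 < p) := ⟨hpp.one_lt⟩
          rw [ZMod.val_one] at h'
          exact hpp.ne_one (Nat.dvd_one.mp h'))] at h
        exact_mod_cast h.symm
      rw [hδ1, one_mul]
      by_cases ht : χ = Chars.trivialIrr G
      · have h1 : (d χ : ℂ) = 1 := by rw [← hd, ht]; simp
        have h1' : d χ = 1 := by exact_mod_cast h1
        rw [if_pos ht, if_neg (fun h => (mem_erase.mp h).1 ht), h1']
        simp
      · have him : χ ∈ J.image Ψ := (mem_insert.mp hZ).resolve_left ht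
        rw [if_neg ht, if_pos (mem_erase.mpr ⟨ht, him⟩)]
        obtain ⟨j, hj, rfl⟩ := mem_image.mp him
        have h1 : (d (Ψ j) : ℂ) = ((p + 1 : ℕ) : ℂ) := by rw [← hd, (hΨ j hj).1]; push_cast; rfl
        have h1' : d (Ψ j) = p + 1 := by exact_mod_cast h1
        rw [h1']; push_cast; linarith
    · have hle := hother χ hZ _ b (hd χ) hb
      rw [hsumχ] at hb
      rw [if_neg (fun h => hZ (by rw [h]; exact mem_insert_self _ _)),
        if_neg (fun h => hZ (mem_insert_of_mem (mem_of_mem_erase h)))]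
      rcases hδ with h | h
      · exfalso
        rw [h] at hb
        have h2 : ((d χ + p : ℕ) : ℂ) = ((p * b + 1 : ℕ) : ℂ) := by
          push_cast at hb ⊢; linear_combination hb
        have := Nat.cast_injective h2
        have := hpp.two_le
        omega
      · rw [h] at hb ⊢
        have h2 : ((d χ + 1 : ℕ) : ℂ) = ((p * b + p : ℕ) : ℂ) := by
          push_cast at hb ⊢; linear_combination hb
        have := Nat.cast_injective h2
        have h3 : (p : ℤ) ≤ d χ + 1 := by exact_mod_cast (show p ≤ d χ + 1 by omega)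
        linarith
  have h1 := Finset.sum_le_sum hbound
  rw [← hsum, sum_add_distrib, sum_add_distrib, sum_const, hA, hfus, nsmul_eq_mul, sum_ite_eq',
    ← Finset.sum_filter, sum_const, nsmul_eq_mul] at h1
  set K := A.filter fun χ => χ ∈ (J.image Ψ).erase (Chars.trivialIrr G)
  have hK : 2 * K.card + 1 ≤ S.e := by
    have h2 : K.card ≤ J.card := (card_le_card fun χ hχ =>
      mem_of_mem_erase (mem_filter.mp hχ).2).trans card_image_le
    rw [Nat.card_Icc] at h2
    obtain ⟨q, hq⟩ := hodd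
    omega
  have hK' : 2 * (K.card : ℤ) + 1 ≤ S.e := by exact_mod_cast hK
  have hdle : (d X : ℤ) ≤ S.e := by
    have hp0 : (0 : ℤ) ≤ p := by positivity
    split_ifs at h1 <;> nlinarith
  rw [charDegree, hd, Complex.natCast_re, Nat.floor_natCast]
  exact_mod_cast hdle

end Setting

end Cfsg.Agent.Lib.UniqueDegP
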