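import Mathlib
import Cfsg.Agent.Lib.UniqueDegP.Odd
import Cfsg.Agent.Lib.BSW.Main
import Cfsg.Agent.Lib.Involution.Basic
import Cfsg.Agent.Lib.BrauerSuzukiQ.ZStarFinal
import Cfsg.Agent.Lib.PSolvable.Core

/-!
# The group order when the complement has even order

The centralizer of the involution of the complement is dihedral, so Brauer–Suzuki–Wall applies.
-/

set_option autoImplicit false

namespace Cfsg.Agent.Lib.UniqueDegP

open Cfsg Cfsg.Agent.Lib

universe u

variable {G : Type u} [Group G] [Finite G] {p : ℕ} [hp : Fact p.Prime]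

namespace Setting

variable (S : Setting G p)

include S in
omit hp in
theorem map_eq_one {A : Type} [CommGroup A] (f : G →* A) (g : G) : f g = 1 := by
  haveI := S.hsimple
  rcases IsSimpleGroup.eq_bot_or_eq_top_of_normal f.ker inferInstance with h | h
  · obtain ⟨a, b, hab⟩ := S.hnc
    refine absurd ((MonoidHom.ker_eq_bot_iff f).mp h ?_) hab
    rw [map_mul, map_mul, mul_comm]
  · exact MonoidHom.mem_ker.mp (h ▸ Subgroup.mem_top g)

include S in
omit hp in
theorem not_isolated {z : G} (hz : orderOf z = 2) :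
    ∃ h : G, Commute z (h * z * h⁻¹) ∧ h * z * h⁻¹ ≠ z := by
  haveI := S.hsimple
  by_contra hcon
  push Not at hcon
  haveI : (oddCore G).Normal := pPrimeCore_normal 2 G
  have hcore : oddCore G = ⊥ := by
    rcases IsSimpleGroup.eq_bot_or_eq_top_of_normal (oddCore G) inferInstance with h | h
    · exact h
    · haveI : Fact (Nat.Prime 2) := ⟨Nat.prime_two⟩
      have h2 := PSolvable.pPrimeCore_not_dvd (p := 2) (G := G)
      rw [show pPrimeCore 2 G = ⊤ from h, Subgroup.card_top] at h2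
      exact absurd (hz ▸ orderOf_dvd_natCard z) h2
  have hc : z ∈ Subgroup.center G := by
    refine Subgroup.mem_center_iff.mpr fun g => ?_
    have h := BrauerSuzukiQ.zstar (z := z) ⟨hz, hcon⟩ g
    rw [hcore, Subgroup.mem_bot, mul_inv_eq_one, mul_inv_eq_iff_eq_mul] at h
    exact h.symm
  rcases IsSimpleGroup.eq_bot_or_eq_top_of_normal (Subgroup.center G) inferInstance with h | h
  · rw [h, Subgroup.mem_bot] at hc
    rw [hc, orderOf_one] at hz
    omega
  · obtain ⟨a, b, hab⟩ := S.hnc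
    exact hab (Subgroup.mem_center_iff.mp (h ▸ Subgroup.mem_top b) a)

set_option maxHeartbeats 800000 in
/-- The Brauer–Suzuki–Wall configuration. -/
theorem exists_bsw (heven : Even S.e) : ∃ B : BSW.Setup G, Nat.card B.K = S.e := by
  classical
  cases nonempty_fintype G
  obtain ⟨m, hm⟩ := heven
  have he2 := S.he2
  set E := Subgroup.zpowers S.g₀ with hE
  set H := Subgroup.normalizer (E : Set G) with hH
  have hEc : Nat.card E = S.e := by rw [Nat.card_zpowers, S.hg₀]
  have hgE : S.g₀ ∈ E := Subgroup.mem_zpowers _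
  have hEH : E ≤ H := Subgroup.le_normalizer
  set z := S.g₀ ^ m with hzdef
  have hz2 : z * z = 1 := by rw [← pow_add, ← hm, S.pow_e]
  have hz1 : z ≠ 1 := fun h => by
    have := Nat.le_of_dvd (by omega) ((S.g₀_pow_eq_one_iff m).mp h)
    omega
  have hz : orderOf z = 2 := Involution.orderOf_eq_two hz2 hz1
  have hzE : z ∈ E := E.pow_mem hgE _
  have hzu : ∀ x ∈ E, x * x = 1 → x = 1 ∨ x = z := by
    intro x hx hxx
    obtain ⟨i, rfl⟩ := S.mem_powers_g₀ hx
    rw [← pow_add, S.g₀_pow_eq_one_iff] at hxx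
    obtain ⟨l, hl⟩ := hxx
    have hi : i = m * l := by rw [hm, add_mul] at hl; omega
    rw [hi, pow_mul, ← hzdef]
    rcases Nat.even_or_odd l with ⟨k, rfl⟩ | ⟨k, rfl⟩
    · left; rw [← two_mul, pow_mul, pow_two, hz2, one_pow]
    · right; rw [pow_succ, pow_mul, pow_two, hz2, one_pow, one_mul]
  have hCz : ∀ g : G, g ∈ H ↔ g * z = z * g := by
    intro g
    constructor
    · intro hg
      have h1 : g * z * g⁻¹ ∈ E := (Subgroup.mem_normalizer_iff.mp hg z).mp hzE
      rcases hzu _ h1 (by rw [show g * z * g⁻¹ * (g * z * g⁻¹) = g * (z * z) * g⁻¹ by group,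
        hz2, mul_one, mul_inv_cancel]) with h | h
      · exact absurd (conj_eq_one_iff.mp h) hz1
      · exact mul_inv_eq_iff_eq_mul.mp h
    · intro hg
      exact S.hTI g z hzE hz1 (by rw [hg, mul_inv_cancel_right]; exact hzE)
  have hi2 : (E.subgroupOf H).index = 2 := by
    have h1 := (E.subgroupOf H).card_mul_index
    rw [Nat.card_congr (Subgroup.subgroupOfEquivOfLe hEH).toEquiv, hEc, S.hNE] at h1
    nlinarith
  have hsq : ∀ x ∈ H, x * x ∈ E := by
    intro x hx
    have h := Subgroup.mul_self_mem_of_index_two hi2 (⟨x, hx⟩ : H)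
    simpa [Subgroup.mem_subgroupOf] using h
  obtain ⟨h₀, hcomm, hne⟩ := S.not_isolated hz
  obtain ⟨s, hsdef⟩ : ∃ s : G, s = h₀ * z * h₀⁻¹ := ⟨_, rfl⟩
  rw [← hsdef] at hcomm hne
  have hs2 : orderOf s = 2 := by rw [hsdef, Involution.orderOf_conj_eq, hz]
  have hss : s * s = 1 := Involution.mul_self_eq_one hs2
  have hsinv : s⁻¹ = s := Involution.inv_eq_self hss
  have hzs : IsConj z s := isConj_iff.mpr ⟨h₀, hsdef.symm⟩
  have hsH : s ∈ H := (hCz s).mpr hcomm.eq.symm
  have hsE : s ∉ E := fun h => by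
    rcases hzu s h hss with h1 | h1
    · exact Involution.ne_one hs2 h1
    · exact hne h1
  -- centralised elements of `E`
  have hCs : ∀ c ∈ E, s * c = c * s → c = 1 ∨ c = z := by
    intro c hc hsc
    refine hzu c hc ?_
    by_contra hcc
    have hc' : h₀⁻¹ * c * h₀ ∈ H := by
      rw [hCz]
      rw [show h₀⁻¹ * c * h₀ * z = h₀⁻¹ * (c * s) * h₀ by rw [hsdef]; group, ← hsc, hsdef]
      group
    have hx := hsq _ hc'
    rw [show h₀⁻¹ * c * h₀ * (h₀⁻¹ * c * h₀) = h₀⁻¹ * (c * c) * h₀ by group] at hx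
    have hh : h₀ ∈ H := S.hTI h₀ _ hx (fun h => hcc (by
      have : c * c = h₀ * (h₀⁻¹ * (c * c) * h₀) * h₀⁻¹ := by group
      rw [this, h, mul_one, mul_inv_cancel]))
      (by rw [show h₀ * (h₀⁻¹ * (c * c) * h₀) * h₀⁻¹ = c * c by group]; exact E.mul_mem hc hc)
    exact hne (by rw [hsdef, (hCz h₀).mp hh, mul_inv_cancel_right])
  -- the action of `s`
  obtain ⟨a, ha⟩ := S.mem_powers_g₀
    ((Subgroup.mem_normalizer_iff.mp hsH S.g₀).mp hgE)
  have hpow : ∀ i : ℕ, s * S.g₀ ^ i * s⁻¹ = S.g₀ ^ (a * i) := fun i => by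
    rw [← conj_pow, ← ha, pow_mul]
  have hodd : Odd a := by
    rw [← Nat.not_even_iff_odd]
    rintro ⟨k, rfl⟩
    have h := hpow m
    rw [← hzdef, (hCz s).mp hsH, mul_inv_cancel_right] at h
    refine hz1 (h.trans ?_)
    rw [show (k + k) * m = S.e * k by rw [hm]; ring, pow_mul, S.pow_e, one_pow]
  set w := S.g₀ ^ (a + 1) with hwdef
  have hw : w = 1 ∨ w = z := by
    refine hCs w (E.pow_mem hgE _) ?_
    have h1 : s * w * s⁻¹ = w := by
      have haa : S.g₀ ^ (a * a) = S.g₀ := by
        rw [← hpow a, ha, hsinv]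
        rw [show s * (s * S.g₀ * s) * s = (s * s) * S.g₀ * (s * s) by group, hss, one_mul, mul_one]
      rw [hwdef, hpow, mul_add, mul_one, pow_add, haa, ← pow_succ']
    exact mul_inv_eq_iff_eq_mul.mp h1
  have hmove : ∀ i c : ℕ, S.g₀ ^ i * s ^ c = s ^ c * S.g₀ ^ (i * a ^ c) := by
    intro i c
    induction c with
    | zero => simp
    | succ c ih =>
      have h := hpow (i * a ^ c)
      rw [hsinv] at h
      rw [pow_succ s, ← mul_assoc, ih, mul_assoc, mul_assoc,
        show i * a ^ (c + 1) = a * (i * a ^ c) by ring, ← h]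
      congr 1
      simp [← mul_assoc, hss]
  have hsmul : ∀ i : ℕ, (s * S.g₀ ^ i) * (s * S.g₀ ^ i) = w ^ i := by
    intro i
    rw [show (s * S.g₀ ^ i) * (s * S.g₀ ^ i) = (s * S.g₀ ^ i * s) * S.g₀ ^ i by group]
    conv_lhs => arg 1; arg 2; rw [← hsinv]
    rw [hpow, ← pow_add, hwdef, ← pow_mul, add_mul, one_mul]
  have hdec : ∀ x ∈ H, ∃ b i : ℕ, b < 2 ∧ x = s ^ b * S.g₀ ^ i := by
    intro x hx
    by_cases hxE : x ∈ E
    · obtain ⟨i, hi⟩ := S.mem_powers_g₀ hxE
      exact ⟨0, i, two_pos, by rw [hi, pow_zero, one_mul]⟩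
    have h2 := Subgroup.mul_mem_iff_of_index_two hi2 (a := ⟨s, hsH⟩) (b := (⟨x, hx⟩ : H))
    simp only [Subgroup.mem_subgroupOf, Subgroup.coe_mul] at h2
    obtain ⟨i, hi⟩ := S.mem_powers_g₀ (h2.mpr ⟨fun h => absurd h hsE, fun h => absurd h hxE⟩)
    exact ⟨1, i, one_lt_two, by rw [hi, pow_one, ← mul_assoc, hss, one_mul]⟩
  -- an odd element of the coset is conjugate to `z`
  obtain ⟨i₀, hi₀, hi₀z⟩ : ∃ i : ℕ, Odd i ∧ IsConj z (s * S.g₀ ^ i) := by
    by_contra hcon
    push Not at hcon
    choose b₀ i₁ hb₀ hx₀ using fun x : H => hdec x.1 x.2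
    have hkey : ∀ (x : H) (b i : ℕ), x.1 = s ^ b * S.g₀ ^ i →
        (-1 : ℤˣ) ^ i₁ x = (-1) ^ i := by
      intro x b i hx
      have hs2' : s ^ 2 = 1 := by rw [pow_two, hss]
      rw [hx₀ x, pow_eq_pow_mod b hs2'] at hx
      have hb := Nat.mod_lt b (show 0 < 2 by norm_num)
      have hb1 := hb₀ x
      have hbeq : b₀ x = b % 2 := by
        by_contra hne'
        have h01 : (b₀ x = 0 ∧ b % 2 = 1) ∨ (b₀ x = 1 ∧ b % 2 = 0) := by omega
        rcases h01 with ⟨h1, h2⟩ | ⟨h1, h2⟩
        · rw [h1, h2, pow_zero, one_mul, pow_one] at hx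
          exact hsE (by rw [eq_mul_inv_of_mul_eq hx.symm]; exact E.mul_mem (E.pow_mem hgE _) (E.inv_mem (E.pow_mem hgE _)))
        · rw [h1, h2, pow_zero, one_mul, pow_one] at hx
          exact hsE (by rw [eq_mul_inv_of_mul_eq hx]; exact E.mul_mem (E.pow_mem hgE _) (E.inv_mem (E.pow_mem hgE _)))
      rw [hbeq, mul_right_inj, pow_eq_pow_iff_modEq, S.hg₀] at hx
      have h := hx.of_dvd (show 2 ∣ S.e from ⟨m, by omega⟩)
      rw [← Units.val_inj, Units.val_pow_eq_pow_val, Units.val_pow_eq_pow_val, Units.val_neg,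
        Units.val_one]
      exact neg_one_pow_congr (by rw [Nat.even_iff, Nat.even_iff]; unfold Nat.ModEq at h; omega)
    let ψ : H →* ℤˣ :=
      { toFun := fun x => (-1) ^ i₁ x
        map_one' := (hkey 1 0 0 (by simp)).trans (pow_zero _)
        map_mul' := fun x y => by
          have h1 : (x * y : H).1 = s ^ (b₀ x + b₀ y) * S.g₀ ^ (i₁ x * a ^ b₀ y + i₁ y) := by
            rw [Subgroup.coe_mul, hx₀ x, hx₀ y, pow_add, pow_add,
              mul_assoc, ← mul_assoc (S.g₀ ^ i₁ x), hmove, mul_assoc, mul_assoc]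
          rw [hkey _ _ _ h1, pow_add, mul_comm (i₁ x), pow_mul,
            (Odd.pow hodd).neg_one_pow] }
    have hψ : ∀ (x : H) (b i : ℕ), x.1 = s ^ b * S.g₀ ^ i → ψ x = (-1) ^ i := hkey
    haveI : Fintype (G ⧸ H) := Fintype.ofFinite _
    haveI : Fintype (Quotient (MulAction.orbitRel (Subgroup.zpowers S.g₀) (G ⧸ H))) :=
      Fintype.ofFinite _
    have htr := S.map_eq_one (MonoidHom.transfer ψ) S.g₀
    rw [MonoidHom.transfer_eq_prod_quotient_orbitRel_zpowers_quot] at htr
    have hfix : ∀ x : G ⧸ H, x = ((1 : G) : G ⧸ H) ↔ x.out ∈ H := by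
      intro x
      constructor
      · rintro rfl
        have h := QuotientGroup.eq.mp (QuotientGroup.out_eq' ((1 : G) : G ⧸ H))
        rw [mul_one, inv_mem_iff] at h
        exact h
      · intro h
        rw [← QuotientGroup.out_eq' x, QuotientGroup.eq, mul_one]
        exact inv_mem h
    set q₀ : Quotient (MulAction.orbitRel (Subgroup.zpowers S.g₀) (G ⧸ H)) :=
      Quotient.mk'' ((1 : G) : G ⧸ H) with hq₀
    have hout : q₀.out = ((1 : G) : G ⧸ H) := by
      obtain ⟨y, hy⟩ := Quotient.mk_out (s := MulAction.orbitRel (Subgroup.zpowers S.g₀) (G ⧸ H))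
        ((1 : G) : G ⧸ H)
      refine hy.symm.trans ?_
      show (((y : G) * 1 : G) : G ⧸ H) = _
      rw [mul_one, QuotientGroup.eq, mul_one]
      exact inv_mem (hEH y.2)
    have hper : Function.minimalPeriod (S.g₀ • ·) q₀.out = 1 := by
      rw [Function.minimalPeriod_eq_one_iff_isFixedPt, hout]
      show ((S.g₀ * 1 : G) : G ⧸ H) = _
      rw [mul_one, QuotientGroup.eq, mul_one]
      exact inv_mem (hEH hgE)
    rw [Fintype.prod_eq_single q₀ ?_] at htr
    · set x : H := ⟨S.g₀, hEH hgE⟩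
      set k : H := ⟨q₀.out.out, (hfix _).mp hout⟩
      have h1 : ψ (k⁻¹ * x * k) = 1 := by
        convert htr using 2
        refine Subtype.ext ?_
        simp only [Subgroup.coe_mul, Subgroup.coe_inv, x, k, hper, pow_one]
      rw [map_mul, map_mul, map_inv, mul_comm _ (ψ x), mul_assoc, inv_mul_cancel, mul_one,
        hψ x 0 1 (by simp [x]), pow_one] at h1
      exact absurd h1 (by decide)
    · intro q hq
      set k := q.out.out with hk
      set n := Function.minimalPeriod (S.g₀ • ·) q.out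
      set y : G := k⁻¹ * S.g₀ ^ n * k with hy
      have hyH : y ∈ H := QuotientGroup.out_conj_pow_minimalPeriod_mem H S.g₀ q.out
      have hkH : k ∉ H := fun h => hq (by
        rw [hq₀, ← (hfix _).mpr h]
        exact q.out_eq.symm)
      have hyc : k * y * k⁻¹ = S.g₀ ^ n := by rw [hy]; group
      obtain ⟨b, i, hb, hbi⟩ := hdec y hyH
      rw [hψ ⟨y, hyH⟩ b i hbi]
      interval_cases b
      · rw [pow_zero, one_mul] at hbi
        by_cases hy1 : y = 1
        · rw [← hψ ⟨y, hyH⟩ 0 i (by simp [hbi])]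
          rw [show (⟨y, hyH⟩ : H) = 1 from Subtype.ext hy1, map_one]
        · exact absurd (S.hTI k y (hbi ▸ E.pow_mem hgE i) hy1
            (hyc ▸ E.pow_mem hgE n)) hkH
      · rw [pow_one] at hbi
        rcases Nat.even_or_odd i with hi | hi
        · exact hi.neg_one_pow
        exfalso
        have hyy : y * y = w := by
          rw [hbi, hsmul]
          obtain ⟨l, rfl⟩ := hi
          rcases hw with h | h <;> rw [h]
          · rw [one_pow]
          · rw [pow_succ, pow_mul, pow_two, hz2, one_pow, one_mul]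
        have hyc2 : k * (y * y) * k⁻¹ = S.g₀ ^ (n + n) := by
          rw [pow_add, ← hyc]; group
        rcases hw with h | h
        · rw [hyy, h, mul_one, mul_inv_cancel, pow_add] at hyc2
          rcases hzu _ (E.pow_mem hgE n) hyc2.symm with h1 | h1
          · refine hsE ?_
            have hy0 : y = 1 := by rw [hy, h1]; group
            rw [eq_mul_inv_of_mul_eq (hbi.symm.trans hy0), one_mul]
            exact E.inv_mem (E.pow_mem hgE i)
          · refine hcon i hi ?_
            rw [← hbi, hy, h1]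
            exact isConj_iff.mpr ⟨k⁻¹, by rw [inv_inv]⟩
        · rw [hyy, h] at hyc2
          exact hkH (S.hTI k z hzE hz1 (hyc2 ▸ E.pow_mem hgE _))
  have hw1 : w = 1 := by
    have h := (Involution.mul_self_eq_one ((Involution.isConj_orderOf hi₀z).trans hz))
    rw [hsmul] at h
    obtain ⟨l, rfl⟩ := hi₀
    rcases hw with h1 | h1
    · exact h1
    · rw [h1, pow_succ, pow_mul, pow_two, hz2, one_pow, one_mul] at h
      exact absurd h hz1
  have hinv : ∀ x ∈ E, s * x * s⁻¹ = x⁻¹ := by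
    intro x hx
    obtain ⟨i, rfl⟩ := S.mem_powers_g₀ hx
    rw [hpow, eq_inv_iff_mul_eq_one, ← pow_add, show a * i + i = (a + 1) * i by ring, pow_mul,
      ← hwdef, hw1, one_pow]
  -- all involutions are conjugate
  have hclass : ∀ i : ℕ, IsConj z (s * S.g₀ ^ i) := by
    have hstep : ∀ i j : ℕ, IsConj (s * S.g₀ ^ (i + 2 * j)) (s * S.g₀ ^ i) := by
      intro i j
      refine isConj_iff.mpr ⟨S.g₀ ^ j, ?_⟩
      have h : S.g₀ ^ j * s = s * (S.g₀ ^ j)⁻¹ := by
        rw [← hinv _ (E.pow_mem hgE j), hsinv, ← mul_assoc, ← mul_assoc, hss, one_mul]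
      rw [← mul_assoc (S.g₀ ^ j), h, mul_assoc s, mul_assoc s]
      congr 1
      group
    intro i
    rcases Nat.even_or_odd i with ⟨j, rfl⟩ | ⟨j, rfl⟩
    · have h := hstep 0 j
      rw [zero_add, pow_zero, mul_one, two_mul] at h
      exact hzs.trans h.symm
    · obtain ⟨l, rfl⟩ := hi₀
      have h1 := hstep 1 j
      have h2 := hstep 1 l
      rw [add_comm 1] at h1 h2
      exact (hi₀z.trans h2).trans h1.symm
  have hinvH : ∀ y ∈ H, orderOf y = 2 → IsConj z y := by
    intro y hy hy2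
    obtain ⟨b, i, hb, hbi⟩ := hdec y hy
    interval_cases b
    · rw [pow_zero, one_mul] at hbi
      rcases hzu y (hbi ▸ E.pow_mem hgE i) (Involution.mul_self_eq_one hy2) with h | h
      · exact absurd h (Involution.ne_one hy2)
      · exact h ▸ IsConj.refl z
    · rw [pow_one] at hbi
      exact hbi ▸ hclass i
  have hall : ∀ u : G, orderOf u = 2 → IsConj z u := by
    intro u hu
    have huu := Involution.mul_self_eq_one hu
    rcases Nat.even_or_odd (orderOf (z * u)) with he | ho
    swap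
    · exact Involution.isConj_of_odd hz2 huu ho
    set v := (z * u) ^ (orderOf (z * u) / 2)
    have hv : orderOf v = 2 := Involution.orderOf_half_pow he
    have hvz : IsConj z v :=
      hinvH v ((hCz v).mpr (Involution.commute_half_pow_left hz2 huu he).eq) hv
    obtain ⟨g, hg⟩ := isConj_iff.mp hvz
    have hu' : g⁻¹ * u * g ∈ H := by
      rw [hCz]
      have h := (Involution.commute_half_pow_right hz2 huu he).eq
      change v * u = u * v at h
      rw [show g⁻¹ * u * g * z = g⁻¹ * (u * v) * g by rw [← hg]; group, ← h, ← hg]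
      group
    exact (hinvH _ hu' (by rw [← hu]; simpa using Involution.orderOf_conj_eq g⁻¹ u)).trans
      (isConj_iff.mpr ⟨g, by group⟩)
  have hHC : Subgroup.centralizer ({z} : Set G) = H := by
    ext g; rw [Subgroup.mem_centralizer_singleton_iff, hCz]
  obtain ⟨B, hB, -⟩ := BSW.exists_setup z hz E inferInstance (hHC ▸ hEH) hzE s hs2 (hHC ▸ hsH) hsE
    (by
      rw [hHC]
      refine le_antisymm (sup_le hEH (Subgroup.zpowers_le.mpr hsH)) fun x hx => ?_
      obtain ⟨b, i, -, rfl⟩ := hdec x hx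
      exact mul_mem (pow_mem (le_sup_right (a := E) (Subgroup.mem_zpowers s)) b) (le_sup_left (b := Subgroup.zpowers s) (E.pow_mem hgE i)))
    (le_antisymm (fun c hc => by
        rcases hCs c hc.1 (Subgroup.mem_centralizer_singleton_iff.mp hc.2).symm with h | h <;> rw [h]
        · exact one_mem _
        · exact Subgroup.mem_zpowers z)
      (Subgroup.zpowers_le.mpr ⟨hzE, Subgroup.mem_centralizer_singleton_iff.mpr
        ((hCz s).mp hsH).symm⟩))
    hinv (fun g hg => (Subgroup.eq_bot_iff_forall _).mpr fun x hx => by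
      obtain ⟨hx1, y, hy, rfl⟩ := hx
      by_contra hne'
      exact hg (hHC ▸ S.hTI g y hy (fun h => hne' (by simp [h])) hx1))
    (fun x y hx hy => (hall x hx).symm.trans (hall y hy))
  exact ⟨B, by rw [hB, hEc]⟩

end Setting

end Cfsg.Agent.Lib.UniqueDegP
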