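import Mathlib
import Cfsg.Agent.Lib.UniqueDegP.Degree
import Cfsg.Agent.Lib.UniqueDegP.Even
import Cfsg.Agent.Lib.DefectOne.SmallTheorem
import Cfsg.Agent.Lib.HalfPSL.Main
import Cfsg.Agent.Lib.BrauerTuan.SmallValue
import Cfsg.Agent.S0996
import Cfsg.Agent.S0252
import Cfsg.Agent.S0253
import Cfsg.Agent.S0806
import Cfsg.Agent.Lib.SL2.Basic

/-!
# Recognition of `PSL(2, p)`
-/

set_option autoImplicit false

namespace Cfsg.Agent.Lib.UniqueDegP

open Cfsg Cfsg.Agent.Lib

universe u v

variable {G : Type u} [Group G] [Finite G] {p : ℕ} [hp : Fact p.Prime]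

namespace Setting

variable (S : Setting G p)
include S

omit [Finite G] in
theorem five_le : 5 ≤ p := by
  have h2 := S.he2
  have hp2 := hp.out.two_le
  have hle := Nat.le_of_dvd (by omega) S.he
  have hne := S.hep
  by_contra h
  interval_cases p <;> first | omega | exact (by norm_num : ¬ Nat.Prime 4) hp.out

omit [Finite G] in
theorem two_mul_e_le : 2 * S.e + 1 ≤ p := by
  obtain ⟨t, ht⟩ := S.he
  have h2 := S.he2
  have hne := S.hep
  have := hp.out.two_le
  rcases t with - | - | t
  · omega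
  · omega
  · have : 2 * S.e ≤ S.e * (t + 1 + 1) := by rw [mul_comm 2]; exact Nat.mul_le_mul_left _ (by omega)
    omega

omit hp in
theorem center_eq_bot : Subgroup.center G = ⊥ := by
  haveI := S.hsimple
  rcases IsSimpleGroup.eq_bot_or_eq_top_of_normal (Subgroup.center G) inferInstance with h | h
  · exact h
  · obtain ⟨a, b, hab⟩ := S.hnc
    exact absurd (Subgroup.mem_center_iff.mp (h ▸ Subgroup.mem_top b) a) hab

omit [Finite G] in
theorem dvd_card : p ∣ Nat.card G := S.hu ▸ orderOf_dvd_natCard S.u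

theorem no_normal : ∀ H : Subgroup G, H.Normal → Nat.card H ≠ p := by
  intro H hH hc
  haveI := S.hsimple
  rcases IsSimpleGroup.eq_bot_or_eq_top_of_normal H hH with rfl | rfl
  · rw [Subgroup.card_bot] at hc
    exact hp.out.ne_one hc.symm
  · rw [Subgroup.card_top] at hc
    haveI := isCyclic_of_prime_card (p := p) hc
    obtain ⟨a, b, hab⟩ := S.hnc
    letI := IsCyclic.commGroup (α := G)
    exact hab (mul_comm a b)

theorem commutator_eq_top : commutator G = ⊤ := by
  haveI := S.hsimple
  rcases IsSimpleGroup.eq_bot_or_eq_top_of_normal (commutator G) inferInstance with h | h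
  · obtain ⟨a, b, hab⟩ := S.hnc
    have := Subgroup.commutator_mem_commutator (Subgroup.mem_top a) (Subgroup.mem_top b)
    rw [← commutator_def, h, Subgroup.mem_bot, commutatorElement_eq_one_iff_mul_comm] at this
    exact absurd this hab
  · exact h

/-- Odd complement. -/
theorem iso_odd (hodd : Odd S.e) :
    Nonempty (G ≃* Matrix.ProjectiveSpecialLinearGroup (Fin 2) (ZMod p)) := by
  cases nonempty_fintype G
  haveI := S.hsimple
  obtain ⟨χ, hne, hdeg⟩ := S.exists_small hodd
  obtain ⟨d, ρ, -, hρ⟩ := χ.2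
  have hd : charDegree (χ : G → ℂ) = d := by
    rw [charDegree, ← hρ, Representation.char_one, Module.finrank_fin_fun, Complex.natCast_re,
      Nat.floor_natCast]
  have hfaith : ∀ g : G, (χ : G → ℂ) g = (χ : G → ℂ) 1 → g = 1 :=
    fun g hg => BrauerTuan.faithful_of_ne_trivial hne hg
  have h1 := DefectOne.le_two_mul_degree_add_one p S.dvd_card S.hsq S.no_normal (χ : G → ℂ)
    (Chars.irr_isCharacter χ) hfaith
  have h2 := S.two_mul_e_le
  rw [hd] at h1 hdeg
  obtain ⟨e⟩ := HalfPSL.quot_center_iso p S.dvd_card S.hsq S.no_normal (n := d) (by omega) ρ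
    (fun g hg => hfaith g (by rw [← hρ]; show LinearMap.trace ℂ _ (ρ g) = LinearMap.trace ℂ _ (ρ 1); rw [hg, map_one ρ]))
  exact ⟨(QuotientGroup.quotientBot.symm.trans
    (QuotientGroup.quotientMulEquivOfEq S.center_eq_bot.symm)).trans e⟩

theorem card_normalizer :
    Nat.card (Subgroup.normalizer (Subgroup.zpowers S.u : Set G)) = p * S.e := by
  set N := Subgroup.normalizer (Subgroup.zpowers S.u : Set G)
  have he0 : 0 < S.e := by have := S.he2; omega
  have huN : S.u ∈ N := Subgroup.le_normalizer (Subgroup.mem_zpowers _)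
  refine le_antisymm ?_ (Nat.le_of_dvd Nat.card_pos ?_)
  · let f : Fin p × Fin S.e → N := fun x => ⟨S.u ^ (x.1 : ℕ) * S.g₀ ^ (x.2 : ℕ),
      mul_mem (pow_mem huN _) (pow_mem S.hg₀N _)⟩
    have hf : Function.Surjective f := fun x => by
      obtain ⟨i, j, hij⟩ := S.hN x.1 x.2
      refine ⟨(⟨i % p, Nat.mod_lt _ hp.out.pos⟩, ⟨j % S.e, Nat.mod_lt _ he0⟩), Subtype.ext ?_⟩
      show S.u ^ (i % p) * S.g₀ ^ (j % S.e) = _
      rw [← pow_eq_pow_mod _ S.pow_p, ← pow_eq_pow_mod _ S.pow_e, hij]
    simpa using Nat.card_le_card_of_surjective f hf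
  · refine Nat.Coprime.mul_dvd_of_dvd_of_dvd ?_ ?_ ?_
    · refine (hp.out.coprime_iff_not_dvd).mpr fun h => ?_
      have := Nat.le_of_dvd he0 h
      have := S.e_lt
      omega
    · exact (dvd_of_eq S.hu.symm).trans (Subgroup.orderOf_dvd_natCard _ huN)
    · exact (dvd_of_eq S.hg₀.symm).trans (Subgroup.orderOf_dvd_natCard _ S.hg₀N)

/-- The order of the group for an even complement. -/
theorem card_of_even (heven : Even S.e) :
    p = 2 * S.e + 1 ∧ Nat.card G = S.e * p * (p + 1) := by
  obtain ⟨B, hB⟩ := S.exists_bsw heven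
  have he2 := S.he2
  have hle := S.two_mul_e_le
  have hpp := hp.out
  have hdiv := S.dvd_card
  rcases B.card_group with h | h <;> rw [hB] at h <;> rw [h] at hdiv <;>
    rcases (Nat.Prime.dvd_mul hpp).mp hdiv with h' | h'
  · have := Nat.le_of_dvd (by omega) h'
    omega
  · rcases (Nat.Prime.dvd_mul hpp).mp h' with h' | h'
    · have := Nat.le_of_dvd (by omega) h'
      have hp' : p = 2 * S.e + 1 := by omega
      refine ⟨hp', ?_⟩
      rw [h]
      generalize S.e = e at hp' ⊢
      subst hp'; ring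
    · have := Nat.le_of_dvd (by omega) h'
      omega
  · have := Nat.le_of_dvd (by omega) h'
    omega
  · rcases (Nat.Prime.dvd_mul hpp).mp h' with h' | h' <;>
    · have := Nat.le_of_dvd (by omega) h'
      omega

/-- Even complement. -/
theorem iso_even (heven : Even S.e) :
    ∃ (F : Type) (_ : Field F) (_ : Fintype F), Fintype.card F = p ∧
      Nonempty (G ≃* Matrix.ProjectiveSpecialLinearGroup (Fin 2) F) := by
  obtain ⟨hpe, hG⟩ := S.card_of_even heven
  have hpp := hp.out
  obtain ⟨P, hP⟩ := (IsPGroup.of_card (n := 1)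
    (by rw [Nat.card_zpowers, S.hu, pow_one])).exists_le_sylow (G := G) (P := Subgroup.zpowers S.u)
  have hPc : Nat.card P = p := by
    obtain ⟨k, hk⟩ := IsPGroup.iff_card.mp P.2
    rw [hk]
    have h1 : p ∣ p ^ k := hk ▸ (by
      have := Subgroup.card_dvd_of_le hP; rwa [Nat.card_zpowers, S.hu] at this)
    rcases k with - | - | k
    · exact absurd (Nat.dvd_one.mp (by simpa using h1)) hpp.ne_one
    · exact pow_one p
    · exact absurd ((pow_dvd_pow p (show 2 ≤ k + 2 by omega)).trans
        (hk ▸ Subgroup.card_subgroup_dvd_card _)) S.hsq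
  have hPu : (P : Subgroup G) = Subgroup.zpowers S.u :=
    (Subgroup.eq_of_le_of_card_ge hP (by rw [hPc, Nat.card_zpowers, S.hu])).symm
  have hn : Nat.card (Sylow p G) = p + 1 := by
    have hidx : (Subgroup.normalizer ((P : Subgroup G) : Set G)).index = Nat.card (Sylow p G) :=
      (Sylow.card_eq_index_normalizer P).symm
    have h1 := (Subgroup.normalizer ((P : Subgroup G) : Set G)).card_mul_index
    rw [hidx, hPu, S.card_normalizer, hG,
      show S.e * p * (p + 1) = p * S.e * (p + 1) by ring] at h1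
    exact Nat.eq_of_mul_eq_mul_left (Nat.mul_pos hpp.pos (by have := S.he2; omega)) h1
  have h5 := S.five_le
  rcases Cfsg.Agent.S0996.result S.commutator_eq_top p S.u S.hu S.hC
    (by rw [hn]; nlinarith) with ⟨F, iF, iFt, hF, -, hiso⟩ | ⟨m, F, iF, iFt, hF, hpm, -, ⟨f⟩⟩
  · exact ⟨F, iF, iFt, hF, hiso⟩
  · -- the exceptional alternative only occurs for `p = 5`
    have hm : m = 2 := by
      letI := iF
      letI := iFt
      have hm0 : m ≠ 0 := fun h => by rw [h] at hpm; omega
      have hq : 2 ∣ 2 ^ m := dvd_pow_self 2 hm0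
      have hc := SL2.card_PSL_mul (F := F)
      rw [← Nat.card_congr f.toEquiv, hG, hF] at hc
      have hgcd : Nat.gcd 2 (2 ^ m - 1) = 1 := by
        refine (Nat.prime_two.coprime_iff_not_dvd).mpr ?_
        have := Nat.one_le_two_pow (n := m)
        omega
      have hqe : 2 ^ m = 2 * S.e := by omega
      rw [hgcd, mul_one, hqe] at hc
      generalize S.e = e at hc hqe hpe
      subst hpe
      obtain ⟨k, hk⟩ : ∃ k, e = k + 2 := ⟨e - 2, by omega⟩
      have hsub : (2 * e) ^ 2 - 1 = (2 * e + 1) * (2 * e - 1) := by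
        rw [← Nat.sq_sub_sq, one_pow]
      rw [hsub, hk, show 2 * (k + 2) - 1 = 2 * k + 3 by omega] at hc
      have hk0 : k = 0 := by
        have h : ((k + 2) * (2 * (k + 2) + 1)) * (2 * (k + 3)) =
            ((k + 2) * (2 * (k + 2) + 1)) * (2 * (2 * k + 3)) := by linear_combination hc
        have := Nat.eq_of_mul_eq_mul_left (by positivity) h
        omega
      rw [hk, hk0] at hqe
      exact Nat.pow_right_injective le_rfl (show 2 ^ m = 2 ^ 2 by rw [hqe])
    subst hm
    obtain ⟨g⟩ := Cfsg.Agent.S0252.result (F := F) (by rw [hF]; norm_num)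
    haveI : Fact (Nat.Prime 5) := ⟨by norm_num⟩
    obtain ⟨g'⟩ := Cfsg.Agent.S0253.result (F := ZMod 5) (ZMod.card 5)
    exact ⟨ZMod 5, inferInstance, inferInstance, by rw [ZMod.card, hpm]; norm_num,
      ⟨(f.trans g).trans g'.symm⟩⟩

theorem iso :
    ∃ (F : Type) (_ : Field F) (_ : Fintype F), Fintype.card F = p ∧
      Nonempty (G ≃* Matrix.ProjectiveSpecialLinearGroup (Fin 2) F) := by
  rcases Nat.even_or_odd S.e with h | h
  · exact S.iso_even h
  · exact ⟨ZMod p, inferInstance, inferInstance, ZMod.card p, S.iso_odd h⟩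

end Setting

variable {α : Type v} [MulAction G α] [FaithfulSMul G α] [MulAction.IsPretransitive G α]

/-- The theorem. -/
theorem main (hα : Nat.card α = p)
    (huniq : ∃! χ : IrrCharacter G, charDegree (χ : G → ℂ) = p) (P : Sylow p G) (E : Subgroup G)
    (hPE : (P : Subgroup G) ⊔ E = Subgroup.normalizer ((P : Subgroup G) : Set G))
    (hPE' : (P : Subgroup G) ⊓ E = ⊥)
    (hNE : Nat.card (Subgroup.normalizer (E : Set G)) = 2 * Nat.card E)
    (hTI : ∀ g : G, g ∉ Subgroup.normalizer (E : Set G) →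
      E ⊓ E.map (MulAut.conj g).toMonoidHom = ⊥) :
    (p = 5 ∨ p = 7 ∨ p = 11) ∧ ∃ (F : Type) (_ : Field F) (_ : Fintype F), Fintype.card F = p ∧
      Nonempty (G ≃* Matrix.ProjectiveSpecialLinearGroup (Fin 2) F) := by
  obtain ⟨S⟩ := exists_setting hα huniq P E hPE hPE' hNE hTI
  obtain ⟨F, iF, iFt, hF, ⟨f⟩⟩ := S.iso
  refine ⟨?_, F, iF, iFt, hF, ⟨f⟩⟩
  by_contra hne
  have h5 := S.five_le
  obtain ⟨a⟩ : Nonempty α := (Nat.card_pos_iff.mp (by rw [hα]; exact hp.out.pos)).1
  set K := (MulAction.stabilizer G a).map f.toMonoidHom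
  have hK : K.index = p := by
    rw [show K.index = (MulAction.stabilizer G a).index from Subgroup.index_map_equiv _ f,
      MulAction.index_stabilizer_of_transitive G a, hα]
  have hq : p ∉ ({2, 3, 5, 7, 9, 11} : Finset ℕ) := by
    simp only [Finset.mem_insert, Finset.mem_singleton]
    rintro (h | h | h | h | h | h)
    all_goals first
      | omega
      | exact hne (by omega)
      | exact (by rw [h]; norm_num : ¬ Nat.Prime p) hp.out
  have := (Cfsg.Agent.S0806.result hF hq).1 K (fun h => by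
    rw [h, Subgroup.index_top] at hK; omega)
  omega

end Cfsg.Agent.Lib.UniqueDegP
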